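import Cfsg.Agent.Dickson.Classification
import Cfsg.Agent.PrimeGraph.PSL2Spectrum

set_option autoImplicit false

/-!
Dickson's list of the subgroups of `PSL₂(q)`.
-/

namespace CfsgLib.Dickson

open OnePoint

/-- `PSL₂(R)`. -/
abbrev PSL2 (R : Type*) [CommRing R] := Matrix.ProjectiveSpecialLinearGroup (Fin 2) R

section Maps

variable {K L : Type*} [Field K] [Field L]

/-- The embedding of `PSL₂(L)` into `PGL₂(K)` along a field embedding. -/
noncomputable def pslHom (φ : L →+* K) : PSL2 L →* PGL2 K :=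
  (Matrix.ProjGenLinGroup.map (n := Fin 2) φ).comp
    (Matrix.ProjectiveSpecialLinearGroup.toPGL (n := Fin 2) (R := L))

theorem pslHom_injective (φ : L →+* K) : Function.Injective (pslHom φ) := by
  classical
  exact (mapHom_injective φ).comp Matrix.ProjectiveSpecialLinearGroup.toPGL_injective

theorem pslHom_range (φ : L →+* K) : (pslHom φ).range = pslImage φ := rfl

theorem pslHom_mk (φ : L →+* K) (A : Matrix.SpecialLinearGroup (Fin 2) L) :
    pslHom φ (QuotientGroup.mk A) =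
      Matrix.SpecialLinearGroup.toPGL (Matrix.SpecialLinearGroup.map φ A) := by
  classical
  exact toPGL_map φ A

theorem pslImage_comp {L' : Type*} [Field L'] (φ : L →+* K) (e : L' ≃+* L) :
    pslImage (φ.comp e.toRingHom) = pslImage φ := by
  classical
  have key : ∀ A : Matrix.SpecialLinearGroup (Fin 2) L',
      pslHom (φ.comp e.toRingHom) (QuotientGroup.mk A) =
        pslHom φ (QuotientGroup.mk (Matrix.SpecialLinearGroup.map e.toRingHom A)) := fun A => by
    rw [pslHom_mk, pslHom_mk]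
    rfl
  rw [← pslHom_range, ← pslHom_range]
  refine le_antisymm ?_ ?_ <;> rintro _ ⟨x, rfl⟩ <;> obtain ⟨A, rfl⟩ := QuotientGroup.mk_surjective x
  · exact ⟨_, (key A).symm⟩
  · refine ⟨QuotientGroup.mk (Matrix.SpecialLinearGroup.map e.symm.toRingHom A), (key _).trans ?_⟩
    congr 2
    ext i j
    simp

theorem pglImage_comp {L' : Type*} [Field L'] (φ : L →+* K) (e : L' ≃+* L) :
    pglImage (φ.comp e.toRingHom) = pglImage φ := by
  have key : ∀ x : PGL2 L', Matrix.ProjGenLinGroup.map (n := Fin 2) (φ.comp e.toRingHom) x =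
      Matrix.ProjGenLinGroup.map φ (Matrix.ProjGenLinGroup.map e.toRingHom x) := fun x => by
    induction x using Matrix.ProjGenLinGroup.induction_on with
    | mk g => rfl
  refine le_antisymm ?_ ?_ <;> rintro _ ⟨x, rfl⟩
  · exact ⟨_, (key x).symm⟩
  · refine ⟨Matrix.ProjGenLinGroup.map e.symm.toRingHom x, (key _).trans ?_⟩
    congr 1
    induction x using Matrix.ProjGenLinGroup.induction_on with
    | mk g =>
      rw [Matrix.ProjGenLinGroup.map_mk, Matrix.ProjGenLinGroup.map_mk]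
      congr 1
      ext i j
      simp

variable [DecidableEq K]

theorem pslHom_up (φ : L →+* K) (a : L) :
    pslHom φ (QuotientGroup.mk (CfsgLib.SL2Pair.up a)) = aff (1 : Kˣ) (φ a) := by
  rw [pslHom_mk, aff, mob]
  simp only [MonoidHom.comp_apply]
  congr 1
  ext i j
  fin_cases i <;> fin_cases j <;> simp [CfsgLib.SL2Pair.up_coe]

theorem pslHom_low_smul_infty (φ : L →+* K) :
    pslHom φ (QuotientGroup.mk (CfsgLib.SL2Pair.low (1 : L))) • (∞ : OnePoint K) =
      ((1 : K) : OnePoint K) := by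
  have h : pslHom φ (QuotientGroup.mk (CfsgLib.SL2Pair.low (1 : L))) = mob 1 0 1 1 (by simp) := by
    rw [pslHom_mk, mob]
    simp only [MonoidHom.comp_apply]
    congr 1
    ext i j
    fin_cases i <;> fin_cases j <;> simp [CfsgLib.SL2Pair.low_coe]
  rw [h, mob_smul_infty]
  simp

/-- Each point of `P¹(L)` is the only fixed point of some element of order dividing `p` of
`PSL₂(L)`. -/
theorem exists_pslHom_fix (p : ℕ) [CharP K p] (φ : L →+* K) (w : OnePoint L) :
    ∃ v ∈ pslImage φ, v ≠ 1 ∧ v ^ p = 1 ∧ fix v = {OnePoint.map φ w} := by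
  classical
  let v := pslHom φ (QuotientGroup.mk (CfsgLib.SL2Pair.up (1 : L)))
  have hv : v = aff (1 : Kˣ) (1 : K) := by show pslHom φ _ = _; rw [pslHom_up, map_one]
  have hvp : v ^ p = 1 := by rw [hv, aff_one_pow, aff_eq_one]; simp
  have hv1 : v ≠ 1 := by rw [hv, Ne, aff_eq_one]; simp
  have hvf : fix v = {∞} := by rw [hv, fix_aff_one one_ne_zero]
  rcases w with _ | t
  · exact ⟨v, ⟨_, rfl⟩, hv1, hvp, hvf⟩
  · let s := pslHom φ (QuotientGroup.mk (CfsgLib.SL2Pair.up (t - 1) * CfsgLib.SL2Pair.low (1 : L)))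
    have hs : s • (∞ : OnePoint K) = ((φ t : K) : OnePoint K) := by
      show pslHom φ _ • _ = _
      rw [QuotientGroup.mk_mul, map_mul, mul_smul, pslHom_low_smul_infty, pslHom_up, aff_smul_coe]
      simp
    refine ⟨s * v * s⁻¹, mul_mem (mul_mem ⟨_, rfl⟩ ⟨_, rfl⟩) (inv_mem ⟨_, rfl⟩), ?_, ?_, ?_⟩
    · simpa [conj_eq_one_iff] using hv1
    · rw [conj_pow, hvp, mul_one, mul_inv_cancel]
    · rw [fix_conj, hvf, Set.image_singleton, hs]
      rfl

end Maps

section Rational

variable {K F : Type*} [Field K] [DecidableEq K] [Field F] [DecidableEq F] [Finite F]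
  (p : ℕ) [Fact p.Prime] [CharP F p]

/-- A `p`-group of `PGL₂(F)` fixes a point of `P¹(F)`. -/
theorem exists_fix_of_isPGroup (Q : Subgroup (PGL2 F)) (hQ : IsPGroup p Q) :
    ∃ w : OnePoint F, ∀ g ∈ Q, g • w = w := by
  let _ := Fintype.ofFinite F
  obtain ⟨n, -, hn⟩ := FiniteField.card F p
  have hcard : Nat.card (OnePoint F) = p ^ (n : ℕ) + 1 := by
    show Nat.card (Option F) = _
    rw [Finite.card_option, Nat.card_eq_fintype_card, hn]
  have : Finite (OnePoint F) := inferInstanceAs (Finite (Option F))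
  obtain ⟨w, hw⟩ := hQ.nonempty_fixed_point_of_prime_not_dvd_card (OnePoint F) (by
    rw [hcard]
    intro h
    exact (Fact.out : p.Prime).one_lt.ne' (Nat.dvd_one.1
      ((Nat.dvd_add_right (dvd_pow_self p n.pos.ne')).1 h)))
  exact ⟨w, fun g hg => hw ⟨g, hg⟩⟩

/-- The unique fixed point of an element of order `p` of `PGL₂(F)` is rational. -/
theorem rational_fix (φ : F →+* K) {g : PGL2 K} (hg : g ∈ pglImage φ) (hgp : g ^ p = 1)
    {x : OnePoint K} (hx : fix g = {x}) : ∃ w, x = OnePoint.map φ w := by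
  obtain ⟨g, rfl⟩ := hg
  have hp : g ^ p = 1 := mapHom_injective φ (by rw [map_pow, hgp, map_one])
  obtain ⟨w, hw⟩ := exists_fix_of_isPGroup p (Subgroup.zpowers g) (fun ⟨y, hy⟩ => ⟨1, by
    obtain ⟨j, rfl⟩ := hy
    apply Subtype.ext
    show (g ^ j) ^ p ^ 1 = 1
    rw [pow_one, ← zpow_natCast, ← zpow_mul, mul_comm, zpow_mul, zpow_natCast, hp, one_zpow]⟩)
  refine ⟨w, ?_⟩
  have : OnePoint.map φ w ∈ fix (Matrix.ProjGenLinGroup.map (n := Fin 2) φ g) := by
    show _ • _ = _
    rw [mapHom_smul, hw g (Subgroup.mem_zpowers g)]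
  rw [hx] at this
  exact this.symm

omit [Finite F] in
/-- A `p`-element fixing `∞` is a translation. -/
theorem pElement_eq_transl {g : PGL2 F} (h1 : g • (∞ : OnePoint F) = ∞) {k : ℕ}
    (hk : g ^ p ^ k = 1) : ∃ a, g = aff (1 : Fˣ) a := by
  obtain ⟨u, a, rfl⟩ := eq_aff_of_fix_infty h1
  have hpow : ∀ n : ℕ, ∃ c, aff u a ^ n = aff (u ^ n) c := fun n => by
    induction n with
    | zero => exact ⟨0, by simp [aff_one_zero]⟩
    | succ n ih =>
      obtain ⟨c, hc⟩ := ih
      exact ⟨_, by rw [pow_succ, hc, aff_mul, ← pow_succ]⟩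
  obtain ⟨c, hc⟩ := hpow (p ^ k)
  rw [hk] at hc
  have hu := (aff_eq_one.1 hc.symm).1
  have : iterateFrobenius F p k (u : F) = iterateFrobenius F p k 1 := by
    rw [iterateFrobenius_def, iterateFrobenius_def, one_pow, ← Units.val_pow_eq_pow_val, hu,
      Units.val_one]
  exact ⟨a, by rw [Units.ext ((iterateFrobenius F p k).injective this : (u : F) = ((1 : Fˣ) : F))]⟩

/-- The point stabiliser of a fixed point of a Sylow `p`-subgroup normalises it. -/
theorem le_normalizer_sylow (P : Sylow p (PSL2 F)) {w : OnePoint F}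
    (hw : ∀ g ∈ (P : Subgroup (PSL2 F)), Matrix.ProjectiveSpecialLinearGroup.toPGL g • w = w)
    {g : PSL2 F} (hg : Matrix.ProjectiveSpecialLinearGroup.toPGL g • w = w) :
    g ∈ Subgroup.normalizer ((P : Subgroup (PSL2 F)) : Set (PSL2 F)) := by
  obtain ⟨h, hh⟩ := exists_smul_eq_infty w
  let τ : Multiplicative F →* PGL2 F :=
    { toFun := fun a => aff (1 : Fˣ) a.toAdd
      map_one' := aff_one_zero
      map_mul' := fun a b => by rw [aff_mul]; simp [add_comm] }
  let T : Subgroup (PGL2 F) := τ.range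
  let f : PSL2 F →* PGL2 F :=
    (MulAut.conj h).toMonoidHom.comp Matrix.ProjectiveSpecialLinearGroup.toPGL
  have hf : Function.Injective f :=
    (MulAut.conj h).injective.comp Matrix.ProjectiveSpecialLinearGroup.toPGL_injective
  have hT : IsPGroup p T := fun x => ⟨1, by
    obtain ⟨_, a, rfl⟩ := x
    apply Subtype.ext
    show aff (1 : Fˣ) a.toAdd ^ p ^ 1 = 1
    rw [pow_one, aff_one_pow, aff_eq_one]
    simp⟩
  have hQ : IsPGroup p (T.comap f) := hT.comap_of_injective f hf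
  have hPQ : (P : Subgroup (PSL2 F)) ≤ T.comap f := by
    intro y hy
    obtain ⟨k, hk⟩ := P.isPGroup' ⟨y, hy⟩
    have hk' : f y ^ p ^ k = 1 := by rw [← map_pow, show y ^ p ^ k = 1 from congrArg Subtype.val hk, map_one]
    have hfix : f y • (∞ : OnePoint F) = ∞ := by
      show (h * _ * h⁻¹) • _ = _
      rw [← hh, mul_smul, mul_smul, inv_smul_smul, hw y hy]
    obtain ⟨a, ha⟩ := pElement_eq_transl p hfix hk'
    exact ⟨Multiplicative.ofAdd a, ha.symm⟩
  have hPeq : T.comap f = P := P.is_maximal' hQ hPQ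
  rw [← hPeq]
  obtain ⟨u, c, huc⟩ : ∃ u c, f g = aff u c := eq_aff_of_fix_infty (by
    show (h * _ * h⁻¹) • _ = _
    rw [← hh, mul_smul, mul_smul, inv_smul_smul, hg])
  have hgN : g ∈ Subgroup.normalizer ((T.comap f : Subgroup (PSL2 F)) : Set (PSL2 F)) := by
    rw [Subgroup.mem_normalizer_iff]
    intro y
    simp only [Subgroup.mem_comap, map_mul, map_inv, huc]
    constructor
    · rintro ⟨a, ha⟩
      refine ⟨Multiplicative.ofAdd ((u : F) * a.toAdd), ?_⟩
      rw [← ha, eq_mul_inv_iff_mul_eq]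
      show aff (1 : Fˣ) _ * aff u c = aff u c * aff (1 : Fˣ) a.toAdd
      rw [aff_mul, aff_mul]
      simp [add_comm]
    · rintro ⟨a, ha⟩
      refine ⟨Multiplicative.ofAdd ((u⁻¹ : Fˣ) * a.toAdd), ?_⟩
      apply mul_left_cancel (a := aff u c)
      have ha' := mul_inv_eq_iff_eq_mul.1 ha.symm
      rw [ha']
      show aff u c * aff (1 : Fˣ) _ = aff (1 : Fˣ) a.toAdd * aff u c
      rw [aff_mul, aff_mul]
      simp [← mul_assoc, add_comm]
  exact hgN

end Rational

section Classification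

variable {F : Type*} [Field F] [Finite F] (p : ℕ) [Fact p.Prime] [CharP F p]

/-- The order of a `p'`-element divides `(q - 1) / d` or `(q + 1) / d`. -/
theorem orderOf_dvd_torus {g : PSL2 F} (h : ¬ p ∣ orderOf g) :
    orderOf g ∣ (Nat.card F - 1) / Nat.gcd 2 (Nat.card F - 1) ∨
      orderOf g ∣ (Nat.card F + 1) / Nat.gcd 2 (Nat.card F - 1) := by
  let _ := Fintype.ofFinite F
  rw [Nat.card_eq_fintype_card]
  rcases CfsgLib.PSL2Spec.orderOf_dvd p g with h' | h'
  · rcases (Nat.dvd_prime (Fact.out : p.Prime)).1 h' with h'' | h''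
    · left; rw [h'']; exact one_dvd _
    · exact absurd (dvd_of_eq h''.symm) h
  · exact h'

/-- **Dickson's list** for the subgroups of `PSL₂(F)`. -/
theorem psl_classification (H : Subgroup (PSL2 F)) :
    (∃ P : Sylow p (PSL2 F), p ∣ Nat.card H ∧
      H ≤ Subgroup.normalizer ((P : Subgroup (PSL2 F)) : Set (PSL2 F))) ∨
    (IsCyclic H ∧ ¬ p ∣ Nat.card H ∧
      (Nat.card H ∣ (Nat.card F - 1) / Nat.gcd 2 (Nat.card F - 1) ∨
        Nat.card H ∣ (Nat.card F + 1) / Nat.gcd 2 (Nat.card F - 1))) ∨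
    (∃ n, 2 ≤ n ∧ ¬ p ∣ n ∧ (n ∣ (Nat.card F - 1) / Nat.gcd 2 (Nat.card F - 1) ∨
        n ∣ (Nat.card F + 1) / Nat.gcd 2 (Nat.card F - 1)) ∧
      Nat.card H = 2 * n ∧ Nonempty (H ≃* DihedralGroup n)) ∨
    (5 ≤ p ∧ Nat.card H = 12 ∧ Nonempty (H ≃* alternatingGroup (Fin 4))) ∨
    (5 ≤ p ∧ Nat.card H = 24 ∧ Nonempty (H ≃* Equiv.Perm (Fin 4))) ∨
    (p ≠ 2 ∧ p ≠ 5 ∧ Nat.card H = 60 ∧ Nonempty (H ≃* alternatingGroup (Fin 5))) ∨
    (∃ f m, 1 ≤ f ∧ 1 ≤ m ∧ Nat.card F = (p ^ f) ^ m ∧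
      (Nonempty (H ≃* PGL2 (GaloisField p f)) ∨
        (p ≠ 2 ∧ Nonempty (H ≃* PSL2 (GaloisField p f))))) := by
  classical
  let K := AlgebraicClosure F
  let φ : F →+* K := algebraMap F K
  have : CharP K p := (φ.charP_iff φ.injective p).1 inferInstance
  let ι := pslHom φ
  have hι : Function.Injective ι := pslHom_injective φ
  let H' : Subgroup (PGL2 K) := H.map ι
  let e : H ≃* H' := H.equivMapOfInjective ι hι
  have : Finite H' := Finite.of_equiv _ e.toEquiv
  have hcard : Nat.card H' = Nat.card H := (Nat.card_congr e.toEquiv).symm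
  have hrat : H' ≤ pglImage φ := by rintro _ ⟨g, -, rfl⟩; exact ⟨_, rfl⟩
  rcases classification p H' with ⟨x, hx⟩ | ⟨n, hn, hpn, hN, ⟨d⟩⟩ | ⟨hp, hN, ⟨d⟩⟩ | ⟨hp, hN, ⟨d⟩⟩ |
    ⟨hp2, hp5, hN, ⟨d⟩⟩ | ⟨f, hf, g, hg⟩
  · by_cases hp : p ∣ Nat.card H
    · left
      obtain ⟨⟨u, hu⟩, huo⟩ := exists_prime_orderOf_dvd_card' p hp
      rw [← Subgroup.orderOf_coe] at huo
      replace huo : orderOf u = p := huo
      obtain ⟨P, hP⟩ := IsPGroup.exists_le_sylow (p := p) (P := Subgroup.zpowers u)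
        (IsPGroup.iff_card.2 ⟨1, by rw [Nat.card_zpowers, pow_one]; exact huo⟩)
      obtain ⟨w, hw⟩ := exists_fix_of_isPGroup p
        ((P : Subgroup (PSL2 F)).map Matrix.ProjectiveSpecialLinearGroup.toPGL) (P.isPGroup'.map _)
      have huw : ι u • OnePoint.map φ w = OnePoint.map φ w := by
        show Matrix.ProjGenLinGroup.map φ _ • _ = _
        rw [mapHom_smul, hw _ ⟨u, hP (Subgroup.mem_zpowers u), rfl⟩]
      obtain ⟨z, hz⟩ : ∃ z, fix (ι u) = {z} := by
        refine fix_singleton_of_pow p ?_ (k := 1) ?_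
        · rw [Ne, map_eq_one_iff ι hι]
          intro h
          exact (Fact.out : p.Prime).one_lt.ne (by rw [← huo, h, orderOf_one])
        · rw [pow_one, ← map_pow, ← huo, pow_orderOf_eq_one, map_one]
      have h1 : x ∈ fix (ι u) := hx _ ⟨u, hu, rfl⟩
      have h2 : OnePoint.map φ w ∈ fix (ι u) := huw
      rw [hz] at h1 h2
      refine ⟨P, hp, fun g hg => le_normalizer_sylow p P (fun y hy => hw _ ⟨y, hy, rfl⟩) ?_⟩
      apply Option.map_injective φ.injective
      show OnePoint.map φ _ = OnePoint.map φ w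
      rw [← mapHom_smul, h2, ← h1]
      exact hx _ ⟨g, hg, rfl⟩
    · right; left
      obtain ⟨k, hk⟩ := exists_smul_eq_infty x
      have hfix : ∀ a : H, (k * ι a * k⁻¹) • (∞ : OnePoint K) = ∞ := fun a => by
        rw [← hk, mul_smul, mul_smul, inv_smul_smul, hx _ ⟨a, a.2, rfl⟩]
      choose u c huc using fun a => eq_aff_of_fix_infty (hfix a)
      let μ₀ : H →* Kˣ := MonoidHom.mk' u (fun a b => by
        have h : k * ι (a * b : H) * k⁻¹ = (k * ι a * k⁻¹) * (k * ι b * k⁻¹) := by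
          rw [Subgroup.coe_mul, map_mul]; group
        rw [huc, huc, huc, aff_mul] at h
        exact (aff_inj h).1)
      let μ : H →* K := (Units.coeHom K).comp μ₀
      have hμ : Function.Injective μ := by
        rw [injective_iff_map_eq_one]
        intro a ha
        have hu1 : u a = 1 := Units.ext ha
        have hpow : (k * ι a * k⁻¹) ^ p = 1 := by
          rw [huc, hu1, aff_one_pow, aff_eq_one]; simp
        rw [conj_pow, mul_inv_eq_one, mul_eq_left, ← map_pow, map_eq_one_iff ι hι] at hpow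
        have hd : orderOf a ∣ p := by
          rw [← Subgroup.orderOf_coe]; exact orderOf_dvd_of_pow_eq_one hpow
        rcases (Nat.dvd_prime (Fact.out : p.Prime)).1 hd with h | h
        · exact orderOf_eq_one_iff.1 h
        · exact absurd (h ▸ orderOf_dvd_natCard a) hp
      have hcyc : IsCyclic H := isCyclic_of_injective_ringHom μ hμ
      obtain ⟨a, ha⟩ := hcyc.exists_ofOrder_eq_natCard
      refine ⟨hcyc, hp, ?_⟩
      rw [← ha, ← Subgroup.orderOf_coe]
      exact orderOf_dvd_torus p (by rw [Subgroup.orderOf_coe, ha]; exact hp)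
  · refine Or.inr (Or.inr (Or.inl ⟨n, hn, hpn, ?_, hcard ▸ hN, ⟨e.trans d⟩⟩))
    let a : H := (e.trans d).symm (DihedralGroup.r 1)
    have ha : orderOf (a : PSL2 F) = n := by
      rw [Subgroup.orderOf_coe, MulEquiv.orderOf_eq, DihedralGroup.orderOf_r_one]
    exact ha ▸ orderOf_dvd_torus p (by rw [ha]; exact hpn)
  · exact Or.inr (Or.inr (Or.inr (Or.inl ⟨hp, hcard ▸ hN, ⟨e.trans d⟩⟩)))
  · exact Or.inr (Or.inr (Or.inr (Or.inr (Or.inl ⟨hp, hcard ▸ hN, ⟨e.trans d⟩⟩))))
  · exact Or.inr (Or.inr (Or.inr (Or.inr (Or.inr (Or.inl ⟨hp2, hp5, hcard ▸ hN, ⟨e.trans d⟩⟩)))))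
  refine Or.inr (Or.inr (Or.inr (Or.inr (Or.inr (Or.inr ?_)))))
  set F₀ := frobFix (K := K) p f
  have := finite_frobFix (K := K) p hf
  have : CharP F₀ p := (F₀.subtype.charP_iff Subtype.val_injective p).2 inferInstance
  -- every point of `P¹(F₀)` goes to a rational point
  have hsub : pslImage F₀.subtype ≤ conjH g H' := by
    rcases hg with hg | ⟨-, hg⟩
    · rw [hg]; rintro _ ⟨y, rfl⟩; exact ⟨_, rfl⟩
    · rw [hg]
  have hback : ∀ w : OnePoint F₀, ∃ z : OnePoint F, g⁻¹ • OnePoint.map F₀.subtype w = OnePoint.map φ z := by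
    intro w
    obtain ⟨v, hv, -, hvp, hvf⟩ := exists_pslHom_fix p F₀.subtype w
    obtain ⟨v', hv', he⟩ := hsub hv
    have he' : v' = g⁻¹ * v * g⁻¹⁻¹ := by
      rw [← he]
      simp only [MulEquiv.coe_toMonoidHom, MulAut.conj_apply]
      group
    refine rational_fix p φ (hrat hv') ?_ ?_
    · rw [he', conj_pow, hvp, mul_one, mul_inv_cancel]
    · rw [he', fix_conj, hvf, Set.image_singleton]
  have hgF : g ∈ pglImage φ := by
    obtain ⟨a, ha⟩ := hback ∞
    obtain ⟨b, hb⟩ := hback ((0 : F₀) : OnePoint F₀)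
    obtain ⟨c, hc⟩ := hback ((1 : F₀) : OnePoint F₀)
    rw [OnePoint.map_infty] at ha
    rw [OnePoint.map_some, map_zero] at hb
    rw [OnePoint.map_some, map_one] at hc
    exact inv_mem_iff.1 (mem_range_mapHom φ ha hb hc)
  have hmemF : ∀ t : F₀, ∃ s : F, φ s = t := by
    intro t
    obtain ⟨z, hz⟩ := hback ((t : F₀) : OnePoint F₀)
    obtain ⟨g', hg'⟩ := hgF
    have : OnePoint.map F₀.subtype ((t : F₀) : OnePoint F₀) = OnePoint.map φ (g' • z) := by
      rw [← mapHom_smul, hg', ← hz, smul_inv_smul]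
    rw [OnePoint.map_some] at this
    generalize g' • z = z' at this
    rcases z' with _ | s
    · exact absurd this (coe_ne_infty _)
    · exact ⟨s, (coe_injective this).symm⟩
  choose s hs using hmemF
  let ψ : F₀ →+* F :=
    { toFun := s
      map_one' := φ.injective (by rw [hs]; simp)
      map_mul' := fun a b => φ.injective (by rw [map_mul, hs, hs, hs]; simp)
      map_zero' := φ.injective (by rw [hs]; simp)
      map_add' := fun a b => φ.injective (by rw [map_add, hs, hs, hs]; simp) }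
  let _ : Algebra F₀ F := ψ.toAlgebra
  let _ := Fintype.ofFinite F₀
  let _ := Fintype.ofFinite F
  have hpow := Module.card_eq_pow_finrank (K := F₀) (V := F)
  rw [← Nat.card_eq_fintype_card, ← Nat.card_eq_fintype_card, card_frobFix p hf] at hpow
  refine ⟨f, Module.finrank F₀ F, hf, ?_, hpow, ?_⟩
  · by_contra h
    have h1 := Finite.one_lt_card (α := F)
    rw [hpow, show Module.finrank F₀ F = 0 by omega, pow_zero] at h1
    omega
  let _ : Algebra (ZMod p) F₀ := ZMod.algebra F₀ p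
  let ε : GaloisField p f ≃+* F₀ := (GaloisField.algEquivGaloisField p f (card_frobFix p hf)).symm.toRingEquiv
  let θ : GaloisField p f →+* K := F₀.subtype.comp ε.toRingHom
  let e' : H ≃* conjH g H' := e.trans (conjHEquiv g H')
  rcases hg with hg | ⟨hp2, hg⟩
  · left
    rw [← pglImage_comp F₀.subtype ε] at hg
    exact ⟨(e'.trans (MulEquiv.subgroupCongr hg)).trans (pglImageEquiv θ).symm⟩
  · right
    rw [← pslImage_comp F₀.subtype ε] at hg
    exact ⟨hp2, ⟨(e'.trans (MulEquiv.subgroupCongr hg)).trans (pslImageEquiv θ).symm⟩⟩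

end Classification

end CfsgLib.Dickson
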