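import Mathlib.Topology.Compactification.OnePoint.ProjectiveLine
import Mathlib.LinearAlgebra.Matrix.GeneralLinearGroup.Projective
import Mathlib.FieldTheory.IsAlgClosed.Basic
import Mathlib.GroupTheory.OrderOfElement
import Mathlib.Algebra.CharP.Basic

set_option autoImplicit false

/-!
`PGL₂(K)` acting on the projective line `OnePoint K`: sharp 3-transitivity and fixed points.
-/

namespace CfsgLib.Dickson

open Matrix OnePoint

variable {K : Type*} [Field K] [DecidableEq K]

variable (K) in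
/-- The group `PGL₂(K)`. -/
abbrev PGL2 : Type _ := Matrix.ProjGenLinGroup (Fin 2) K

theorem scalar_smul (u : Kˣ) (x : OnePoint K) :
    GeneralLinearGroup.scalar (Fin 2) u • x = x := by
  cases x with
  | infty => simp [smul_infty_eq_ite, GeneralLinearGroup.coe_scalar]
  | coe c => simp [smul_some_eq_ite, GeneralLinearGroup.coe_scalar]

instance pglAction : MulAction (PGL2 K) (OnePoint K) :=
  ProjGenLinGroup.mulActionOfGL scalar_smul

theorem mk_smul_eq (g : GL (Fin 2) K) (x : OnePoint K) : ProjGenLinGroup.mk g • x = g • x := rfl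

/-- The matrix `(a b; c d)` as an element of `PGL₂(K)`. -/
noncomputable def mob (a b c d : K) (h : a * d - b * c ≠ 0) : PGL2 K :=
  ProjGenLinGroup.mk (GeneralLinearGroup.mkOfDetNeZero !![a, b; c, d] (by rwa [det_fin_two_of]))

theorem mob_smul_infty (a b c d : K) (h : a * d - b * c ≠ 0) :
    mob a b c d h • (∞ : OnePoint K) = if c = 0 then ∞ else ↑(a / c) := by
  simp [mob, mk_smul_eq, smul_infty_eq_ite, GeneralLinearGroup.mkOfDetNeZero]

theorem mob_smul_coe (a b c d : K) (h : a * d - b * c ≠ 0) (x : K) :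
    mob a b c d h • (x : OnePoint K) =
      if c * x + d = 0 then ∞ else ↑((a * x + b) / (c * x + d)) := by
  simp [mob, mk_smul_eq, smul_some_eq_ite, GeneralLinearGroup.mkOfDetNeZero]

theorem eq_one_of_fix3 {g : PGL2 K} (h1 : g • (∞ : OnePoint K) = ∞)
    (h2 : g • ((0 : K) : OnePoint K) = (0 : K)) (h3 : g • ((1 : K) : OnePoint K) = (1 : K)) :
    g = 1 := by
  induction g using ProjGenLinGroup.induction_on with
  | mk g =>
    rw [mk_smul_eq] at h1 h2 h3
    rw [smul_infty_eq_self_iff] at h1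
    have hd : g 1 1 ≠ 0 := fun h => g.det_ne_zero (by simp [det_fin_two, h1, h])
    rw [smul_some_eq_ite] at h2 h3
    simp [h1, hd] at h2 h3
    rw [h2, add_zero, div_eq_one_iff_eq hd] at h3
    rw [ProjGenLinGroup.mk_eq_one, GeneralLinearGroup.center_eq_range_scalar]
    refine ⟨Units.mk0 _ hd, ?_⟩
    ext i j
    fin_cases i <;> fin_cases j <;> simp [GeneralLinearGroup.coe_scalar, h1, h2, h3]

theorem eq_of_eq3 {g h : PGL2 K} (h1 : g • (∞ : OnePoint K) = h • ∞)
    (h2 : g • ((0 : K) : OnePoint K) = h • ((0 : K) : OnePoint K))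
    (h3 : g • ((1 : K) : OnePoint K) = h • ((1 : K) : OnePoint K)) : g = h :=
  (inv_mul_eq_one.1 (eq_one_of_fix3 (g := h⁻¹ * g) (by rw [mul_smul, h1, inv_smul_smul])
    (by rw [mul_smul, h2, inv_smul_smul]) (by rw [mul_smul, h3, inv_smul_smul]))).symm

/-- The affine map `x ↦ u x + a`. -/
noncomputable def aff (u : Kˣ) (a : K) : PGL2 K := mob (u : K) a 0 1 (by simp)

theorem aff_smul_infty (u : Kˣ) (a : K) : aff u a • (∞ : OnePoint K) = ∞ := by
  simp [aff, mob_smul_infty]

theorem aff_smul_coe (u : Kˣ) (a x : K) :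
    aff u a • (x : OnePoint K) = ↑((u : K) * x + a) := by
  simp [aff, mob_smul_coe]

theorem aff_mul (u v : Kˣ) (a b : K) : aff u a * aff v b = aff (u * v) ((u : K) * b + a) := by
  refine eq_of_eq3 ?_ ?_ ?_ <;> simp [mul_smul, aff_smul_infty, aff_smul_coe]
  ring

theorem aff_one_zero : aff (1 : Kˣ) (0 : K) = 1 := by
  refine eq_of_eq3 ?_ ?_ ?_ <;> simp [aff_smul_infty, aff_smul_coe]

theorem aff_inj {u v : Kˣ} {a b : K} (h : aff u a = aff v b) : u = v ∧ a = b := by
  have h0 := congrArg (· • ((0 : K) : OnePoint K)) h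
  have h1 := congrArg (· • ((1 : K) : OnePoint K)) h
  simp [aff_smul_coe] at h0 h1
  subst h0
  exact ⟨by simpa [Units.ext_iff] using h1, rfl⟩

theorem aff_eq_one {u : Kˣ} {a : K} : aff u a = 1 ↔ u = 1 ∧ a = 0 :=
  ⟨fun h => aff_inj (h.trans aff_one_zero.symm), fun ⟨h, h'⟩ => by rw [h, h', aff_one_zero]⟩

theorem aff_one_pow (a : K) : ∀ n : ℕ, aff (1 : Kˣ) a ^ n = aff (1 : Kˣ) (n * a)
  | 0 => by simp [aff_one_zero]
  | n + 1 => by
    rw [pow_succ, aff_one_pow a n, aff_mul]
    congr 1 <;> simp [add_mul, add_comm]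

theorem aff_zero_pow (u : Kˣ) : ∀ n : ℕ, aff u (0 : K) ^ n = aff (u ^ n) 0
  | 0 => by simp [aff_one_zero]
  | n + 1 => by rw [pow_succ, aff_zero_pow u n, aff_mul, pow_succ]; simp

theorem eq_aff_of_fix_infty {g : PGL2 K} (h : g • (∞ : OnePoint K) = ∞) :
    ∃ u a, g = aff u a := by
  obtain ⟨a, ha⟩ : ∃ a : K, g • ((0 : K) : OnePoint K) = a := by
    rcases hz : g • ((0 : K) : OnePoint K) with _ | a
    · exact absurd (MulAction.injective g (hz.trans h.symm)) (coe_ne_infty _)
    · exact ⟨a, rfl⟩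
  obtain ⟨b, hb⟩ : ∃ b : K, g • ((1 : K) : OnePoint K) = b := by
    rcases hz : g • ((1 : K) : OnePoint K) with _ | a
    · exact absurd (MulAction.injective g (hz.trans h.symm)) (coe_ne_infty _)
    · exact ⟨a, rfl⟩
  have hab : b - a ≠ 0 := by
    rw [sub_ne_zero]; rintro rfl
    exact one_ne_zero (coe_injective (MulAction.injective g (hb.trans ha.symm)))
  exact ⟨Units.mk0 _ hab, a, eq_of_eq3 (by rw [aff_smul_infty, h]) (by simp [aff_smul_coe, ha])
    (by simp [aff_smul_coe, hb])⟩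

theorem eq_dil_of_fix {g : PGL2 K} (h : g • (∞ : OnePoint K) = ∞)
    (h0 : g • ((0 : K) : OnePoint K) = (0 : K)) : ∃ u, g = aff u 0 := by
  obtain ⟨u, a, rfl⟩ := eq_aff_of_fix_infty h
  simp [aff_smul_coe] at h0
  exact ⟨u, by rw [h0]⟩

theorem exists_smul_eq_infty (x : OnePoint K) : ∃ g : PGL2 K, g • x = ∞ := by
  rcases x with _ | t
  · exact ⟨1, one_smul _ _⟩
  · exact ⟨mob 0 1 1 (-t) (by simp), by
      show mob 0 1 1 (-t) (by simp) • (t : OnePoint K) = ∞
      simp [mob_smul_coe]⟩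

theorem exists_smul_pair {x y : OnePoint K} (hxy : x ≠ y) :
    ∃ g : PGL2 K, g • x = ∞ ∧ g • y = ((0 : K) : OnePoint K) := by
  obtain ⟨g, hg⟩ := exists_smul_eq_infty x
  obtain ⟨t, ht⟩ : ∃ t : K, g • y = t := by
    rcases hz : g • y with _ | a
    · exact absurd (MulAction.injective g (hg.trans hz.symm)) hxy
    · exact ⟨a, rfl⟩
  exact ⟨aff 1 (-t) * g, by rw [mul_smul, hg, aff_smul_infty], by simp [mul_smul, ht, aff_smul_coe]⟩

theorem exists_smul_triple {x y z : OnePoint K} (hxy : x ≠ y) (hxz : x ≠ z) (hyz : y ≠ z) :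
    ∃ g : PGL2 K, g • x = ∞ ∧ g • y = ((0 : K) : OnePoint K) ∧ g • z = ((1 : K) : OnePoint K) := by
  obtain ⟨g, hx, hy⟩ := exists_smul_pair hxy
  obtain ⟨t, ht⟩ : ∃ t : K, g • z = t := by
    rcases hz : g • z with _ | a
    · exact absurd (MulAction.injective g (hx.trans hz.symm)) hxz
    · exact ⟨a, rfl⟩
  have ht0 : t ≠ 0 := by
    rintro rfl
    exact hyz (MulAction.injective g (hy.trans ht.symm))
  exact ⟨aff (Units.mk0 t ht0)⁻¹ 0 * g, by rw [mul_smul, hx, aff_smul_infty],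
    by simp [mul_smul, hy, aff_smul_coe], by simp [mul_smul, ht, aff_smul_coe, ht0]⟩

theorem eq_one_of_fix_three {g : PGL2 K} {x y z : OnePoint K} (hxy : x ≠ y) (hxz : x ≠ z)
    (hyz : y ≠ z) (hx : g • x = x) (hy : g • y = y) (hz : g • z = z) : g = 1 := by
  obtain ⟨h, h1, h2, h3⟩ := exists_smul_triple hxy hxz hyz
  have key : ∀ {w v : OnePoint K}, g • w = w → h • w = v → (h * g * h⁻¹) • v = v := by
    intro w v hw hv
    rw [← hv, mul_smul, mul_smul, inv_smul_smul, hw]
  have := eq_one_of_fix3 (key hx h1) (key hy h2) (key hz h3)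
  rwa [mul_inv_eq_one, mul_eq_left] at this

/-- An element swapping two distinct points is an involution. -/
theorem sq_eq_one_of_swap {g : PGL2 K} {x y : OnePoint K} (hxy : x ≠ y) (hx : g • x = y)
    (hy : g • y = x) : g * g = 1 := by
  obtain ⟨h, h1, h2⟩ := exists_smul_pair hxy
  obtain ⟨w, hw⟩ : ∃ w, w = h * g * h⁻¹ := ⟨_, rfl⟩
  have e1 : w • (∞ : OnePoint K) = ((0 : K) : OnePoint K) := by
    rw [hw, ← h1, mul_smul, mul_smul, inv_smul_smul, hx, h2]
  have e2 : w • ((0 : K) : OnePoint K) = ∞ := by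
    rw [hw, ← h2, mul_smul, mul_smul, inv_smul_smul, hy, h1]
  obtain ⟨c, hc⟩ : ∃ c : K, w • ((1 : K) : OnePoint K) = c := by
    rcases hz : w • ((1 : K) : OnePoint K) with _ | a
    · exact absurd (MulAction.injective w (e2.trans hz.symm)) (by simp)
    · exact ⟨a, rfl⟩
  have hc0 : c ≠ 0 := by
    rintro rfl
    exact coe_ne_infty (1 : K) (MulAction.injective w (hc.trans e1.symm))
  have e3 : w = mob 0 c 1 0 (by simp [hc0]) := by
    refine eq_of_eq3 ?_ ?_ ?_
    · rw [e1, mob_smul_infty]; simp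
    · rw [e2, mob_smul_coe]; simp
    · rw [hc, mob_smul_coe]; simp
  have e4 : w * w = 1 := by
    refine eq_of_eq3 ?_ ?_ ?_
    · rw [mul_smul, e1, e2, one_smul]
    · rw [mul_smul, e2, e1, one_smul]
    · rw [mul_smul, hc, one_smul, e3, mob_smul_coe]; simp [hc0]
  rw [hw, show h * g * h⁻¹ * (h * g * h⁻¹) = h * (g * g) * h⁻¹ by group, mul_inv_eq_one,
    mul_eq_left] at e4
  exact e4

/-- The set of fixed points of `g`. -/
def fix (g : PGL2 K) : Set (OnePoint K) := {x | g • x = x}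

theorem fix_conj (h g : PGL2 K) : fix (h * g * h⁻¹) = (h • ·) '' fix g := by
  ext x
  constructor
  · intro hx
    refine ⟨h⁻¹ • x, ?_, smul_inv_smul h x⟩
    have hx' : h • g • h⁻¹ • x = x := by rw [← mul_smul, ← mul_smul]; exact hx
    show g • h⁻¹ • x = h⁻¹ • x
    rw [eq_inv_smul_iff]; exact hx'
  · rintro ⟨y, hy, rfl⟩
    show (h * g * h⁻¹) • h • y = h • y
    rw [mul_smul, mul_smul, inv_smul_smul, hy]

theorem encard_fix_le_two {g : PGL2 K} (hg : g ≠ 1) : (fix g).encard ≤ 2 := by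
  by_contra h
  push Not at h
  obtain ⟨t, hts, htc⟩ := Set.exists_subset_encard_eq (k := 3) (s := fix g) (Order.add_one_le_of_lt h)
  obtain ⟨x, y, z, hxy, hxz, hyz, rfl⟩ := Set.encard_eq_three.1 htc
  have hx := hts (Set.mem_insert x _)
  have hy := hts (Set.mem_insert_of_mem x (Set.mem_insert y _))
  have hz := hts (Set.mem_insert_of_mem x (Set.mem_insert_of_mem y rfl))
  exact hg (eq_one_of_fix_three hxy hxz hyz hx hy hz)

theorem fix_finite {g : PGL2 K} (hg : g ≠ 1) : (fix g).Finite :=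
  Set.finite_of_encard_le_coe (k := 2) (encard_fix_le_two hg)

theorem fix_aff_one {a : K} (ha : a ≠ 0) : fix (aff (1 : Kˣ) a) = {∞} := by
  ext x
  rcases x with _ | t
  · exact iff_of_true (aff_smul_infty _ _) rfl
  · show aff (1 : Kˣ) a • (t : OnePoint K) = (t : OnePoint K) ↔ (t : OnePoint K) ∈ ({∞} : Set (OnePoint K))
    simp [aff_smul_coe, ha]

theorem fix_aff_ne_one {u : Kˣ} (hu : u ≠ 1) (a : K) :
    fix (aff u a) = {∞, ((a / (1 - (u : K)) : K) : OnePoint K)} := by
  have hu' : (1 : K) - u ≠ 0 := sub_ne_zero.2 fun h => hu (Units.ext h.symm)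
  ext x
  rcases x with _ | t
  · exact iff_of_true (aff_smul_infty _ _) (Or.inl rfl)
  · show aff u a • (t : OnePoint K) = (t : OnePoint K) ↔
      (t : OnePoint K) ∈ ({∞, ((a / (1 - (u : K)) : K) : OnePoint K)} : Set (OnePoint K))
    simp [aff_smul_coe, eq_div_iff hu']
    constructor <;> intro h <;> linear_combination -h

variable [IsAlgClosed K]

theorem fix_nonempty (g : PGL2 K) : (fix g).Nonempty := by
  induction g using ProjGenLinGroup.induction_on with
  | mk g =>
    by_cases hc : g 1 0 = 0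
    · exact ⟨∞, smul_infty_eq_self_iff.2 hc⟩
    · have hdeg : (GeneralLinearGroup.fixpointPolynomial g).degree ≠ 0 := by
        intro h
        have := Polynomial.coeff_eq_zero_of_degree_lt (p := GeneralLinearGroup.fixpointPolynomial g)
          (n := 2) (by rw [h]; exact WithBot.coe_lt_coe.2 Nat.two_pos)
        simp [GeneralLinearGroup.fixpointPolynomial] at this
        exact hc this
      obtain ⟨c, hc'⟩ := IsAlgClosed.exists_root _ hdeg
      exact ⟨(c : OnePoint K),
        GeneralLinearGroup.fixpointPolynomial_aeval_eq_zero_iff.1 (by simpa [Polynomial.IsRoot] using hc')⟩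

variable (p : ℕ) [Fact p.Prime] [CharP K p]

omit [IsAlgClosed K] in
theorem orderOf_of_fix_eq_singleton {g : PGL2 K} {x : OnePoint K} (hg : g ≠ 1) (h : fix g = {x}) :
    orderOf g = p := by
  obtain ⟨k, hk⟩ := exists_smul_eq_infty x
  have hf : fix (k * g * k⁻¹) = {∞} := by rw [fix_conj, h, Set.image_singleton, hk]
  have hinf : (∞ : OnePoint K) ∈ fix (k * g * k⁻¹) := hf ▸ rfl
  obtain ⟨u, a, he⟩ := eq_aff_of_fix_infty hinf
  have hu : u = 1 := by
    by_contra hu
    rw [he, fix_aff_ne_one hu] at hf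
    have : ((a / (1 - (u : K)) : K) : OnePoint K) ∈ ({∞} : Set (OnePoint K)) := hf ▸ Or.inr rfl
    exact coe_ne_infty _ this
  subst hu
  have ho : orderOf (k * g * k⁻¹) = orderOf g :=
    orderOf_injective (MulAut.conj k).toMonoidHom (MulAut.conj k).injective g
  rw [← ho, he]
  refine orderOf_eq_prime ?_ ?_
  · rw [aff_one_pow, CharP.cast_eq_zero, zero_mul, aff_one_zero]
  · intro h1
    rw [h1, mul_inv_eq_one, mul_eq_left] at he
    exact hg he

omit [IsAlgClosed K] in
theorem not_dvd_orderOf_of_two {g : PGL2 K} {x y : OnePoint K} (hxy : x ≠ y) (hx : g • x = x)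
    (hy : g • y = y) (hfin : orderOf g ≠ 0) : ¬ p ∣ orderOf g := by
  obtain ⟨k, h1, h2⟩ := exists_smul_pair hxy
  have e1 : (k * g * k⁻¹) • (∞ : OnePoint K) = ∞ := by
    rw [← h1, mul_smul, mul_smul, inv_smul_smul, hx]
  have e2 : (k * g * k⁻¹) • ((0 : K) : OnePoint K) = ((0 : K) : OnePoint K) := by
    rw [← h2, mul_smul, mul_smul, inv_smul_smul, hy]
  obtain ⟨u, he⟩ := eq_dil_of_fix e1 e2
  intro hp
  have ho : orderOf (k * g * k⁻¹) = orderOf g :=
    orderOf_injective (MulAut.conj k).toMonoidHom (MulAut.conj k).injective g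
  have hou : orderOf g = orderOf u := by
    rw [← ho, he]
    refine orderOf_eq_orderOf_iff.2 fun n => ?_
    rw [aff_zero_pow, aff_eq_one]; simp
  rw [hou] at hp hfin
  obtain ⟨m, hm⟩ := hp
  have hv : (u ^ m) ^ p = 1 := by rw [← pow_mul, mul_comm, ← hm, pow_orderOf_eq_one]
  have h' : u ^ m = 1 := by
    have hv' : ((u ^ m : Kˣ) : K) ^ p = 1 := by rw [← Units.val_pow_eq_pow_val, hv, Units.val_one]
    have h'' : (((u ^ m : Kˣ) : K) - 1) ^ p = 0 := by rw [sub_pow_char, hv', one_pow, sub_self]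
    exact Units.ext (sub_eq_zero.1 (eq_zero_of_pow_eq_zero h''))
  have hm0 : m ≠ 0 := fun h0 => hfin (by rw [hm, h0, mul_zero])
  have := Nat.le_of_dvd (Nat.pos_of_ne_zero hm0) (orderOf_dvd_of_pow_eq_one h')
  have := (Fact.out : p.Prime).two_le
  rw [hm] at *
  nlinarith [Nat.pos_of_ne_zero hm0]

end CfsgLib.Dickson
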