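import Mathlib.GroupTheory.SpecificGroups.Alternating
import Mathlib.GroupTheory.SpecificGroups.Alternating.Simple
import Mathlib.GroupTheory.Sylow
import Mathlib.GroupTheory.Transfer
import Mathlib.GroupTheory.PGroup

set_option autoImplicit false

/-!
A group of order 60 with more than one Sylow 5-subgroup is isomorphic to `A₅`.
-/

namespace CfsgLib.Dickson.OrderSixty

variable {G : Type*} [Group G] [Finite G] [Fact (Nat.Prime 5)]

theorem card_eq_five (hG : Nat.card G = 60) (P : Sylow 5 G) : Nat.card (P : Subgroup G) = 5 := by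
  rw [P.card_eq_multiplicity, hG, show (60 : ℕ) = 5 * 12 by norm_num,
    Nat.factorization_mul (by norm_num) (by norm_num), Finsupp.add_apply,
    Nat.Prime.factorization_self (Fact.out), Nat.factorization_eq_zero_of_not_dvd (by norm_num)]
  norm_num

omit [Finite G] in
theorem fixed_of_small {α : Type*} (P : Subgroup G) (hP : IsPGroup 5 P) [MulAction P α] [Finite α]
    (h : Nat.card α < 5) (g : P) (a : α) : g • a = a := by
  obtain ⟨n, hn⟩ := hP.card_orbit a
  have h1 : Nat.card (MulAction.orbit P a) ≤ Nat.card α :=
    Nat.card_le_card_of_injective Subtype.val Subtype.val_injective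
  rcases n with _ | n
  · rw [pow_zero, Nat.card_eq_one_iff_unique] at hn
    exact congrArg Subtype.val (hn.1.elim ⟨g • a, MulAction.mem_orbit a g⟩ ⟨a, MulAction.mem_orbit_self a⟩)
  · have : 5 ≤ 5 ^ (n + 1) := Nat.le_self_pow (by omega) 5
    omega

theorem centralizes_of_small (P R : Subgroup G) (hP : IsPGroup 5 P) (hR : Nat.card R < 5)
    (h : P ≤ Subgroup.normalizer (R : Set G)) : R ≤ Subgroup.centralizer (P : Set G) := by
  intro r hr
  rw [Subgroup.mem_centralizer_iff]
  intro x hx
  let _ : MulAction P R :=
    MulAction.compHom R ((Subgroup.normalizerMonoidHom R).comp (Subgroup.inclusion h))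
  have := congrArg Subtype.val (fixed_of_small P hP hR ⟨x, hx⟩ ⟨r, hr⟩)
  exact mul_inv_eq_iff_eq_mul.1 this

theorem card_normalizer (hG : Nat.card G = 60) (P : Sylow 5 G) (hn : ¬ (P : Subgroup G).Normal) :
    Nat.card (Sylow 5 G) = 6 ∧ Nat.card (Subgroup.normalizer ((P : Subgroup G) : Set G)) = 10 := by
  have hidx : (P : Subgroup G).index = 12 := by
    have := (P : Subgroup G).card_mul_index
    rw [card_eq_five hG P, hG] at this; omega
  have h1 : Nat.card (Sylow 5 G) ∣ 12 := hidx ▸ P.card_dvd_index
  have h2 := card_sylow_modEq_one 5 G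
  have h3 : Nat.card (Sylow 5 G) ≠ 1 := fun h => hn (by
    rw [P.card_eq_index_normalizer, Subgroup.index_eq_one] at h
    exact Subgroup.normalizer_eq_top_iff.1 h)
  have h4 : Nat.card (Sylow 5 G) ≤ 12 := Nat.le_of_dvd (by norm_num) h1
  have h5 : Nat.card (Sylow 5 G) % 5 = 1 := h2
  have h6 : Nat.card (Sylow 5 G) = 6 := by
    interval_cases hk : Nat.card (Sylow 5 G) <;> omega
  refine ⟨h6, ?_⟩
  have := (Subgroup.normalizer ((P : Subgroup G) : Set G)).card_mul_index
  rw [show (Subgroup.normalizer ((P : Subgroup G) : Set G)).index = Nat.card (Sylow 5 G) from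
    P.card_eq_index_normalizer.symm, h6, hG] at this
  omega

theorem card_le_two_of_normal (hG : Nat.card G = 60) (P : Sylow 5 G)
    (hn : ¬ (P : Subgroup G).Normal) (L : Subgroup G) [L.Normal] (h5 : ¬ 5 ∣ Nat.card L) :
    Nat.card L ≤ 2 ∧ L ≤ Subgroup.centralizer ((P : Subgroup G) : Set G) := by
  obtain ⟨-, hN⟩ := card_normalizer hG P hn
  have small : ∀ R : Subgroup G, Nat.card R < 5 → (P : Subgroup G) ≤ Subgroup.normalizer (R : Set G) →
      Nat.card R ∣ 10 ∧ R ≤ Subgroup.centralizer ((P : Subgroup G) : Set G) := fun R hR hPR => by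
    have := centralizes_of_small _ R P.isPGroup' hR hPR
    exact ⟨hN ▸ Subgroup.card_dvd_of_le (this.trans (Subgroup.centralizer_le_normalizer _)), this⟩
  have inv : ∀ (r : ℕ) [Fact r.Prime] (R : Sylow r L), Nat.card (Sylow r L) < 5 →
      (P : Subgroup G) ≤ Subgroup.normalizer ((R.map L.subtype : Subgroup G) : Set G) := by
    intro r _ R hlt x hx
    let _ : MulAction (P : Subgroup G) (Sylow r L) :=
      MulAction.compHom _ ((MulAut.conjNormal (H := L)).comp (P : Subgroup G).subtype)
    have hfix : (MulAut.conjNormal (H := L) x) • R = R :=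
      fixed_of_small (P : Subgroup G) P.isPGroup' hlt ⟨x, hx⟩ R
    have hcoe : ∀ y : L, y ∈ (R : Subgroup L) ↔ MulAut.conjNormal x y ∈ (R : Subgroup L) := by
      intro y
      conv_rhs => rw [← hfix, Sylow.pointwise_smul_def]
      exact (Subgroup.smul_mem_pointwise_smul_iff (a := MulAut.conjNormal (H := L) x)).symm
    rw [Subgroup.mem_normalizer_iff]
    intro z
    constructor
    · rintro ⟨y, hy, rfl⟩
      exact ⟨MulAut.conjNormal x y, (hcoe y).1 hy, MulAut.conjNormal_apply _ _⟩
    · rintro ⟨y, hy, he⟩
      refine ⟨(MulAut.conjNormal x).symm y, (hcoe _).2 (by rw [MulEquiv.apply_symm_apply]; exact hy), ?_⟩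
      simp only [Subgroup.coe_subtype] at he
      simp only [Subgroup.coe_subtype, MulAut.conjNormal_symm_apply, he]
      group
  have h12 : Nat.card L ∣ 12 := by
    have := L.card_subgroup_dvd_card
    rw [hG, show 60 = 12 * 5 by norm_num] at this
    exact ((Nat.Prime.coprime_iff_not_dvd (Fact.out : Nat.Prime 5)).2 h5).symm.dvd_of_dvd_mul_right this
  have three : ¬ 3 ∣ Nat.card L := by
    intro h3
    obtain ⟨R⟩ : Nonempty (Sylow 3 L) := inferInstance
    have hR : Nat.card (R : Subgroup L) = 3 := by
      obtain ⟨k, hk⟩ := IsPGroup.iff_card.1 R.isPGroup'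
      have h3R : 3 ∣ Nat.card (R : Subgroup L) := R.dvd_card_of_dvd_card h3
      have hd : 3 ^ k ∣ 12 := hk ▸ (R : Subgroup L).card_subgroup_dvd_card.trans h12
      rw [hk] at h3R ⊢
      have hk2 : k < 2 := by
        by_contra hk2
        exact absurd ((Nat.pow_dvd_pow 3 (not_lt.1 hk2)).trans hd) (by norm_num)
      interval_cases k <;> simp_all
    have hlt : Nat.card (Sylow 3 L) < 5 := by
      have hd : Nat.card (Sylow 3 L) ∣ 4 := by
        refine R.card_dvd_index.trans ?_
        have := (R : Subgroup L).card_mul_index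
        rw [hR] at this
        exact Nat.dvd_of_mul_dvd_mul_left (by norm_num : 0 < 3) (this ▸ h12)
      have := Nat.le_of_dvd (by norm_num) hd
      omega
    have := (small (R.map L.subtype)
      (by rw [Subgroup.card_map_of_injective L.subtype_injective, hR]; norm_num)
      (inv 3 R hlt)).1
    rw [Subgroup.card_map_of_injective L.subtype_injective, hR] at this
    omega
  have four : Nat.card L ∣ 4 :=
    ((Nat.Prime.coprime_iff_not_dvd Nat.prime_three).2 three).symm.dvd_of_dvd_mul_left
      (show Nat.card L ∣ 3 * 4 from h12)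
  have hle : Nat.card L < 5 := by have := Nat.le_of_dvd (by norm_num) four; omega
  obtain ⟨h10, hcent⟩ := small L hle (by rw [Subgroup.normalizer_eq_top]; exact le_top)
  refine ⟨?_, hcent⟩
  have := Nat.dvd_gcd four h10
  exact Nat.le_of_dvd (by norm_num) this

theorem eq_bot_of_normal_prime_to_five (hG : Nat.card G = 60) (P : Sylow 5 G)
    (hn : ¬ (P : Subgroup G).Normal) (L : Subgroup G) [L.Normal] (h5 : ¬ 5 ∣ Nat.card L) :
    L = ⊥ := by
  obtain ⟨hle, hcent⟩ := card_le_two_of_normal hG P hn L h5
  by_contra hL
  have h2 : Nat.card L = 2 := by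
    have := Nat.card_pos (α := L)
    have : Nat.card L ≠ 1 := fun h => hL (Subgroup.eq_bot_of_card_eq _ h)
    omega
  have hP := card_eq_five hG P
  obtain ⟨-, hN⟩ := card_normalizer hG P hn
  have hN' : Subgroup.normalizer ((P : Subgroup G) : Set G) ≤
      Subgroup.centralizer ((P : Subgroup G) : Set G) := by
    have hle' : (P : Subgroup G) ⊔ L ≤ Subgroup.centralizer ((P : Subgroup G) : Set G) := by
      refine sup_le ?_ hcent
      have := isCyclic_of_prime_card hP
      exact Subgroup.le_centralizer _
    have hc : 10 ∣ Nat.card (Subgroup.centralizer ((P : Subgroup G) : Set G)) := by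
      rw [show (10 : ℕ) = Nat.lcm 5 2 from rfl]
      refine Nat.lcm_dvd ?_ ?_
      · have := Subgroup.card_dvd_of_le (le_sup_left.trans hle')
        rwa [hP] at this
      · have := Subgroup.card_dvd_of_le (le_sup_right.trans hle')
        rwa [h2] at this
    have hc' := Nat.le_of_dvd Nat.card_pos hc
    refine (Subgroup.eq_of_le_of_card_ge (Subgroup.centralizer_le_normalizer _) ?_).ge
    rw [hN]; omega
  have hK := MonoidHom.ker_transferSylow_isComplement' P hN'
  set K := (MonoidHom.transferSylow P hN').ker
  have hKc : Nat.card K = 12 := by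
    have := hK.card_mul_card
    rw [hP, hG] at this; omega
  have := (card_le_two_of_normal hG P hn K (by rw [hKc]; norm_num)).1
  omega

theorem isSimpleGroup (hG : Nat.card G = 60) (P : Sylow 5 G) (hn : ¬ (P : Subgroup G).Normal) :
    IsSimpleGroup G := by
  have : Nontrivial G := Finite.one_lt_card_iff_nontrivial.1 (by omega)
  refine ⟨fun L hL => ?_⟩
  by_cases h5 : 5 ∣ Nat.card L
  swap
  · exact Or.inl (eq_bot_of_normal_prime_to_five hG P hn L h5)
  right
  have hall : ∀ Q : Sylow 5 G, (Q : Subgroup G) ≤ L := by
    obtain ⟨x, hx⟩ := exists_prime_orderOf_dvd_card' 5 h5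
    have hx' : orderOf (x : G) = 5 := by rwa [Subgroup.orderOf_coe]
    obtain ⟨Q0, hQ0⟩ := (IsPGroup.of_card (n := 1) (G := Subgroup.zpowers (x : G))
      (by rw [Nat.card_zpowers, hx', pow_one])).exists_le_sylow
    have hQ0L : (Q0 : Subgroup G) ≤ L := by
      rw [← Subgroup.eq_of_le_of_card_ge hQ0 (by rw [card_eq_five hG, Nat.card_zpowers, hx'])]
      exact Subgroup.zpowers_le.2 x.2
    intro Q
    obtain ⟨g, rfl⟩ := MulAction.exists_smul_eq G Q0 Q
    intro z hz
    rw [Sylow.coe_subgroup_smul, Subgroup.mem_pointwise_smul_iff_inv_smul_mem] at hz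
    have hzL := hQ0L hz
    have := hL.conj_mem _ hzL g
    simpa [MulAut.conj_apply, mul_assoc] using this
  -- `L` contains the 24 elements of order five
  by_contra hne
  have hidx : L.index ≠ 1 := fun h => hne (Subgroup.index_eq_one.1 h)
  have hmul := L.card_mul_index
  have hd : Nat.card L ∣ 60 := hG ▸ L.card_subgroup_dvd_card
  obtain ⟨PL⟩ : Nonempty (Sylow 5 L) := inferInstance
  have hn6 : Nat.card (Sylow 5 G) = Nat.card (Sylow 5 L) := by
    refine Nat.card_congr
      { toFun := fun Q => Q.subtype (hall Q)
        invFun := fun Q => ⟨(Q : Subgroup L).map L.subtype, (Q.isPGroup').map _, fun {R} hR hle => ?_⟩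
        left_inv := fun Q => Sylow.ext (Subgroup.map_subgroupOf_eq_of_le (hall Q))
        right_inv := fun Q => Sylow.ext (Subgroup.comap_map_eq_self_of_injective L.subtype_injective _) }
    obtain ⟨S, hS⟩ := hR.exists_le_sylow
    have hRL : R ≤ L := hS.trans (hall S)
    have hc := Q.is_maximal' (Q := R.subgroupOf L) (hR.comap_of_injective _ L.subtype_injective)
      (fun y hy => hle ⟨y, hy, rfl⟩)
    rw [← hc]
    exact (Subgroup.map_subgroupOf_eq_of_le hRL).symm
  obtain ⟨h6, -⟩ := card_normalizer hG P hn
  have hdvd : Nat.card (Sylow 5 L) ∣ (PL : Subgroup L).index := PL.card_dvd_index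
  have hPLc : Nat.card (PL : Subgroup L) = 5 := by
    have h1 : 5 ∣ Nat.card (PL : Subgroup L) := PL.dvd_card_of_dvd_card h5
    obtain ⟨k, hk⟩ := IsPGroup.iff_card.1 PL.isPGroup'
    have h2 : 5 ^ k ∣ 60 := hk ▸ (PL : Subgroup L).card_subgroup_dvd_card.trans hd
    rw [hk] at h1 ⊢
    have hk2 : k < 2 := by
      by_contra hk2
      exact absurd ((Nat.pow_dvd_pow 5 (not_lt.1 hk2)).trans h2) (by norm_num)
    interval_cases k <;> simp_all
  have hi := (PL : Subgroup L).card_mul_index
  rw [hPLc] at hi
  rw [← hn6, h6] at hdvd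
  -- so `L` has order 30
  have h30 : Nat.card L = 30 := by
    obtain ⟨m, hm⟩ := hdvd
    rw [hm] at hi
    rw [hG] at hmul
    have h1 : Nat.card L ≤ 30 := by
      rcases hidx' : L.index with _ | _ | n
      · simp [hidx'] at hmul
      · exact absurd hidx' hidx
      · rw [hidx'] at hmul; nlinarith
    have hm1 : m ≠ 0 := by rintro rfl; have := Nat.card_pos (α := L); omega
    omega
  exact order_thirty h30 PL (by rw [← hn6, h6])
where
  order_thirty {L : Subgroup G} (h30 : Nat.card L = 30) (PL : Sylow 5 L)
      (hn : Nat.card (Sylow 5 L) = 6) : False := by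
    classical
    let _ := Fintype.ofFinite L
    let _ := Fintype.ofFinite (Sylow 5 L)
    obtain ⟨R⟩ : Nonempty (Sylow 3 L) := inferInstance
    have hP5 : ∀ Q : Sylow 5 L, Nat.card (Q : Subgroup L) = 5 := fun Q => by
      rw [Q.card_eq_multiplicity, h30, show (30 : ℕ) = 5 * 6 by norm_num,
        Nat.factorization_mul (by norm_num) (by norm_num), Finsupp.add_apply,
        Nat.Prime.factorization_self (Fact.out), Nat.factorization_eq_zero_of_not_dvd (by norm_num)]
      norm_num
    have hR3 : Nat.card (R : Subgroup L) = 3 := by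
      rw [R.card_eq_multiplicity, h30, show (30 : ℕ) = 3 * 10 by norm_num,
        Nat.factorization_mul (by norm_num) (by norm_num), Finsupp.add_apply,
        Nat.Prime.factorization_self Nat.prime_three, Nat.factorization_eq_zero_of_not_dvd (by norm_num)]
      norm_num
    -- the Sylow 3-subgroup centralises a Sylow 5-subgroup or there are ten of them
    have hR10 : Nat.card (Sylow 3 L) ∣ 10 := by
      have h := R.card_dvd_index
      have := (R : Subgroup L).card_mul_index
      rw [hR3, h30] at this
      rwa [show (R : Subgroup L).index = 10 by omega] at h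
    have hmod := card_sylow_modEq_one 3 L
    -- count elements of order five and three
    have h24 : (Finset.univ.filter fun x : L => orderOf x = 5).card = 24 := by
      have e : (Finset.univ.filter fun x : L => orderOf x = 5) =
          (Finset.univ : Finset (Sylow 5 L)).biUnion
            (fun Q => Finset.univ.filter fun x : L => x ∈ (Q : Subgroup L) ∧ x ≠ 1) := by
        ext x
        simp only [Finset.mem_filter, Finset.mem_univ, true_and, Finset.mem_biUnion]
        constructor
        · intro hx
          obtain ⟨Q, hQ⟩ := (IsPGroup.of_card (n := 1) (G := Subgroup.zpowers x)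
            (by rw [Nat.card_zpowers, hx, pow_one])).exists_le_sylow
          exact ⟨Q, hQ (Subgroup.mem_zpowers x), fun h => by simp [h] at hx⟩
        · rintro ⟨Q, hx, hx1⟩
          have := hP5 Q ▸ Subgroup.orderOf_dvd_natCard (s := (Q : Subgroup L)) hx
          exact (Nat.Prime.eq_one_or_self_of_dvd (Fact.out : Nat.Prime 5) _ this).resolve_left
            (fun h => hx1 (orderOf_eq_one_iff.1 h))
      rw [e, Finset.card_biUnion, Finset.sum_const_nat (m := 4)]
      · rw [Finset.card_univ, ← Nat.card_eq_fintype_card, hn]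
      · intro Q _
        have : (Finset.univ.filter fun x : L => x ∈ (Q : Subgroup L) ∧ x ≠ 1) =
            (Finset.univ.filter fun x : L => x ∈ (Q : Subgroup L)).erase 1 := by
          ext x; simp [and_comm]
        rw [this, Finset.card_erase_of_mem (by simp), ← Fintype.card_subtype, ← Nat.card_eq_fintype_card]
        have := hP5 Q
        rw [this]
      · intro Q _ Q' _ hne
        rw [Function.onFun, Finset.disjoint_left]
        intro x hx hx'
        simp only [Finset.mem_filter, Finset.mem_univ, true_and] at hx hx'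
        apply hne
        have key : ∀ S : Sylow 5 L, x ∈ (S : Subgroup L) → Subgroup.zpowers x = (S : Subgroup L) :=
          fun S hS => Subgroup.eq_of_le_of_card_ge (Subgroup.zpowers_le.2 hS) (by
            rw [hP5 S, Nat.card_zpowers]
            have := hP5 S ▸ Subgroup.orderOf_dvd_natCard (s := (S : Subgroup L)) hS
            rw [(Nat.Prime.eq_one_or_self_of_dvd (Fact.out : Nat.Prime 5) _ this).resolve_left
              (fun h => hx.2 (orderOf_eq_one_iff.1 h))])
        exact Sylow.ext ((key Q hx.1).symm.trans (key Q' hx'.1))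
    -- a Sylow 3-subgroup normal in `L` commutes with every element of order five
    have hnot10 : Nat.card (Sylow 3 L) < 5 := by
      by_contra hge
      have hle := Nat.le_of_dvd (by norm_num) hR10
      have hm : Nat.card (Sylow 3 L) % 3 = 1 := hmod
      have h10 : Nat.card (Sylow 3 L) = 10 := by
        have := Nat.card_pos (α := Sylow 3 L)
        interval_cases hk : Nat.card (Sylow 3 L) <;> omega
      let _ := Fintype.ofFinite (Sylow 3 L)
      -- ten generators of distinct Sylow 3-subgroups among six elements
      choose gen hgen hgen1 using fun S : Sylow 3 L =>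
        (Subgroup.bot_or_exists_ne_one (S : Subgroup L)).resolve_left (fun h => by
          have h3 : 3 ∣ Nat.card (S : Subgroup L) := S.dvd_card_of_dvd_card (h30 ▸ by norm_num)
          rw [h, Subgroup.card_bot] at h3; omega)
      have hS3 : ∀ S : Sylow 3 L, Nat.card (S : Subgroup L) = 3 := fun S => by
        rw [S.card_eq_multiplicity, ← R.card_eq_multiplicity, hR3]
      have ho : ∀ S : Sylow 3 L, orderOf (gen S) = 3 := fun S => by
        have := hS3 S ▸ Subgroup.orderOf_dvd_natCard (s := (S : Subgroup L)) (hgen S)
        exact (Nat.Prime.eq_one_or_self_of_dvd Nat.prime_three _ this).resolve_left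
          (fun h => hgen1 S (orderOf_eq_one_iff.1 h))
      have hinj : Function.Injective gen := fun S S' h => Sylow.ext (by
        rw [← Subgroup.eq_of_le_of_card_ge (Subgroup.zpowers_le.2 (hgen S)) (by rw [hS3, Nat.card_zpowers, ho]),
          ← Subgroup.eq_of_le_of_card_ge (Subgroup.zpowers_le.2 (hgen S')) (by rw [hS3, Nat.card_zpowers, ho]), h])
      have : (Finset.univ.image gen) ⊆ Finset.univ \ (Finset.univ.filter fun x : L => orderOf x = 5) := by
        intro x hx
        obtain ⟨S, -, rfl⟩ := Finset.mem_image.1 hx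
        simp [ho S]
      have := Finset.card_le_card this
      rw [Finset.card_image_of_injective _ hinj, Finset.card_univ, ← Nat.card_eq_fintype_card, h10,
        Finset.card_sdiff_of_subset (Finset.subset_univ _), Finset.card_univ, h24,
        ← Nat.card_eq_fintype_card, h30] at this
      omega
    have hRfix : (PL : Subgroup L) ≤ Subgroup.normalizer ((R : Subgroup L) : Set L) := fun x hx => by
      have := fixed_of_small (PL : Subgroup L) PL.isPGroup' hnot10 ⟨x, hx⟩ R
      exact Sylow.smul_eq_iff_mem_normalizer.1 this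
    have hcent := centralizes_of_small (PL : Subgroup L) (R : Subgroup L) PL.isPGroup' (by rw [hR3]; norm_num) hRfix
    have hd := Subgroup.card_dvd_of_le (hcent.trans (Subgroup.centralizer_le_normalizer _))
    have hN := PL.card_eq_index_normalizer
    have hN' := (Subgroup.normalizer ((PL : Subgroup L) : Set L)).card_mul_index
    rw [show (Subgroup.normalizer ((PL : Subgroup L) : Set L)).index = Nat.card (Sylow 5 L) from
      hN.symm, hn, h30] at hN'
    rw [hR3] at hd
    omega

/-- A group of order 60 with more than one Sylow 5-subgroup is `A₅`. -/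
theorem nonempty_mulEquiv (hG : Nat.card G = 60) (P : Sylow 5 G) (hn : ¬ (P : Subgroup G).Normal) :
    Nonempty (G ≃* alternatingGroup (Fin 5)) := by
  classical
  have hs := isSimpleGroup hG P hn
  have hnc : ¬ IsMulCommutative G := fun h => hn ⟨fun x hx g => by
    rwa [h.is_comm.comm g x, mul_inv_cancel_right]⟩
  -- any subgroup of index at most five gives a faithful action
  have act : ∀ S : Subgroup G, S.index ≤ 5 → S.index ≠ 1 → Nonempty (G ≃* alternatingGroup (Fin 5)) := by
    intro S h5 h1
    let φ := MulAction.toPermHom G (G ⧸ S)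
    have hker : φ.ker = ⊥ := by
      refine (hs.eq_bot_or_eq_top_of_normal _ inferInstance).resolve_right fun htop => h1 ?_
      rw [Subgroup.index_eq_one, eq_top_iff]
      intro g _
      have hg : φ g = 1 := MonoidHom.mem_ker.1 (htop.symm ▸ Subgroup.mem_top g)
      have := congrArg (fun σ : Equiv.Perm (G ⧸ S) => σ ((1 : G) : G ⧸ S)) hg
      simpa [φ, QuotientGroup.eq] using this
    have hinj : Function.Injective φ := (MonoidHom.ker_eq_bot_iff φ).1 hker
    have hcard : Nat.card (G ⧸ S) = S.index := rfl
    have hfac : Nat.card G ≤ S.index.factorial := by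
      rw [← hcard, ← Nat.card_perm]; exact Nat.card_le_card_of_injective _ hinj
    rw [hG] at hfac
    have hi : S.index = 5 := by
      have hpos : S.index ≠ 0 := Subgroup.index_ne_zero_of_finite
      interval_cases hk : S.index <;> simp_all [Nat.factorial]
    let e := (Finite.equivFinOfCardEq (hcard.trans hi))
    let ψ := (e.permCongrHom.toMonoidHom).comp φ
    have hψ : Function.Injective ψ := e.permCongrHom.injective.comp hinj
    have hidx : ψ.range.index = 2 := by
      have := ψ.range.card_mul_index
      rw [← Nat.card_congr (MonoidHom.ofInjective hψ).toEquiv, hG, Nat.card_perm, Nat.card_fin] at this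
      simp [Nat.factorial] at this; omega
    exact ⟨(MonoidHom.ofInjective hψ).trans
      (MulEquiv.subgroupCongr (Equiv.Perm.eq_alternatingGroup_of_index_eq_two hidx))⟩
  obtain ⟨S⟩ : Nonempty (Sylow 2 G) := inferInstance
  have hS4 : ∀ T : Sylow 2 G, Nat.card (T : Subgroup G) = 4 := fun T => by
    rw [T.card_eq_multiplicity, hG, show (60 : ℕ) = 2 ^ 2 * 15 by norm_num,
      Nat.factorization_mul (by norm_num) (by norm_num), Finsupp.add_apply,
      Nat.Prime.factorization_pow Nat.prime_two, Nat.factorization_eq_zero_of_not_dvd (by norm_num)]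
    simp
  have hS15 : Nat.card (Sylow 2 G) ∣ 15 := by
    have h := S.card_dvd_index
    have := (S : Subgroup G).card_mul_index
    rw [hS4, hG] at this
    rwa [show (S : Subgroup G).index = 15 by omega] at h
  by_cases hle : Nat.card (Sylow 2 G) ≤ 5
  · refine act (Subgroup.normalizer ((S : Subgroup G) : Set G)) (S.card_eq_index_normalizer ▸ hle) fun h => ?_
    rw [Subgroup.index_eq_one, Subgroup.normalizer_eq_top_iff] at h
    rcases hs.eq_bot_or_eq_top_of_normal _ h with h' | h'
    · have := hS4 S; rw [h', Subgroup.card_bot] at this; omega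
    · have := hS4 S; rw [h', Subgroup.card_top, hG] at this; omega
  · obtain ⟨t, ht1, S₁, S₂, hne, ht₁, ht₂⟩ : ∃ t : G, t ≠ 1 ∧ ∃ S₁ S₂ : Sylow 2 G, S₁ ≠ S₂ ∧
        t ∈ (S₁ : Subgroup G) ∧ t ∈ (S₂ : Subgroup G) := by
      by_contra hc
      push Not at hc
      let _ := Fintype.ofFinite G
      let _ := Fintype.ofFinite (Sylow 2 G)
      let _ := Fintype.ofFinite (Sylow 5 G)
      let A := (Finset.univ : Finset (Sylow 2 G)).biUnion
        (fun T => (Finset.univ.filter fun x : G => x ∈ (T : Subgroup G)).erase 1)
      have hA : A.card = Fintype.card (Sylow 2 G) * 3 := by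
        rw [Finset.card_biUnion, Finset.sum_const_nat (m := 3), Finset.card_univ]
        · intro T _
          rw [Finset.card_erase_of_mem (by simp), ← Fintype.card_subtype, ← Nat.card_eq_fintype_card]
          have := hS4 T
          rw [this]
        · intro T _ T' _ hT
          rw [Function.onFun, Finset.disjoint_left]
          intro x hx hx'
          simp only [Finset.mem_erase, Finset.mem_filter, Finset.mem_univ, true_and] at hx hx'
          exact hc x hx.1 T T' hT hx.2 hx'.2
      let B := (Finset.univ : Finset (Sylow 5 G)).biUnion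
        (fun T => (Finset.univ.filter fun x : G => x ∈ (T : Subgroup G)).erase 1)
      have hB : B.card = Fintype.card (Sylow 5 G) * 4 := by
        rw [Finset.card_biUnion, Finset.sum_const_nat (m := 4), Finset.card_univ]
        · intro T _
          rw [Finset.card_erase_of_mem (by simp), ← Fintype.card_subtype, ← Nat.card_eq_fintype_card]
          have := card_eq_five hG T
          rw [this]
        · intro T _ T' _ hT
          rw [Function.onFun, Finset.disjoint_left]
          intro x hx hx'
          simp only [Finset.mem_erase, Finset.mem_filter, Finset.mem_univ, true_and] at hx hx'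
          apply hT
          have key : ∀ U : Sylow 5 G, x ∈ (U : Subgroup G) → Subgroup.zpowers x = (U : Subgroup G) :=
            fun U hU => Subgroup.eq_of_le_of_card_ge (Subgroup.zpowers_le.2 hU) (by
              rw [card_eq_five hG U, Nat.card_zpowers]
              have := card_eq_five hG U ▸ Subgroup.orderOf_dvd_natCard (s := (U : Subgroup G)) hU
              rw [(Nat.Prime.eq_one_or_self_of_dvd (Fact.out : Nat.Prime 5) _ this).resolve_left
                (fun h => hx.1 (orderOf_eq_one_iff.1 h))])
          exact Sylow.ext ((key T hx.2).symm.trans (key T' hx'.2))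
      have hdis : Disjoint A B := by
        rw [Finset.disjoint_left]
        intro x hx hx'
        simp only [A, B, Finset.mem_biUnion, Finset.mem_univ, true_and, Finset.mem_erase,
          Finset.mem_filter] at hx hx'
        obtain ⟨T, hx1, hT⟩ := hx
        obtain ⟨U, -, hU⟩ := hx'
        have h2 := hS4 T ▸ Subgroup.orderOf_dvd_natCard (s := (T : Subgroup G)) hT
        have h5 := card_eq_five hG U ▸ Subgroup.orderOf_dvd_natCard (s := (U : Subgroup G)) hU
        exact hx1 (orderOf_eq_one_iff.1 (Nat.dvd_one.1 (by
          simpa using Nat.dvd_gcd h2 h5)))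
      have := Finset.card_le_univ (A ∪ B)
      rw [Finset.card_union_of_disjoint hdis, hA, hB, ← Nat.card_eq_fintype_card,
        ← Nat.card_eq_fintype_card, ← Nat.card_eq_fintype_card, (card_normalizer hG P hn).1, hG] at this
      obtain ⟨m, hm⟩ := hS15
      have hm' : m ≤ 2 := by nlinarith
      interval_cases m <;> omega
    let C := Subgroup.centralizer ({t} : Set G)
    have hTC : ∀ T : Sylow 2 G, t ∈ (T : Subgroup G) → (T : Subgroup G) ≤ C := by
      intro T hT y hy
      have := IsPGroup.isMulCommutative_of_card_eq_prime_sq (p := 2) (hS4 T)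
      rw [Subgroup.mem_centralizer_singleton_iff]
      exact congrArg Subtype.val (this.is_comm.comm (⟨y, hy⟩ : (T : Subgroup G)) ⟨t, hT⟩)
    have h4 : 4 ∣ Nat.card C := hS4 S₁ ▸ Subgroup.card_dvd_of_le (hTC S₁ ht₁)
    have hgt : 4 < Nat.card C := by
      by_contra hle'
      have e1 := Subgroup.eq_of_le_of_card_ge (hTC S₁ ht₁) (by rw [hS4]; omega)
      have e2 := Subgroup.eq_of_le_of_card_ge (hTC S₂ ht₂) (by rw [hS4]; omega)
      exact hne (Sylow.ext (e1.trans e2.symm))
    have hmul := C.card_mul_index
    rw [hG] at hmul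
    refine act C ?_ fun h => ?_
    · obtain ⟨m, hm⟩ := h4
      have : 2 ≤ m := by omega
      rw [hm] at hmul
      have h3 : m ≠ 2 := by rintro rfl; omega
      have h3' : 3 ≤ m := by omega
      nlinarith
    · rw [Subgroup.index_eq_one] at h
      have hz : t ∈ Subgroup.center G := Subgroup.mem_center_iff.2 fun g =>
        Subgroup.mem_centralizer_singleton_iff.1 (h.symm ▸ Subgroup.mem_top g : g ∈ C)
      rcases hs.eq_bot_or_eq_top_of_normal (Subgroup.center G) inferInstance with hc | hc
      · rw [hc, Subgroup.mem_bot] at hz; exact ht1 hz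
      · exact hnc ⟨⟨fun a b => (Subgroup.mem_center_iff.1 (hc.symm ▸ Subgroup.mem_top b) a)⟩⟩

end CfsgLib.Dickson.OrderSixty
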