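import Cfsg.Agent.Dickson.MaxPSLExceptions

/-!
Which dihedral subgroups of `PSL₂(q)`, `q` odd, fail to be maximal.
-/

set_option autoImplicit false
set_option linter.unusedSectionVars false

namespace CfsgLib.Dickson.MaxSub

open CfsgLib.Linear.PSLTwo

theorem symFour_inverting : ∃ x w : Equiv.Perm (Fin 4),
    x ^ 3 = 1 ∧ x ≠ 1 ∧ w ^ 2 = 1 ∧ w ≠ 1 ∧ w * x * w⁻¹ = x⁻¹ := by
  decide +kernel

theorem altFive_inverting : ∃ x w : alternatingGroup (Fin 5),
    x ^ 5 = 1 ∧ x ≠ 1 ∧ w ^ 2 = 1 ∧ w ≠ 1 ∧ w * x * w⁻¹ = x⁻¹ := by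
  decide +kernel

theorem exists_inverting_of_equiv {G A : Type*} [Group G] [Group A] {H : Subgroup G} (e : H ≃* A)
    (r : ℕ) [Fact r.Prime]
    (h : ∃ x w : A, x ^ r = 1 ∧ x ≠ 1 ∧ w ^ 2 = 1 ∧ w ≠ 1 ∧ w * x * w⁻¹ = x⁻¹) :
    ∃ x w : H, orderOf x = r ∧ orderOf w = 2 ∧ w * x * w⁻¹ = x⁻¹ := by
  obtain ⟨x, w, hx, hx1, hw, hw1, hwx⟩ := h
  refine ⟨e.symm x, e.symm w, ?_, ?_, ?_⟩
  · rw [MulEquiv.orderOf_eq]; exact orderOf_eq_prime hx hx1
  · rw [MulEquiv.orderOf_eq]; exact orderOf_eq_prime hw hw1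
  · rw [← map_inv, ← map_mul, ← map_mul, hwx, map_inv]

variable {F : Type*} [Field F] [Finite F]

theorem normalizer_ne_top (h4 : 4 ≤ Nat.card F) (r : ℕ) [Fact r.Prime]
    (hr : r ∣ Nat.card (PSL2 F)) (hmax : ¬ r ^ 2 ∣ Nat.card (PSL2 F)) (P : Sylow r (PSL2 F)) :
    Subgroup.normalizer ((P : Subgroup (PSL2 F)) : Set (PSL2 F)) ≠ ⊤ := by
  have hr' : r.Prime := Fact.out
  intro h
  have := isSimple (F := F) h4
  have hn : (P : Subgroup (PSL2 F)).Normal := Subgroup.normalizer_eq_top_iff.1 h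
  have hdvd := P.dvd_card_of_dvd_card hr
  rcases IsSimpleGroup.eq_bot_or_eq_top_of_normal _ hn with hP | hP
  · rw [hP, Subgroup.card_bot] at hdvd
    exact hr'.not_dvd_one hdvd
  · obtain ⟨j, hj⟩ := IsPGroup.iff_card.1 P.isPGroup'
    rw [hP, Subgroup.card_top] at hj
    rcases j with _ | _ | j
    · rw [hj] at hr
      exact hr'.not_dvd_one (by simpa using hr)
    · exact not_prime_card h4 (by rw [hj]; simpa using hr')
    · exact hmax (hj ▸ pow_dvd_pow r (by omega))

theorem card_psl_odd (hodd : Odd (Nat.card F)) {q N : ℕ} (hq : Nat.card F = q)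
    (hN : q * (q ^ 2 - 1) = 2 * N) : Nat.card (PSL2 F) = N := by
  have h := Over.two_mul_card (F := F) hodd
  rw [hq, hN] at h
  omega

theorem exists_symFour_sq (hodd : Odd (Nat.card F)) (h7 : Nat.card F % 8 = 7) :
    ∃ H : Subgroup (PSL2 F), Nonempty (H ≃* Equiv.Perm (Fin 4)) := by
  cases nonempty_fintype F
  have h2 : (2 : F) ≠ 0 := by
    refine Ring.two_ne_zero ((FiniteField.even_card_iff_char_two (F := F)).not.2 ?_)
    rw [← Nat.card_eq_fintype_card]
    have := Nat.odd_iff.1 hodd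
    omega
  obtain ⟨s, hs⟩ := FiniteField.isSquare_two_iff.2 (by
    rw [← Nat.card_eq_fintype_card]; omega : Fintype.card F % 8 ≠ 3 ∧ Fintype.card F % 8 ≠ 5)
  exact CfsgLib.Linear.SmallSub.exists_symFour h2 (s := s) (by rw [pow_two]; exact hs.symm)

theorem exists_altFive_sub (h5 : 5 ∣ Nat.card F ^ 2 - 1) :
    ∃ H : Subgroup (PSL2 F), Nonempty (H ≃* alternatingGroup (Fin 5)) := by
  cases nonempty_fintype F
  obtain ⟨t, ht⟩ := CfsgLib.Linear.SmallSub.exists_tau (F := F) (by
    rw [CfsgLib.SL2C.card_SL2_mul, ← Nat.card_eq_fintype_card]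
    exact Dvd.dvd.mul_left h5 _)
  exact CfsgLib.Linear.SmallSub.exists_altFive ht

theorem exists_card_24_of_nine (h9 : Nat.card F = 9) :
    ∃ H : Subgroup (PSL2 F), Nat.card H = 24 := by
  cases nonempty_fintype F
  have h3 : Fact (Nat.Prime 3) := ⟨Nat.prime_three⟩
  have : CharP F 3 := charP_of_card_eq_prime_pow (f := 2)
    (by rw [← Nat.card_eq_fintype_card, h9]; norm_num)
  obtain ⟨φ⟩ := exists_hom_galois (F := F) 3 1 2 (by rw [h9]; norm_num) one_ne_zero (one_dvd 2)
  have hc := card_gf 3 1 le_rfl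
  rw [pow_one] at hc
  obtain ⟨H, ⟨e⟩⟩ := exists_subfield_pgl φ
    (isSquare_of_even φ (j := 1) (by rw [hc]; decide) (by rw [hc, h9]; norm_num))
  exact ⟨H, by rw [Nat.card_congr e.toEquiv, card_pgl, hc]; norm_num⟩

theorem torus_minus_bound (hodd : Odd (Nat.card F)) (h5 : 5 ≤ Nat.card F)
    (M : Subgroup (PSL2 F)) (hM : IsCoatom M) (k : ℕ) (hk : 2 * k + 1 = Nat.card F)
    (e : M ≃* DihedralGroup k) : 13 ≤ Nat.card F := by
  by_contra hlt
  have h4 : 4 ≤ Nat.card F := by omega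
  have hcM : Nat.card M = 2 * k := by rw [Nat.card_congr e.toEquiv, DihedralGroup.nat_card]
  have h2 : Fact (Nat.Prime 2) := ⟨Nat.prime_two⟩
  have h3 : Fact (Nat.Prime 3) := ⟨Nat.prime_three⟩
  have h5' : Fact (Nat.Prime 5) := ⟨by norm_num⟩
  rcases (show Nat.card F = 5 ∨ Nat.card F = 7 ∨ Nat.card F = 9 ∨ Nat.card F = 11 by
    have := Nat.odd_iff.1 hodd; omega) with h | h | h | h
  · -- a four-group in `A₄`
    have hL := card_psl_odd hodd h (N := 60) (by norm_num)
    obtain ⟨H, ⟨eH⟩⟩ : ∃ H : Subgroup (PSL2 F), Nonempty (H ≃* alternatingGroup (Fin 4)) := by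
      refine CfsgLib.Linear.SmallSub.exists_altFour (F := F) fun h0 => absurd h0 ?_
      cases nonempty_fintype F
      refine Ring.two_ne_zero ((FiniteField.even_card_iff_char_two (F := F)).not.2 ?_)
      rw [← Nat.card_eq_fintype_card, h]
      norm_num
    have hH : Nat.card H = 12 := by
      rw [Nat.card_congr eH.toEquiv, nat_card_alternatingGroup, Nat.card_fin]; rfl
    exact sylow_not_max 2 2 M hM (by omega) (by rw [hL]; norm_num) H (by rw [hH]; norm_num)
      (by rw [hH]; norm_num) (by omega)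
  · obtain rfl : k = 3 := by omega
    have hL := card_psl_odd hodd h (N := 168) (by norm_num)
    obtain ⟨H, ⟨eH⟩⟩ := exists_symFour_sq (F := F) hodd (by omega)
    have hH : Nat.card H = 24 := by
      rw [Nat.card_congr eH.toEquiv, Nat.card_perm, Nat.card_fin]; rfl
    exact dihedral_not_max 3 (by norm_num) M hM e (by rw [hL]; norm_num)
      (normalizer_ne_top h4 3 (by rw [hL]; norm_num) (by rw [hL]; norm_num)) H (by omega) (by omega)
      (exists_inverting_of_equiv eH 3 symFour_inverting)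
  · have hL := card_psl_odd hodd h (N := 360) (by norm_num)
    obtain ⟨H, hH⟩ := exists_card_24_of_nine (F := F) h
    exact sylow_not_max 2 3 M hM (by omega) (by rw [hL]; norm_num) H (by rw [hH]; norm_num)
      (by rw [hH]; norm_num) (by omega)
  · obtain rfl : k = 5 := by omega
    have hL := card_psl_odd hodd h (N := 660) (by norm_num)
    obtain ⟨H, ⟨eH⟩⟩ := exists_altFive_sub (F := F) (by rw [h]; norm_num)
    have hH : Nat.card H = 60 := by
      rw [Nat.card_congr eH.toEquiv, nat_card_alternatingGroup, Nat.card_fin]; rfl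
    exact dihedral_not_max 5 (by norm_num) M hM e (by rw [hL]; norm_num)
      (normalizer_ne_top h4 5 (by rw [hL]; norm_num) (by rw [hL]; norm_num)) H (by omega) (by omega)
      (exists_inverting_of_equiv eH 5 altFive_inverting)

theorem torus_plus_bound (hodd : Odd (Nat.card F)) (M : Subgroup (PSL2 F)) (hM : IsCoatom M)
    (k : ℕ) (hk : 2 * k = Nat.card F + 1) (e : M ≃* DihedralGroup k) :
    Nat.card F ≠ 7 ∧ Nat.card F ≠ 9 := by
  have hcM : Nat.card M = 2 * k := by rw [Nat.card_congr e.toEquiv, DihedralGroup.nat_card]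
  refine ⟨fun h => ?_, fun h => ?_⟩
  · have h2 : Fact (Nat.Prime 2) := ⟨Nat.prime_two⟩
    have hL := card_psl_odd hodd h (N := 168) (by norm_num)
    obtain ⟨H, ⟨eH⟩⟩ := exists_symFour_sq (F := F) hodd (by omega)
    have hH : Nat.card H = 24 := by
      rw [Nat.card_congr eH.toEquiv, Nat.card_perm, Nat.card_fin]; rfl
    exact sylow_not_max 2 3 M hM (by omega) (by rw [hL]; norm_num) H (by rw [hH]; norm_num)
      (by rw [hH]; norm_num) (by omega)
  · obtain rfl : k = 5 := by omega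
    have h5' : Fact (Nat.Prime 5) := ⟨by norm_num⟩
    have hL := card_psl_odd hodd h (N := 360) (by norm_num)
    obtain ⟨H, ⟨eH⟩⟩ := exists_altFive_sub (F := F) (by rw [h]; norm_num)
    have hH : Nat.card H = 60 := by
      rw [Nat.card_congr eH.toEquiv, nat_card_alternatingGroup, Nat.card_fin]; rfl
    exact dihedral_not_max 5 (by norm_num) M hM e (by rw [hL]; norm_num)
      (normalizer_ne_top (by omega) 5 (by rw [hL]; norm_num) (by rw [hL]; norm_num)) H (by omega)
      (by omega) (exists_inverting_of_equiv eH 5 altFive_inverting)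

/-- In characteristic two `PGL₂` is `PSL₂`. -/
theorem pgl_equiv_psl (K : Type*) [Field K] [Finite K] (h : Even (Nat.card K)) :
    Nonempty (PGL2 K ≃* PSL2 K) := by
  have := Torus.finite_pgl K
  have hc : Nat.card (PSL2 K) = Nat.card (PGL2 K) := by
    have h1 := mul_card (F := K)
    rwa [gcd_eq_one h, one_mul, ← card_pgl] at h1
  exact ⟨(MulEquiv.ofBijective _ ((Nat.bijective_iff_injective_and_card _).2
    ⟨Matrix.ProjectiveSpecialLinearGroup.toPGL_injective (n := Fin 2) (R := K), hc⟩)).symm⟩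

end CfsgLib.Dickson.MaxSub
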