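import Cfsg.Agent.Dickson.Orbits
import Mathlib.RingTheory.IntegralDomain
import Mathlib.GroupTheory.SpecificGroups.Dihedral

set_option autoImplicit false

/-!
Subgroups of `PGL₂(K)` fixing two points or preserving a pair of points.
-/

namespace CfsgLib.Dickson

open OnePoint

variable {K : Type*} [Field K] [DecidableEq K]

theorem isCyclic_of_fix_pair (C : Subgroup (PGL2 K)) [Finite C] {x y : OnePoint K} (hxy : x ≠ y)
    (h : ∀ g ∈ C, g • x = x ∧ g • y = y) : IsCyclic C := by
  obtain ⟨k, h1, h2⟩ := exists_smul_pair hxy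
  have hex : ∀ g : C, ∃ u : Kˣ, k * (g : PGL2 K) * k⁻¹ = aff u 0 := fun g => eq_dil_of_fix
    (by rw [← h1, mul_smul, mul_smul, inv_smul_smul, (h g g.2).1])
    (by rw [← h2, mul_smul, mul_smul, inv_smul_smul, (h g g.2).2])
  choose u hu using hex
  let f : C →* Kˣ :=
    { toFun := u
      map_one' := by
        have := hu 1
        rw [OneMemClass.coe_one, mul_one, mul_inv_cancel, eq_comm, aff_eq_one] at this
        exact this.1
      map_mul' := fun a b => by
        have := hu (a * b)
        rw [Subgroup.coe_mul, show k * ((a : PGL2 K) * b) * k⁻¹ = k * a * k⁻¹ * (k * b * k⁻¹) by group,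
          hu a, hu b, aff_mul] at this
        exact (aff_inj this).1.symm }
  have hinj : Function.Injective f := fun a b he => by
    have e : k * (a : PGL2 K) * k⁻¹ = k * b * k⁻¹ := by
      rw [hu a, hu b]; exact congrArg (fun v => aff v 0) he
    exact Subtype.ext (mul_left_cancel (mul_right_cancel e))
  exact isCyclic_of_injective_ringHom ((Units.coeHom K).comp f) (Units.val_injective.comp hinj)

theorem conj_eq_inv_of_swap {g t : PGL2 K} {x y : OnePoint K} (hxy : x ≠ y) (hx : g • x = x)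
    (hy : g • y = y) (tx : t • x = y) (ty : t • y = x) : t * g * t⁻¹ = g⁻¹ := by
  have h1 := sq_eq_one_of_swap hxy tx ty
  have h2 := sq_eq_one_of_swap (g := t * g) hxy (by rw [mul_smul, hx, tx]) (by rw [mul_smul, hy, ty])
  rw [eq_inv_iff_mul_eq_one, inv_eq_of_mul_eq_one_right h1]
  simpa [mul_assoc] using h2

/-- A group with a cyclic subgroup of index two all of whose outside elements invert it is dihedral. -/
theorem dihedral_of_index_two {G : Type*} [Group G] [Finite G] (C : Subgroup G) (hC : IsCyclic C)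
    (s : G) (hs : s ∉ C) (hss : s * s = 1) (hinv : ∀ c ∈ C, s * c * s⁻¹ = c⁻¹)
    (hall : ∀ g, g ∉ C → s * g ∈ C) : Nonempty (G ≃* DihedralGroup (Nat.card C)) := by
  obtain ⟨R, hR⟩ := hC.exists_generator
  have hRn : orderOf (R : G) = Nat.card C := by
    rw [Subgroup.orderOf_coe]; exact orderOf_eq_card_of_forall_mem_zpowers hR
  set n := Nat.card C
  have : NeZero n := ⟨Nat.card_pos.ne'⟩
  let f : DihedralGroup n → G
    | .r i => (R : G) ^ i.val
    | .sr i => s * (R : G) ^ i.val
  have hpow : ∀ i j : ZMod n, (R : G) ^ i.val * (R : G) ^ j.val = (R : G) ^ (i + j).val := by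
    intro i j
    rw [← pow_add, ZMod.val_add, ← pow_mod_orderOf (R : G) (i.val + j.val), hRn]
  have hflip : ∀ i : ZMod n, (R : G) ^ i.val * s = s * (R : G) ^ (-i).val := by
    intro i
    have h1 := hinv ((R : G) ^ i.val) (pow_mem R.2 _)
    have h2 : (R : G) ^ (-i).val = ((R : G) ^ i.val)⁻¹ := by
      apply eq_inv_of_mul_eq_one_right
      rw [hpow, add_neg_cancel, ZMod.val_zero, pow_zero]
    rw [h2, ← h1, ← mul_assoc, ← mul_assoc, hss, one_mul, inv_eq_of_mul_eq_one_right hss]
  have hmul : ∀ a b, f (a * b) = f a * f b := by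
    rintro (i | i) (j | j)
    · rw [DihedralGroup.r_mul_r]; exact (hpow i j).symm
    · rw [DihedralGroup.r_mul_sr]
      show s * (R : G) ^ (j - i).val = (R : G) ^ i.val * (s * (R : G) ^ j.val)
      rw [← mul_assoc, hflip, mul_assoc, hpow, neg_add_eq_sub]
    · rw [DihedralGroup.sr_mul_r]
      show s * (R : G) ^ (i + j).val = s * (R : G) ^ i.val * (R : G) ^ j.val
      rw [mul_assoc, hpow]
    · rw [DihedralGroup.sr_mul_sr]
      show (R : G) ^ (j - i).val = s * (R : G) ^ i.val * (s * (R : G) ^ j.val)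
      rw [← mul_assoc, mul_assoc s _ s, hflip, ← mul_assoc, hss, one_mul, hpow, neg_add_eq_sub]
  let φ : DihedralGroup n →* G := MonoidHom.mk' f hmul
  have hinj : Function.Injective φ := by
    have hz : ∀ i j : ZMod n, (R : G) ^ i.val = (R : G) ^ j.val → i = j := fun i j h => by
      apply ZMod.val_injective
      exact pow_injOn_Iio_orderOf (by rw [Set.mem_Iio, hRn]; exact ZMod.val_lt i)
        (by rw [Set.mem_Iio, hRn]; exact ZMod.val_lt j) h
    rintro (i | i) (j | j) h
    · rw [hz i j h]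
    · exfalso; apply hs
      rw [show s = (R : G) ^ i.val * ((R : G) ^ j.val)⁻¹ from eq_mul_inv_of_mul_eq h.symm]
      exact mul_mem (pow_mem R.2 _) (inv_mem (pow_mem R.2 _))
    · exfalso; apply hs
      rw [show s = (R : G) ^ j.val * ((R : G) ^ i.val)⁻¹ from eq_mul_inv_of_mul_eq h]
      exact mul_mem (pow_mem R.2 _) (inv_mem (pow_mem R.2 _))
    · rw [hz i j (mul_left_cancel h)]
  have hsurjC : ∀ c ∈ C, ∃ i : ZMod n, (R : G) ^ i.val = c := by
    intro c hc
    obtain ⟨k, hk⟩ := (mem_powers_iff_mem_zpowers (x := R)).2 (hR ⟨c, hc⟩)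
    refine ⟨(k : ZMod n), ?_⟩
    have hk' : (R : G) ^ k = c := congrArg Subtype.val hk
    rw [ZMod.val_natCast, ← hk', ← pow_mod_orderOf (R : G) k, hRn]
  have hsurj : Function.Surjective φ := by
    intro g
    by_cases hg : g ∈ C
    · obtain ⟨i, hi⟩ := hsurjC g hg
      exact ⟨.r i, hi⟩
    · obtain ⟨i, hi⟩ := hsurjC _ (hall g hg)
      refine ⟨.sr i, ?_⟩
      show s * (R : G) ^ i.val = g
      rw [hi, ← mul_assoc, hss, one_mul]
  exact ⟨(MulEquiv.ofBijective φ ⟨hinj, hsurj⟩).symm⟩

/-- A finite subgroup preserving a pair of points and swapping them is dihedral. -/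
theorem dihedral_of_pair (H : Subgroup (PGL2 K)) [Finite H] {x y : OnePoint K} (hxy : x ≠ y)
    (hpres : ∀ g ∈ H, (g • x = x ∧ g • y = y) ∨ (g • x = y ∧ g • y = x))
    (hswap : ∃ g ∈ H, g • x = y) :
    Nonempty (H ≃* DihedralGroup (Nat.card (stab H x))) := by
  obtain ⟨s, hsH, hs⟩ := hswap
  have hsy : s • y = x := by
    rcases hpres s hsH with h | h
    · exact absurd (h.1.symm.trans hs) hxy
    · exact h.2
  let C := (stab H x).subgroupOf H
  have hfix : ∀ g ∈ stab H x, g • x = x ∧ g • y = y := by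
    intro g hg
    rcases hpres g hg.1 with h | h
    · exact h
    · exact absurd (hg.2.symm.trans h.1) hxy
  have : Finite (stab H x) := Finite.of_injective _ (Subgroup.inclusion_injective (stab_le H x))
  have hcyc : IsCyclic (stab H x) := isCyclic_of_fix_pair _ hxy hfix
  have hC : IsCyclic C := (Subgroup.subgroupOfEquivOfLe (stab_le H x)).isCyclic.2 hcyc
  have hcard : Nat.card C = Nat.card (stab H x) :=
    Nat.card_congr (Subgroup.subgroupOfEquivOfLe (stab_le H x)).toEquiv
  rw [← hcard]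
  refine dihedral_of_index_two C hC ⟨s, hsH⟩ ?_ ?_ ?_ ?_
  · intro h
    exact hxy ((Subgroup.mem_subgroupOf.1 h).2.symm.trans hs)
  · exact Subtype.ext (sq_eq_one_of_swap hxy hs hsy)
  · intro c hc
    obtain ⟨hcx, hcy⟩ := hfix _ (Subgroup.mem_subgroupOf.1 hc)
    exact Subtype.ext (conj_eq_inv_of_swap hxy hcx hcy hs hsy)
  · intro g hg
    refine Subgroup.mem_subgroupOf.2 (mem_stab.2 ⟨(⟨s, hsH⟩ * g : H).2, ?_⟩)
    rcases hpres g g.2 with h | h
    · exact absurd (Subgroup.mem_subgroupOf.2 (mem_stab.2 ⟨g.2, h.1⟩)) hg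
    · show (s * (g : PGL2 K)) • x = x
      rw [mul_smul, h.1, hsy]

end CfsgLib.Dickson
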