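import Cfsg.Agent.Dickson.Orbits
import Cfsg.Agent.Dickson.PairStab
import Cfsg.Agent.Dickson.OrderSixty
import Mathlib.GroupTheory.SpecificGroups.Alternating

set_option autoImplicit false

/-!
Finite subgroups of `PGL₂(K)` with no unipotent element.
-/

namespace CfsgLib.Dickson

open OnePoint

variable {K : Type*} [Field K] [DecidableEq K]

theorem tame_arith {N s₁ s₂ s₃ e₁ e₂ e₃ : ℕ} (h : s₁ + s₂ + s₃ = N + 2) (h₁ : s₁ * e₁ = N)
    (h₂ : s₂ * e₂ = N) (h₃ : s₃ * e₃ = N) (he : 2 ≤ e₁) (h12 : e₁ ≤ e₂) (h23 : e₂ ≤ e₃) :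
    s₃ = 2 ∨ (N = 12 ∧ e₃ = 3) ∨ (N = 24 ∧ e₂ = 3) ∨ (N = 60 ∧ e₃ = 5) := by
  have he1 : e₁ = 2 := by
    by_contra hne
    have h3 : 3 ≤ e₁ := by omega
    nlinarith [Nat.mul_le_mul_left s₁ h3, Nat.mul_le_mul_left s₂ (h3.trans h12),
      Nat.mul_le_mul_left s₃ (h3.trans (h12.trans h23))]
  subst he1
  have he2 : e₂ = 2 ∨ e₂ = 3 := by
    by_contra hne
    have h4 : 4 ≤ e₂ := by omega
    nlinarith [Nat.mul_le_mul_left s₂ h4, Nat.mul_le_mul_left s₃ (h4.trans h23)]
  rcases he2 with rfl | rfl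
  · left; omega
  · right
    have h5 : e₃ ≤ 5 := by
      by_contra hne
      nlinarith [Nat.mul_le_mul_left s₃ (show 6 ≤ e₃ by omega)]
    interval_cases e₃ <;> omega

variable [IsAlgClosed K]

/-- The possible shapes of a finite subgroup without unipotent elements. -/
theorem tame (H : Subgroup (PGL2 K)) [Finite H] (hU : unipotents H = ∅) :
    (∃ x y : OnePoint K, x ≠ y ∧ ∀ g ∈ H, g • x = x ∧ g • y = y) ∨
    (∃ x y : OnePoint K, x ≠ y ∧ (∀ g ∈ H, (g • x = x ∧ g • y = y) ∨ (g • x = y ∧ g • y = x)) ∧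
      (∃ g ∈ H, g • x = y) ∧ x ∈ special H) ∨
    (Nat.card H = 12 ∧ ∃ x, x ∈ special H ∧ Nat.card (stab H x) = 3) ∨
    (Nat.card H = 24 ∧ ∃ x, x ∈ special H ∧ Nat.card (stab H x) = 3) ∨
    (Nat.card H = 60 ∧ ∃ x, x ∈ special H ∧ Nat.card (stab H x) = 5) := by
  classical
  obtain ⟨T, hT, hcov, huniq, hcount⟩ := counting H
  rw [hU, Set.ncard_empty, add_zero] at hcount
  have hN : 0 < Nat.card H := Nat.card_pos
  have hs : ∀ t ∈ T, 0 < (orb H t).ncard ∧ (orb H t).ncard * Nat.card (stab H t) = Nat.card H ∧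
      2 ≤ Nat.card (stab H t) := fun t ht =>
    ⟨(Set.ncard_pos (Set.finite_range _)).2 ⟨t, mem_orb_self H t⟩, card_orb_mul_card_stab H t,
      two_le_card_stab (hT t ht)⟩
  have hhalf : ∀ t ∈ T, 2 * (orb H t).ncard ≤ Nat.card H := fun t ht => by
    obtain ⟨-, h1, h2⟩ := hs t ht
    nlinarith
  obtain hr | hr | hr | hr | hr : T.card = 0 ∨ T.card = 1 ∨ T.card = 2 ∨ T.card = 3 ∨ 4 ≤ T.card := by
    omega
  · -- no special point at all: the group is trivial
    left
    rw [Finset.card_eq_zero.1 hr] at hcount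
    rw [Finset.sum_empty, Finset.card_empty, zero_mul] at hcount
    refine ⟨∞, ((0 : K) : OnePoint K), infty_ne_coe _, fun g hg => ?_⟩
    have : Subsingleton H := Finite.card_le_one_iff_subsingleton.1 (by omega)
    have h1 : g = 1 := congrArg Subtype.val (Subsingleton.elim (⟨g, hg⟩ : H) 1)
    subst h1
    exact ⟨one_smul _ _, one_smul _ _⟩
  · exfalso
    obtain ⟨a, rfl⟩ := Finset.card_eq_one.1 hr
    rw [Finset.sum_singleton, Finset.card_singleton] at hcount
    obtain ⟨h1, h2, h3⟩ := hs a (Finset.mem_singleton_self a)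
    nlinarith
  · left
    obtain ⟨a, b, hab, rfl⟩ := Finset.card_eq_two.1 hr
    rw [Finset.sum_pair hab, hr] at hcount
    have h1 := (hs a (by simp)).1
    have h2 := (hs b (by simp)).1
    refine ⟨a, b, hab, fun g hg => ?_⟩
    have ha : (orb H a).ncard = 1 := by omega
    have hb : (orb H b).ncard = 1 := by omega
    obtain ⟨z, hz⟩ := Set.ncard_eq_one.1 ha
    obtain ⟨w, hw⟩ := Set.ncard_eq_one.1 hb
    refine ⟨?_, ?_⟩
    · have e1 : g • a ∈ orb H a := mem_orb.2 ⟨g, hg, rfl⟩
      have e2 := mem_orb_self H a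
      rw [hz, Set.mem_singleton_iff] at e1 e2
      rw [e1, e2]
    · have e1 : g • b ∈ orb H b := mem_orb.2 ⟨g, hg, rfl⟩
      have e2 := mem_orb_self H b
      rw [hw, Set.mem_singleton_iff] at e1 e2
      rw [e1, e2]
  · -- three orbits
    obtain ⟨a, b, c, hab, hac, hbc, rfl⟩ := Finset.card_eq_three.1 hr
    rw [Finset.sum_insert (by simp [hab, hac]), Finset.sum_pair hbc, hr] at hcount
    have key : ∀ u v w : OnePoint K, u ∈ special H → v ∈ special H → w ∈ special H →
        Nat.card (stab H u) ≤ Nat.card (stab H v) → Nat.card (stab H v) ≤ Nat.card (stab H w) →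
        (orb H u).ncard + (orb H v).ncard + (orb H w).ncard = Nat.card H + 2 →
        (∃ x, x ∈ special H ∧ (orb H x).ncard = 2) ∨
        (Nat.card H = 12 ∧ ∃ x, x ∈ special H ∧ Nat.card (stab H x) = 3) ∨
        (Nat.card H = 24 ∧ ∃ x, x ∈ special H ∧ Nat.card (stab H x) = 3) ∨
        (Nat.card H = 60 ∧ ∃ x, x ∈ special H ∧ Nat.card (stab H x) = 5) := by
      intro u v w hu hv hw huv hvw hsum
      rcases tame_arith hsum (card_orb_mul_card_stab H u) (card_orb_mul_card_stab H v)
        (card_orb_mul_card_stab H w) (two_le_card_stab hu) huv hvw with h | ⟨h, e⟩ | ⟨h, e⟩ | ⟨h, e⟩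
      · exact Or.inl ⟨w, hw, h⟩
      · exact Or.inr (Or.inl ⟨h, w, hw, e⟩)
      · exact Or.inr (Or.inr (Or.inl ⟨h, v, hv, e⟩))
      · exact Or.inr (Or.inr (Or.inr ⟨h, w, hw, e⟩))
    have ha := hT a (by simp)
    have hb := hT b (by simp)
    have hc := hT c (by simp)
    have hmain : (∃ x, x ∈ special H ∧ (orb H x).ncard = 2) ∨
        (Nat.card H = 12 ∧ ∃ x, x ∈ special H ∧ Nat.card (stab H x) = 3) ∨
        (Nat.card H = 24 ∧ ∃ x, x ∈ special H ∧ Nat.card (stab H x) = 3) ∨
        (Nat.card H = 60 ∧ ∃ x, x ∈ special H ∧ Nat.card (stab H x) = 5) := by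
      rcases le_total (Nat.card (stab H a)) (Nat.card (stab H b)) with h1 | h1 <;>
        rcases le_total (Nat.card (stab H a)) (Nat.card (stab H c)) with h2 | h2 <;>
        rcases le_total (Nat.card (stab H b)) (Nat.card (stab H c)) with h3 | h3 <;>
        first
          | exact key a b c ha hb hc (by omega) (by omega) (by omega)
          | exact key a c b ha hc hb (by omega) (by omega) (by omega)
          | exact key b a c hb ha hc (by omega) (by omega) (by omega)
          | exact key b c a hb hc ha (by omega) (by omega) (by omega)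
          | exact key c a b hc ha hb (by omega) (by omega) (by omega)
          | exact key c b a hc hb ha (by omega) (by omega) (by omega)
    rcases hmain with ⟨x, hx, h2⟩ | h | h | h
    · right; left
      obtain ⟨p', q', hpq, he⟩ := Set.ncard_eq_two.1 h2
      have hxm := mem_orb_self H x
      obtain ⟨y, hy, hxy⟩ : ∃ y, orb H x = {x, y} ∧ x ≠ y := by
        rw [he] at hxm
        rcases hxm with rfl | hxm
        · exact ⟨q', he, hpq⟩
        · rw [Set.mem_singleton_iff] at hxm; subst hxm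
          exact ⟨p', by rw [he, Set.pair_comm], hpq.symm⟩
      obtain ⟨g0, hg0, hg0x⟩ := mem_orb.1 (show y ∈ orb H x by rw [hy]; exact Or.inr rfl)
      refine ⟨x, y, hxy, fun g hg => ?_, ⟨g0, hg0, hg0x⟩, hx⟩
      have e1 : g • x ∈ orb H x := mem_orb.2 ⟨g, hg, rfl⟩
      have e2 : g • y ∈ orb H x := mem_orb.2 ⟨g * g0, mul_mem hg hg0, by rw [mul_smul, hg0x]⟩
      have e3 : g • x ≠ g • y := fun h => hxy (MulAction.injective g h)
      rw [hy] at e1 e2
      simp only [Set.mem_insert_iff, Set.mem_singleton_iff] at e1 e2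
      rcases e1 with e1 | e1 <;> rcases e2 with e2 | e2 <;> rw [e1, e2] at e3
      · exact absurd rfl e3
      · exact Or.inl ⟨e1, e2⟩
      · exact Or.inr ⟨e1, e2⟩
      · exact absurd rfl e3
    · exact Or.inr (Or.inr (Or.inl h))
    · exact Or.inr (Or.inr (Or.inr (Or.inl h)))
    · exact Or.inr (Or.inr (Or.inr (Or.inr h)))
  · exfalso
    have := Finset.sum_le_sum hhalf
    rw [← Finset.mul_sum, Finset.sum_const, smul_eq_mul] at this
    nlinarith

omit [IsAlgClosed K] in
theorem finite_orb (H : Subgroup (PGL2 K)) [Finite H] (x : OnePoint K) : Finite (orb H x) :=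
  (Set.finite_range _).to_subtype

omit [IsAlgClosed K] in
/-- Order 12 with a point stabiliser of order 3: `A₄`. -/
theorem a4_of_stab (H : Subgroup (PGL2 K)) [Finite H] (hN : Nat.card H = 12) (x : OnePoint K)
    (hs : Nat.card (stab H x) = 3) : Nonempty (H ≃* alternatingGroup (Fin 4)) := by
  classical
  have h4 : (orb H x).ncard = 4 := by
    have := card_orb_mul_card_stab H x
    rw [hs, hN] at this; omega
  have := finite_orb H x
  let φ := MulAction.toPermHom H (MulAction.orbit H x)
  have hinj : Function.Injective φ := by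
    rw [injective_iff_map_eq_one]
    intro g hg
    obtain ⟨u, v, hu, hv, huv, w, hw, hwu, hwv⟩ : ∃ u v, u ∈ orb H x ∧ v ∈ orb H x ∧ u ≠ v ∧
        ∃ w ∈ orb H x, w ≠ u ∧ w ≠ v := by
      obtain ⟨t, ht, htc⟩ := Set.exists_subset_card_eq (s := orb H x) (n := 3) (by omega)
      obtain ⟨u, v, w, huv, huw, hvw, rfl⟩ := Set.ncard_eq_three.1 htc
      exact ⟨u, v, ht (by simp), ht (by simp), huv, w, ht (by simp), huw.symm, hvw.symm⟩
    have hfx : ∀ z, z ∈ orb H x → (g : PGL2 K) • z = z := fun z hz =>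
      congrArg Subtype.val (congrArg (fun σ : Equiv.Perm (MulAction.orbit H x) => σ ⟨z, hz⟩) hg)
    exact Subtype.ext (eq_one_of_fix_three huv hwu.symm hwv.symm (hfx u hu) (hfx v hv) (hfx w hw))
  have : Finite (MulAction.orbit H x) := finite_orb H x
  let e := Finite.equivFinOfCardEq ((Nat.card_coe_set_eq (orb H x)).trans h4)
  let ψ := (Equiv.permCongrHom e).toMonoidHom.comp φ
  have hψ : Function.Injective ψ := (Equiv.permCongrHom e).injective.comp hinj
  have hidx : ψ.range.index = 2 := by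
    have := ψ.range.card_mul_index
    rw [← Nat.card_congr (MonoidHom.ofInjective hψ).toEquiv, hN, Nat.card_perm, Nat.card_fin] at this
    simp [Nat.factorial] at this; omega
  exact ⟨(MonoidHom.ofInjective hψ).trans
    (MulEquiv.subgroupCongr (Equiv.Perm.eq_alternatingGroup_of_index_eq_two hidx))⟩

omit [IsAlgClosed K] in
theorem stab_subgroupOf_card (H : Subgroup (PGL2 K)) (x : OnePoint K) :
    Nat.card ((stab H x).subgroupOf H) = Nat.card (stab H x) :=
  Nat.card_congr (Subgroup.subgroupOfEquivOfLe (stab_le H x)).toEquiv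

/-- A point stabiliser with a large orbit is not normal. -/
theorem stab_not_normal (H : Subgroup (PGL2 K)) [Finite H] (x : OnePoint K)
    (h3 : 2 < (orb H x).ncard) (h1 : 1 < Nat.card (stab H x)) :
    ¬ ((stab H x).subgroupOf H).Normal := by
  intro hn
  have : Finite (stab H x) := Finite.of_injective _ (Subgroup.inclusion_injective (stab_le H x))
  have : Nontrivial (stab H x) := Finite.one_lt_card_iff_nontrivial.1 h1
  obtain ⟨c, hc1⟩ := exists_ne (1 : stab H x)
  have hc : (c : PGL2 K) ≠ 1 := fun h => hc1 (Subtype.ext h)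
  have hsub : orb H x ⊆ fix (c : PGL2 K) := by
    intro y hy
    obtain ⟨h, hh, rfl⟩ := mem_orb.1 hy
    have := hn.conj_mem ⟨c, (stab_le H x) c.2⟩ (Subgroup.mem_subgroupOf.2 c.2) ⟨h⁻¹, inv_mem hh⟩
    have h' : (h⁻¹ * (c : PGL2 K) * h⁻¹⁻¹) • x = x := (mem_stab.1 (Subgroup.mem_subgroupOf.1 this)).2
    rw [inv_inv, mul_smul, mul_smul, inv_smul_eq_iff] at h'
    exact h'
  have := Set.ncard_le_ncard hsub (fix_finite hc)
  rcases ncard_fix hc with e | e <;> omega

/-- Order 24 with a point stabiliser of order 3: `S₄`. -/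
theorem s4_of_stab (H : Subgroup (PGL2 K)) [Finite H] (hN : Nat.card H = 24) (x : OnePoint K)
    (hs : Nat.card (stab H x) = 3) : Nonempty (H ≃* Equiv.Perm (Fin 4)) := by
  classical
  have : Fact (Nat.Prime 3) := ⟨Nat.prime_three⟩
  have h8 : (orb H x).ncard = 8 := by
    have := card_orb_mul_card_stab H x
    rw [hs, hN] at this; omega
  set C := (stab H x).subgroupOf H with hCdef
  have hC : Nat.card C = 3 := (stab_subgroupOf_card H x).trans hs
  have h3card : ∀ Q : Sylow 3 H, Nat.card (Q : Subgroup H) = 3 := fun Q => by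
    rw [Q.card_eq_multiplicity, hN, show (24 : ℕ) = 3 * 8 by norm_num,
      Nat.factorization_mul (by norm_num) (by norm_num), Finsupp.add_apply,
      Nat.Prime.factorization_self Nat.prime_three, Nat.factorization_eq_zero_of_not_dvd (by norm_num)]
    norm_num
  let P : Sylow 3 H := Sylow.ofCard C (by
    have := h3card (Classical.arbitrary _)
    rw [Sylow.card_eq_multiplicity] at this
    rw [hC]; exact this.symm)
  have hPC : (P : Subgroup H) = C := rfl
  have hnP : ¬ (P : Subgroup H).Normal := by rw [hPC]; exact stab_not_normal H x (by omega) (by omega)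
  have hn4 : Nat.card (Sylow 3 H) = 4 := by
    have h1 : Nat.card (Sylow 3 H) ∣ 8 := by
      have := P.card_dvd_index
      have hm := (P : Subgroup H).card_mul_index
      rw [h3card, hN] at hm
      rwa [show (P : Subgroup H).index = 8 by omega] at this
    have h2 : Nat.card (Sylow 3 H) % 3 = 1 := card_sylow_modEq_one 3 H
    have h3 : Nat.card (Sylow 3 H) ≠ 1 := fun h => hnP (by
      rw [P.card_eq_index_normalizer, Subgroup.index_eq_one] at h
      exact Subgroup.normalizer_eq_top_iff.1 h)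
    have := Nat.le_of_dvd (by norm_num) h1
    interval_cases hk : Nat.card (Sylow 3 H) <;> omega
  let φ := MulAction.toPermHom H (Sylow 3 H)
  have hker : ∀ g, φ g = 1 → ∀ Q : Sylow 3 H, g ∈ Subgroup.normalizer ((Q : Subgroup H) : Set H) :=
    fun g hg Q => Sylow.smul_eq_iff_mem_normalizer.1
      (congrArg (fun σ : Equiv.Perm (Sylow 3 H) => σ Q) hg)
  -- the kernel is a normal subgroup inside the normaliser of `C`
  have hk3 : ∀ g ∈ φ.ker, g ∈ C → g = 1 := by
    intro g hg hgC
    by_contra hg1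
    have hgen : Subgroup.zpowers g = C := Subgroup.eq_of_le_of_card_ge (Subgroup.zpowers_le.2 hgC) (by
      rw [hC, Nat.card_zpowers]
      exact ((Nat.Prime.eq_one_or_self_of_dvd Nat.prime_three _
        (hC ▸ Subgroup.orderOf_dvd_natCard (s := C) hgC)).resolve_left
          (fun h => hg1 (orderOf_eq_one_iff.1 h))).ge)
    apply hnP
    have hall : ∀ Q : Sylow 3 H, Q = P := by
      intro Q
      have hCQ : C ≤ Subgroup.normalizer ((Q : Subgroup H) : Set H) :=
        hgen ▸ Subgroup.zpowers_le.2 (hker g (MonoidHom.mem_ker.1 hg) Q)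
      have hCp : IsPGroup 3 C := IsPGroup.of_card (n := 1) (by rw [hC, pow_one])
      have hle : C ≤ (Q : Subgroup H) := fun y hy =>
        ((hCp.inf_normalizer_sylow Q).le ⟨hy, hCQ hy⟩).2
      exact Sylow.ext ((Subgroup.eq_of_le_of_card_ge hle (by rw [h3card, hC])).symm.trans hPC.symm)
    refine ⟨fun y hy z => ?_⟩
    have := hall (z • P)
    rw [Sylow.smul_eq_iff_mem_normalizer] at this
    exact (Subgroup.mem_normalizer_iff.1 this y).1 hy
  have hcomm : ∀ g ∈ φ.ker, ∀ c ∈ C, g * c = c * g := by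
    intro g hg c hc
    have h1 : g * c * g⁻¹ * c⁻¹ ∈ φ.ker := by
      have := mul_mem hg (φ.normal_ker.conj_mem _ (inv_mem hg) c)
      simpa [mul_assoc] using this
    have h2 : g * c * g⁻¹ * c⁻¹ ∈ C :=
      mul_mem ((Subgroup.mem_normalizer_iff.1 (hker g (MonoidHom.mem_ker.1 hg) P) c).1 hc) (inv_mem hc)
    have := hk3 _ h1 h2
    rwa [mul_inv_eq_one, mul_inv_eq_iff_eq_mul] at this
  have hinj : Function.Injective φ := by
    rw [injective_iff_map_eq_one]
    intro g hg
    by_contra hg1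
    obtain ⟨c, hc, hc1⟩ := (Subgroup.bot_or_exists_ne_one C).resolve_left (fun h => by
      rw [h, Subgroup.card_bot] at hC; omega)
    have hgc := hcomm g hg c hc
    have hgc' : (g : PGL2 K) * c = c * g := congrArg Subtype.val hgc
    have hc1' : (c : PGL2 K) ≠ 1 := fun h => hc1 (Subtype.ext h)
    have hcx : (c : PGL2 K) • x = x := (mem_stab.1 (Subgroup.mem_subgroupOf.1 hc)).2
    have hgx : (g : PGL2 K) • x ≠ x := fun h =>
      hg1 (hk3 g hg (Subgroup.mem_subgroupOf.2 (mem_stab.2 ⟨g.2, h⟩)))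
    set y := (g : PGL2 K) • x with hy
    have hcy : (c : PGL2 K) • y = y := by rw [hy, ← mul_smul, ← hgc', mul_smul, hcx]
    have hgy : (g : PGL2 K) • y = x := by
      by_contra h
      have h2 : (g : PGL2 K) • y ≠ y := fun h' => hgx (MulAction.injective (g : PGL2 K) h')
      exact hc1' (eq_one_of_fix_three (Ne.symm hgx) (Ne.symm h) (Ne.symm h2) hcx hcy
        (by rw [← mul_smul, ← hgc', mul_smul, hcy]))
    have hinv := conj_eq_inv_of_swap (Ne.symm hgx) hcx hcy rfl hgy
    rw [hgc', mul_inv_cancel_right, eq_inv_iff_mul_eq_one] at hinv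
    have h2 : orderOf c ∣ 2 := orderOf_dvd_of_pow_eq_one (Subtype.ext (by
      rw [pow_two, Subgroup.coe_mul, Subgroup.coe_one]; exact hinv))
    have h3 := hC ▸ Subgroup.orderOf_dvd_natCard (s := C) hc
    exact hc1 (orderOf_eq_one_iff.1 (Nat.dvd_one.1 (by simpa using Nat.dvd_gcd h2 h3)))
  let e := Finite.equivFinOfCardEq hn4
  let ψ := (Equiv.permCongrHom e).toMonoidHom.comp φ
  have hψ : Function.Injective ψ := (Equiv.permCongrHom e).injective.comp hinj
  exact ⟨MulEquiv.ofBijective ψ ((Nat.bijective_iff_injective_and_card ψ).2 ⟨hψ, by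
    rw [hN, Nat.card_perm, Nat.card_fin]; rfl⟩)⟩

/-- Order 60 with a point stabiliser of order 5: `A₅`. -/
theorem a5_of_stab (H : Subgroup (PGL2 K)) [Finite H] (hN : Nat.card H = 60) (x : OnePoint K)
    (hs : Nat.card (stab H x) = 5) : Nonempty (H ≃* alternatingGroup (Fin 5)) := by
  have : Fact (Nat.Prime 5) := ⟨by decide⟩
  have h12 : (orb H x).ncard = 12 := by
    have := card_orb_mul_card_stab H x
    rw [hs, hN] at this; omega
  have hC : Nat.card ((stab H x).subgroupOf H) = 5 := (stab_subgroupOf_card H x).trans hs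
  let P : Sylow 5 H := Sylow.ofCard ((stab H x).subgroupOf H) (by
    have := OrderSixty.card_eq_five hN (Classical.arbitrary (Sylow 5 H))
    rw [Sylow.card_eq_multiplicity] at this
    rw [hC]; exact this.symm)
  exact OrderSixty.nonempty_mulEquiv hN P (by
    show ¬ ((stab H x).subgroupOf H).Normal
    exact stab_not_normal H x (by omega) (by omega))

end CfsgLib.Dickson
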