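import Cfsg.Agent.Dickson.Subfield

set_option autoImplicit false

/-!
Dickson's classification of the finite subgroups of `PGL₂(K)`, `K` algebraically closed of prime
characteristic.
-/

namespace CfsgLib.Dickson

open OnePoint

variable {K : Type*} [Field K] [DecidableEq K]

/-- The conjugate `g H g⁻¹`. -/
abbrev conjH (g : PGL2 K) (H : Subgroup (PGL2 K)) : Subgroup (PGL2 K) :=
  H.map (MulAut.conj g).toMonoidHom

omit [DecidableEq K] in
theorem mem_conjH {g : PGL2 K} {H : Subgroup (PGL2 K)} {x : PGL2 K} (hx : x ∈ H) :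
    g * x * g⁻¹ ∈ conjH g H :=
  ⟨x, hx, by simp⟩

/-- The isomorphism of a subgroup with its conjugate. -/
noncomputable def conjHEquiv (g : PGL2 K) (H : Subgroup (PGL2 K)) : H ≃* conjH g H :=
  H.equivMapOfInjective _ (MulAut.conj g).injective

omit [DecidableEq K] in
theorem conjH_mul (k g : PGL2 K) (H : Subgroup (PGL2 K)) :
    conjH (k * g) H = conjH k (conjH g H) := by
  rw [conjH, conjH, conjH, Subgroup.map_map]
  congr 1
  ext x
  simp [mul_assoc]

variable [IsAlgClosed K] (p : ℕ) [Fact p.Prime] [CharP K p]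

omit [IsAlgClosed K] [CharP K p] in
theorem inftySylow_conjH (H : Subgroup (PGL2 K)) [Finite H] (hp : p ∣ Nat.card H) {x : OnePoint K}
    (P : Sylow p H) (hP : ∀ h : H, h ∈ (P : Subgroup H) → (h : PGL2 K) • x = x) {g : PGL2 K}
    (hg : g • x = ∞) : InftySylow p (conjH g H) := by
  let e := conjHEquiv g H
  have : Finite (conjH g H) := Finite.of_equiv _ e.toEquiv
  have hcard : Nat.card (conjH g H) = Nat.card H := (Nat.card_congr e.toEquiv).symm
  refine ⟨hcard.symm ▸ hp, Sylow.ofCard ((P : Subgroup H).map e.toMonoidHom) ?_, ?_⟩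
  · rw [Subgroup.card_map_of_injective e.injective, P.card_eq_multiplicity, hcard]
  · intro h hh
    rw [Sylow.coe_ofCard] at hh
    obtain ⟨y, hy, rfl⟩ := hh
    show (g * (y : PGL2 K) * g⁻¹) • (∞ : OnePoint K) = ∞
    rw [← hg, mul_smul, mul_smul, inv_smul_smul, hP y hy]

omit [IsAlgClosed K] in
theorem card_transl_eq {H : Subgroup (PGL2 K)} {r : ℕ} {f : ℕ} (hr : r.Prime)
    (hq : Nat.card (transl H) = r) (hf : Nat.card (transl H) = p ^ f) : p = r ∧ f = 1 := by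
  rw [hq] at hf
  have h1 := hr
  rw [hf] at h1
  have hf1 : f = 1 := by
    by_contra h
    rcases Nat.eq_zero_or_pos f with h0 | h0
    · subst h0; exact Nat.not_prime_one (by simpa using h1)
    · exact Nat.Prime.not_prime_pow (by omega) h1
  exact ⟨by rw [hf, hf1, pow_one], hf1⟩

/-- **Dickson's theorem.** -/
theorem classification (H : Subgroup (PGL2 K)) [Finite H] :
    (∃ x : OnePoint K, ∀ g ∈ H, g • x = x) ∨
    (∃ n, 2 ≤ n ∧ ¬ p ∣ n ∧ Nat.card H = 2 * n ∧ Nonempty (H ≃* DihedralGroup n)) ∨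
    (5 ≤ p ∧ Nat.card H = 12 ∧ Nonempty (H ≃* alternatingGroup (Fin 4))) ∨
    (5 ≤ p ∧ Nat.card H = 24 ∧ Nonempty (H ≃* Equiv.Perm (Fin 4))) ∨
    (p ≠ 2 ∧ p ≠ 5 ∧ Nat.card H = 60 ∧ Nonempty (H ≃* alternatingGroup (Fin 5))) ∨
    (∃ f, 1 ≤ f ∧ ∃ g : PGL2 K, conjH g H = pglImage (frobFix (K := K) p f).subtype ∨
      (p ≠ 2 ∧ conjH g H = pslImage (frobFix (K := K) p f).subtype)) := by
  classical
  have hpp : p.Prime := Fact.out
  have hp2 := hpp.two_le
  by_cases hp : p ∣ Nat.card H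
  swap
  · have hU := unipotents_empty p H hp
    have hdiv : ∀ {k}, k ∣ Nat.card H → ¬ p ∣ k := fun hk h => hp (h.trans hk)
    rcases tame H hU with ⟨x, y, -, h⟩ | ⟨x, y, hxy, hpres, hswap, hx⟩ | ⟨hN, x, -, hs⟩ |
      ⟨hN, x, -, hs⟩ | ⟨hN, x, -, hs⟩
    · exact Or.inl ⟨x, fun g hg => (h g hg).1⟩
    · obtain ⟨e⟩ := dihedral_of_pair H hxy hpres hswap
      have hc := Nat.card_congr e.toEquiv
      rw [DihedralGroup.nat_card] at hc
      exact Or.inr (Or.inl ⟨_, two_le_card_stab hx, hdiv ⟨2, by omega⟩, hc, ⟨e⟩⟩)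
    · have h2 : p ≠ 2 := fun h => hdiv (k := 2) (hN ▸ by norm_num) (h ▸ dvd_rfl)
      have h3 : p ≠ 3 := fun h => hdiv (k := 3) (hN ▸ by norm_num) (h ▸ dvd_rfl)
      have h4 : p ≠ 4 := fun h => absurd hpp (h ▸ by norm_num)
      exact Or.inr (Or.inr (Or.inl ⟨by omega, hN, a4_of_stab H hN x hs⟩))
    · have h2 : p ≠ 2 := fun h => hdiv (k := 2) (hN ▸ by norm_num) (h ▸ dvd_rfl)
      have h3 : p ≠ 3 := fun h => hdiv (k := 3) (hN ▸ by norm_num) (h ▸ dvd_rfl)
      have h4 : p ≠ 4 := fun h => absurd hpp (h ▸ by norm_num)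
      exact Or.inr (Or.inr (Or.inr (Or.inl ⟨by omega, hN, s4_of_stab H hN x hs⟩)))
    · have h2 : p ≠ 2 := fun h => hdiv (k := 2) (hN ▸ by norm_num) (h ▸ dvd_rfl)
      have h5 : p ≠ 5 := fun h => hdiv (k := 5) (hN ▸ by norm_num) (h ▸ dvd_rfl)
      exact Or.inr (Or.inr (Or.inr (Or.inr (Or.inl ⟨h2, h5, hN, a5_of_stab H hN x hs⟩))))
  obtain ⟨x, P, hP⟩ := exists_sylow_fix p H hp
  obtain ⟨g₁, hg₁⟩ := exists_smul_eq_infty x
  -- reduce any conjugate with a Sylow subgroup fixing `∞` either to the conclusion or the main case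
  have step : ∀ g : PGL2 K, g • x = ∞ →
      ((∃ y : OnePoint K, ∀ h ∈ H, h • y = y) ∨
        (∃ n, 2 ≤ n ∧ ¬ p ∣ n ∧ Nat.card H = 2 * n ∧ Nonempty (H ≃* DihedralGroup n)) ∨
        (p ≠ 2 ∧ p ≠ 5 ∧ Nat.card H = 60 ∧ Nonempty (H ≃* alternatingGroup (Fin 5)))) ∨
      ((orb (conjH g H) ∞).ncard = Nat.card (transl (conjH g H)) + 1 ∧
        (2 * Nat.card (mults (conjH g H)) = Nat.card (transl (conjH g H)) - 1 ∨
          Nat.card (mults (conjH g H)) = Nat.card (transl (conjH g H)) - 1) ∧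
        Nat.card (conjH g H) = Nat.card (transl (conjH g H)) * Nat.card (mults (conjH g H)) *
          (Nat.card (transl (conjH g H)) + 1)) := by
    intro g hg
    let e := conjHEquiv g H
    have : Finite (conjH g H) := Finite.of_equiv _ e.toEquiv
    have hH := inftySylow_conjH p H hp P hP hg
    have hcard : Nat.card (conjH g H) = Nat.card H := (Nat.card_congr e.toEquiv).symm
    obtain ⟨f, hf, hqf⟩ := exists_card_transl hH
    have hfixed : (∀ h ∈ conjH g H, h • (∞ : OnePoint K) = ∞) → ∀ h ∈ H, h • x = x := fun h0 h hh => by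
      have := h0 _ (mem_conjH (g := g) hh)
      rw [← hg, mul_smul, mul_smul, inv_smul_smul] at this
      exact MulAction.injective g this
    rcases wild hH with h | ⟨hq, n, hn, hN, ⟨d⟩⟩ | ⟨hq, hN, ⟨d⟩⟩ | h
    · exact Or.inl (Or.inl ⟨x, hfixed h⟩)
    · obtain ⟨rfl, -⟩ := card_transl_eq p Nat.prime_two hq hqf
      rcases eq_or_ne n 1 with rfl | hn1
      · refine Or.inl (Or.inl ⟨x, hfixed fun h hh => ?_⟩)
        have htop : translGroup (conjH g H) = ⊤ :=
          Subgroup.eq_top_of_card_eq _ (by rw [card_translGroup (H := conjH g H), hq, hN])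
        obtain ⟨a, ha⟩ : (⟨h, hh⟩ : conjH g H) ∈ translGroup (conjH g H) := htop ▸ Subgroup.mem_top _
        rw [show h = _ from ha, aff_smul_infty]
      · refine Or.inl (Or.inr (Or.inl ⟨n, by rcases hn with ⟨k, rfl⟩; omega, ?_, hcard ▸ hN, ⟨e.trans d⟩⟩))
        exact hn.not_two_dvd_nat
    · obtain ⟨rfl, -⟩ := card_transl_eq p Nat.prime_three hq hqf
      exact Or.inl (Or.inr (Or.inr ⟨by norm_num, by norm_num, hcard ▸ hN, ⟨e.trans d⟩⟩))
    · exact Or.inr h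
  have lift : ∀ {A : Prop}, ((∃ y : OnePoint K, ∀ h ∈ H, h • y = y) ∨
        (∃ n, 2 ≤ n ∧ ¬ p ∣ n ∧ Nat.card H = 2 * n ∧ Nonempty (H ≃* DihedralGroup n)) ∨
        (p ≠ 2 ∧ p ≠ 5 ∧ Nat.card H = 60 ∧ Nonempty (H ≃* alternatingGroup (Fin 5)))) →
      (∃ x : OnePoint K, ∀ g ∈ H, g • x = x) ∨
      (∃ n, 2 ≤ n ∧ ¬ p ∣ n ∧ Nat.card H = 2 * n ∧ Nonempty (H ≃* DihedralGroup n)) ∨
      (5 ≤ p ∧ Nat.card H = 12 ∧ Nonempty (H ≃* alternatingGroup (Fin 4))) ∨
      (5 ≤ p ∧ Nat.card H = 24 ∧ Nonempty (H ≃* Equiv.Perm (Fin 4))) ∨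
      (p ≠ 2 ∧ p ≠ 5 ∧ Nat.card H = 60 ∧ Nonempty (H ≃* alternatingGroup (Fin 5))) ∨ A := by
    rintro A (h | h | h)
    · exact Or.inl h
    · exact Or.inr (Or.inl h)
    · exact Or.inr (Or.inr (Or.inr (Or.inr (Or.inl h))))
  rcases step g₁ hg₁ with h | ⟨hm, hcc, -⟩
  · exact lift h
  -- choose the conjugator so that `0` is in the orbit and `1` is a translation
  have : Finite (conjH g₁ H) := Finite.of_equiv _ (conjHEquiv g₁ H).toEquiv
  have hH₁ := inftySylow_conjH p H hp P hP hg₁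
  obtain ⟨a, ha, ha0⟩ := exists_ne_zero_transl hH₁
  obtain ⟨b, hb⟩ : ∃ b : K, (b : OnePoint K) ∈ orb (conjH g₁ H) ∞ := by
    have h2 := two_le_card_transl hH₁
    obtain ⟨z, hz, hz'⟩ := Set.exists_ne_of_one_lt_ncard (s := orb (conjH g₁ H) ∞) (by omega) ∞
    obtain ⟨b, rfl⟩ := ne_infty_iff_exists.1 hz'
    exact ⟨b, hz⟩
  let u : Kˣ := (Units.mk0 a ha0)⁻¹
  let k := aff u (-(u : K) * b)
  let g := k * g₁
  have hg : g • x = ∞ := by
    show (k * g₁) • x = ∞
    rw [mul_smul, hg₁, aff_smul_infty]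
  have hgH : conjH g H = conjH k (conjH g₁ H) := conjH_mul k g₁ H
  have h1 : (1 : K) ∈ transl (conjH g H) := by
    rw [hgH, mem_transl]
    refine ⟨aff 1 a, ha, ?_⟩
    simp only [MulEquiv.coe_toMonoidHom, MulAut.conj_apply]
    rw [mul_inv_eq_iff_eq_mul, aff_mul, aff_mul]
    simp [u, ha0, add_comm]
  have h0 : ((0 : K) : OnePoint K) ∈ orb (conjH g H) ∞ := by
    obtain ⟨h, hh, hhb⟩ := mem_orb.1 hb
    refine mem_orb.2 ⟨k * h * k⁻¹, hgH ▸ mem_conjH hh, ?_⟩
    have hk : k⁻¹ • (∞ : OnePoint K) = ∞ := inv_smul_eq_iff.2 (aff_smul_infty _ _).symm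
    rw [mul_smul, mul_smul, hk, hhb, aff_smul_coe]
    simp [u]
  rcases step g hg with h | ⟨hm, hcc, hN⟩
  · exact lift h
  right; right; right; right; right
  have : Finite (conjH g H) := Finite.of_equiv _ (conjHEquiv g H).toEquiv
  have hH := inftySylow_conjH p H hp P hP hg
  obtain ⟨f, hf, hqf⟩ := exists_card_transl hH
  have horb : orb (conjH g H) (∞ : OnePoint K) =
      insert ∞ ((fun x : K => (x : OnePoint K)) '' transl (conjH g H)) := by
    have hfin : (orb (conjH g H) (∞ : OnePoint K)).Finite := Set.finite_range _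
    refine (Set.eq_of_subset_of_ncard_le ?_ ?_ hfin).symm
    · rintro y (rfl | ⟨t, ht, rfl⟩)
      · exact mem_orb_self _ _
      · obtain ⟨h, hh, hh0⟩ := mem_orb.1 h0
        refine mem_orb.2 ⟨aff 1 t * h, mul_mem ht hh, ?_⟩
        rw [mul_smul, hh0, aff_smul_coe]
        simp
    · rw [Set.ncard_insert_of_notMem (by rintro ⟨t, _, h⟩; exact coe_ne_infty t h)
        ((Set.finite_coe_iff.1 (transl_finite _)).image _),
        Set.ncard_image_of_injective _ coe_injective, ← Nat.card_coe_set_eq]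
      exact hm.le
  exact ⟨f, hf, g, subfield_case p (conjH g H) hf hqf h1 (hqf ▸ hcc) horb (hqf ▸ hN)⟩

end CfsgLib.Dickson
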