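import Cfsg.Agent.Dickson.MaxPGL
import Mathlib.GroupTheory.GroupAction.MultipleTransitivity

/-!
The subgroups isomorphic to `A₅` of `PSL₂(11)`.
-/

set_option autoImplicit false
set_option linter.unusedSectionVars false
open scoped Pointwise

namespace CfsgLib.Dickson.Eleven

open CfsgLib.Linear.PSLTwo
open CfsgLib.Dickson.Torus (pslTop)

variable {F : Type*} [Field F] [Finite F]

local notation "ι" =>
  Matrix.ProjectiveSpecialLinearGroup.toPGL (n := Fin 2) (R := F)

variable (hF : Nat.card F = 11)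

include hF

theorem charP : CharP F 11 := by
  cases nonempty_fintype F
  have : Fact (Nat.Prime 11) := ⟨by norm_num⟩
  exact charP_of_card_eq_prime (by rw [← Nat.card_eq_fintype_card, hF])

theorem card_psl : Nat.card (PSL2 F) = 660 := by
  have h := Over.two_mul_card (F := F) (by rw [hF]; decide)
  rw [hF] at h
  norm_num at h
  omega

theorem coatom {H : Subgroup (PSL2 F)} (e : H ≃* alternatingGroup (Fin 5)) : IsCoatom H := by
  have : Fact (Nat.Prime 11) := ⟨by norm_num⟩
  have := charP hF
  exact Over.altFive_coatom 11 (Or.inl hF) (by rw [card_psl hF]; norm_num) H e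

theorem card_altFive {G : Type*} [Group G] {H : Subgroup G} (e : H ≃* alternatingGroup (Fin 5)) :
    Nat.card H = 60 := by
  rw [Nat.card_congr e.toEquiv, nat_card_alternatingGroup, Nat.card_fin]; rfl

theorem normalizer_eq {H : Subgroup (PSL2 F)} (e : H ≃* alternatingGroup (Fin 5)) :
    Subgroup.normalizer (H : Set (PSL2 F)) = H := by
  have := isSimple (F := F) (by rw [hF]; norm_num)
  have hc := card_altFive hF e
  rcases eq_or_lt_of_le (Subgroup.le_normalizer (H := H)) with h | h
  · exact h.symm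
  · exfalso
    rcases IsSimpleGroup.eq_bot_or_eq_top_of_normal H
      (Subgroup.normalizer_eq_top_iff.1 ((coatom hF e).2 _ h)) with h' | h'
    · rw [h', Subgroup.card_bot] at hc
      omega
    · rw [h', Subgroup.card_top, card_psl hF] at hc
      omega

/-- An `A₅` is self-normalising in `PGL₂(11)`. -/
theorem normalizer_eq_pgl {H : Subgroup (PGL2 F)} (e : H ≃* alternatingGroup (Fin 5)) :
    Subgroup.normalizer (H : Set (PGL2 F)) = H := by
  classical
  have := Torus.finite_pgl F
  have : Fact (Nat.Prime 11) := ⟨by norm_num⟩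
  have := charP hF
  have hodd : Odd (Nat.card F) := by rw [hF]; decide
  have hidx : (pslTop F).index = 2 := (Torus.index_pslTop F).trans (gcd_eq_two hodd)
  have hL : H ≤ pslTop F := Small.alternating_le_pslTop e
  set N := Subgroup.normalizer (H : Set (PGL2 F)) with hNdef
  have hH' : Nat.card H = 60 := card_altFive hF e
  -- inside `PSL₂` the normaliser is `H`
  have hinf : N ⊓ pslTop F = H := by
    refine le_antisymm ?_ (le_inf Subgroup.le_normalizer hL)
    rintro _ ⟨hxN, x, rfl⟩
    have e' : H.comap ι ≃* alternatingGroup (Fin 5) :=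
      ((MaxSub.mapEquiv (H.comap ι)).trans
        (MulEquiv.subgroupCongr (Subgroup.map_comap_eq_self hL))).trans e
    show x ∈ H.comap ι
    rw [← normalizer_eq hF e']
    refine Subgroup.mem_normalizer_iff.2 fun z => ?_
    simp only [Subgroup.mem_comap, map_mul, map_inv]
    exact Subgroup.mem_normalizer_iff.1 hxN (ι z)
  by_contra hne
  have hNL : ¬ N ≤ pslTop F := fun h => hne (by rwa [inf_eq_left.2 h] at hinf)
  have hN120 : Nat.card N = 120 := by
    rw [← Torus.two_mul_card_inf _ N hidx hNL, hinf, hH']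
  have hG : Nat.card (PGL2 F) = 1320 := by rw [card_pgl, hF]; norm_num
  obtain ⟨M, hM, hNM⟩ := (eq_top_or_exists_le_coatom N).resolve_left fun h => by
    rw [h, Subgroup.card_top] at hN120
    omega
  have hML : ¬ pslTop F ≤ M := by
    intro h
    rcases eq_or_lt_of_le h with he | hlt
    · exact hNL (hNM.trans he.ge)
    · have h2 : M.index < 2 := by
        have := Subgroup.relIndex_mul_index h
        rw [hidx] at this
        have h1 : (pslTop F).relIndex M ≠ 1 := fun h1 =>
          hlt.ne (le_antisymm h (Subgroup.relIndex_eq_one.1 h1))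
        have := Nat.le_of_dvd two_pos (Dvd.intro_left _ this)
        interval_cases hi : M.index <;> simp_all
      have h3 : M.index ≠ 0 := Subgroup.index_ne_zero_of_finite
      exact hM.1 (Subgroup.index_eq_one.1 (by omega))
  have hd := Subgroup.card_dvd_of_le hNM
  rw [hN120] at hd
  rcases MaxSub.pgl_max 11 hodd (by rw [hF]; norm_num) hM hML with ⟨w, rfl⟩ |
    ⟨c, hc, ⟨d⟩, -⟩ | ⟨-, -, -, ⟨d⟩, -⟩ | ⟨f, m, hf, hm, -, hq, -⟩
  · rw [MaxSub.card_stabilizer_pgl, hF] at hd
    norm_num at hd
  · rw [Torus.card_of_dihedral d] at hd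
    have := Nat.le_of_dvd (by omega) hd
    omega
  · rw [Nat.card_congr d.toEquiv, Nat.card_perm, Nat.card_fin] at hd
    exact absurd (Nat.le_of_dvd (by decide) hd) (by decide)
  · exact Over.one_eq_of_card 11 hF hf hm.two_le hq

/-- Every `A₅` is conjugate in `PGL₂(11)` to a given one. -/
theorem conj_all {H H' : Subgroup (PGL2 F)} (e : H ≃* alternatingGroup (Fin 5))
    (e' : H' ≃* alternatingGroup (Fin 5)) : ∃ k, conjH k H = H' := by
  classical
  cases nonempty_fintype F
  have : Fact (Nat.Prime 11) := ⟨by norm_num⟩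
  have := charP hF
  have h2 : (2 : F) ≠ 0 := by
    exact_mod_cast MaxSub.natCast_ne_zero (F := F) 11 (n := 2) (by norm_num)
  obtain ⟨t, ht⟩ := CfsgLib.Linear.SmallSub.exists_tau (F := F) (by
    rw [CfsgLib.SL2C.card_SL2_mul, ← Nat.card_eq_fintype_card, hF]; norm_num)
  obtain ⟨b, d, h⟩ := Small.exists_conic h2 t 1 (by rintro rfl; simp at ht) (Or.inl rfl)
  obtain ⟨k, hk⟩ := Small.altFive_form e ht h
  obtain ⟨k', hk'⟩ := Small.altFive_form e' ht h
  refine ⟨k'⁻¹ * k, ?_⟩
  rw [conjH_mul, hk, ← hk', ← conjH_mul, inv_mul_cancel, conjH, map_one]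
  exact Subgroup.map_id H'

theorem exists_altFive : ∃ H : Subgroup (PSL2 F), Nonempty (H ≃* alternatingGroup (Fin 5)) := by
  cases nonempty_fintype F
  obtain ⟨t, ht⟩ := CfsgLib.Linear.SmallSub.exists_tau (F := F) (by
    rw [CfsgLib.SL2C.card_SL2_mul, ← Nat.card_eq_fintype_card, hF]; norm_num)
  exact CfsgLib.Linear.SmallSub.exists_altFive ht

/-- Two `A₅`s in one class sharing a Sylow `2`-subgroup coincide. -/
theorem mem_of_four {H : Subgroup (PSL2 F)} (e : H ≃* alternatingGroup (Fin 5))
    (V : Subgroup (PSL2 F)) (hV : Nat.card V = 4) (hVH : V ≤ H) (g : PSL2 F)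
    (hVg : ∀ v ∈ V, g⁻¹ * v * g ∈ H) : g ∈ H := by
  classical
  have : Fact (Nat.Prime 2) := ⟨Nat.prime_two⟩
  have : Fact (Nat.Prime 11) := ⟨by norm_num⟩
  have := charP hF
  have hH' : Nat.card H = 60 := card_altFive hF e
  have hfac : (Nat.card H).factorization 2 = 2 := by
    rw [hH', show 60 = 2 ^ 2 * 15 by rfl, Nat.factorization_mul (by norm_num) (by norm_num),
      Finsupp.add_apply, Nat.prime_two.factorization_pow, Finsupp.single_eq_same,
      Nat.factorization_eq_zero_of_not_dvd (by norm_num : ¬ 2 ∣ 15)]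
  -- normaliser of `V`
  have hnorm : ∀ V : Subgroup (PSL2 F), Nat.card V = 4 → V ≤ H →
      Subgroup.normalizer (V : Set (PSL2 F)) ≤ H := by
    intro V hV hVH
    -- `N_H(V) ≅ A₄` from the embedded `A₄`s
    obtain ⟨j, hj, W, hW, hWn⟩ : ∃ (j : alternatingGroup (Fin 4) →* alternatingGroup (Fin 5)),
        Function.Injective j ∧ ∃ W : Subgroup (alternatingGroup (Fin 4)), Nat.card W = 4 ∧
          W.Normal := by
      refine ⟨(((Equiv.Perm.viaEmbeddingHom (Fin.castSuccEmb)).comp
          (alternatingGroup (Fin 4)).subtype).codRestrict (alternatingGroup (Fin 5)) (fun a =>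
            Equiv.Perm.mem_alternatingGroup.2 (by
              rw [MonoidHom.comp_apply, Equiv.Perm.viaEmbeddingHom_apply,
                Equiv.Perm.viaEmbedding, Equiv.Perm.sign_extendDomain]
              exact a.2))),
        fun a b h => Subtype.ext (Equiv.Perm.viaEmbeddingHom_injective _ (congrArg Subtype.val h)),
        { carrier := {a | a * a = 1}
          one_mem' := one_mul 1
          mul_mem' := fun {a b} => (by decide +kernel : ∀ a b : alternatingGroup (Fin 4),
            a * a = 1 → b * b = 1 → a * b * (a * b) = 1) a b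
          inv_mem' := fun {a} ha => by
            rw [Set.mem_setOf_eq] at ha ⊢
            rw [← _root_.mul_inv_rev, ha, inv_one] }, ?_, ⟨fun a ha b => ?_⟩⟩
      · show Nat.card {a : alternatingGroup (Fin 4) // a * a = 1} = 4
        rw [Nat.card_eq_fintype_card]; decide +kernel
      · show b * a * b⁻¹ * (b * a * b⁻¹) = 1
        rw [show b * a * b⁻¹ * (b * a * b⁻¹) = b * (a * a) * b⁻¹ by group,
          show a * a = 1 from ha, mul_one, mul_inv_cancel]
    let f : alternatingGroup (Fin 4) →* PSL2 F := H.subtype.comp (e.symm.toMonoidHom.comp j)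
    have hf : Function.Injective f := H.subtype_injective.comp (e.symm.injective.comp hj)
    -- move the image of `W` to `V` inside `H`
    let P : Sylow 2 H := Sylow.ofCard (V.subgroupOf H) (by
      rw [Nat.card_congr (Subgroup.subgroupOfEquivOfLe hVH).toEquiv, hV, hfac]; rfl)
    let Q : Sylow 2 H := Sylow.ofCard (W.map (e.symm.toMonoidHom.comp j)) (by
      rw [Subgroup.card_map_of_injective (e.symm.injective.comp hj), hW, hfac]; rfl)
    obtain ⟨h, hh⟩ := MulAction.exists_smul_eq H Q P
    let f' : alternatingGroup (Fin 4) →* PSL2 F := (MulAut.conj (h : PSL2 F)).toMonoidHom.comp f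
    have hf' : Function.Injective f' := (MulAut.conj (h : PSL2 F)).injective.comp hf
    have hWV : W.map f' = V := by
      have h1 : (P : Subgroup H).map H.subtype = V := by
        rw [show (P : Subgroup H) = V.subgroupOf H from Sylow.coe_ofCard _ _,
          Subgroup.map_subgroupOf_eq_of_le hVH]
      rw [← h1, ← hh]
      rw [show (↑(h • Q) : Subgroup H) = (Q : Subgroup H).map (MulAut.conj h).toMonoidHom from rfl,
        show (Q : Subgroup H) = W.map (e.symm.toMonoidHom.comp j) from Sylow.coe_ofCard _ _,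
        Subgroup.map_map, Subgroup.map_map]
      rfl
    have hf'H : f'.range ≤ H := by
      rintro _ ⟨a, rfl⟩
      exact mul_mem (mul_mem h.2 (e.symm (j a)).2) (inv_mem h.2)
    have hA : f'.range ≤ Subgroup.normalizer (V : Set (PSL2 F)) := by
      rintro _ ⟨a, rfl⟩
      rw [← hWV, Subgroup.mem_normalizer_iff]
      intro z
      constructor
      · rintro ⟨w, hw, rfl⟩
        exact ⟨a * w * a⁻¹, hWn.conj_mem w hw a, by simp only [map_mul, map_inv]⟩
      · rintro ⟨w, hw, hz⟩
        refine ⟨a⁻¹ * w * a⁻¹⁻¹, hWn.conj_mem w hw a⁻¹, ?_⟩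
        simp only [map_mul, map_inv, hz]
        group
    have hcf : Nat.card f'.range = 12 := by
      rw [← Nat.card_congr (MonoidHom.ofInjective hf').toEquiv, nat_card_alternatingGroup,
        Nat.card_fin]
      rfl
    have hne : Subgroup.normalizer (V : Set (PSL2 F)) ≠ ⊤ := fun h => by
      have := isSimple (F := F) (by rw [hF]; norm_num)
      rcases IsSimpleGroup.eq_bot_or_eq_top_of_normal V (Subgroup.normalizer_eq_top_iff.1 h)
        with h' | h'
      · rw [h', Subgroup.card_bot] at hV; omega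
      · rw [h', Subgroup.card_top, card_psl hF] at hV; omega
    rcases Over.card_over_altFour 11 (by norm_num) f' hf' _ hne hA with h | ⟨-, g, -, hg⟩ | h |
      ⟨f, m, hf, hm, h⟩
    · rwa [← Subgroup.eq_of_le_of_card_ge hA (by omega)]
    · exact absurd (Over.mod_eight_of_orderOf_four 11 hF (by norm_num) hg) (by norm_num)
    · exfalso
      set N := Subgroup.normalizer (V : Set (PSL2 F))
      rcases proper_cases 11 N hne with ⟨P, hp, -⟩ | ⟨hcyc, -, -⟩ | ⟨n, -, -, hn, hc, -⟩ |
        ⟨-, hc, -⟩ | ⟨-, hc, -⟩ | ⟨-, -, -, ⟨d⟩⟩ | ⟨a, m, ha, hm, hq, -⟩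
      · rw [h] at hp; norm_num at hp
      · exact Over.altFour_not_comm fun a b => hf' (by
          have h1 := congrArg Subtype.val (IsCyclic.commGroup.mul_comm
            (⟨f' a, hA ⟨a, rfl⟩⟩ : N) ⟨f' b, hA ⟨b, rfl⟩⟩)
          simp only [Subgroup.coe_mul] at h1
          rwa [map_mul, map_mul])
      · rw [hc] at h
        rw [hF] at hn
        norm_num at hn
        rcases hn with hn | hn <;> have := Nat.le_of_dvd (by norm_num) hn <;> omega
      · omega
      · omega
      · have hsimp : IsSimpleGroup N := by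
          have := Nat.card_congr d.toEquiv
          exact d.symm.isSimpleGroup_congr.1 inferInstance
        have hVN : (V.subgroupOf N).Normal := Subgroup.normal_in_normalizer
        have hcV : Nat.card (V.subgroupOf N) = 4 :=
          (Nat.card_congr (Subgroup.subgroupOfEquivOfLe Subgroup.le_normalizer).toEquiv).trans hV
        rcases hVN.eq_bot_or_eq_top with h' | h'
        · rw [h', Subgroup.card_bot] at hcV; omega
        · rw [h', Subgroup.card_top, h] at hcV; omega
      · exact Over.one_eq_of_card 11 hF ha hm hq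
    · exact absurd h (Over.one_eq_of_card 11 hF hf hm)
  -- `g⁻¹ V g` and `V` are Sylow subgroups of `H`
  let V' : Subgroup (PSL2 F) := V.map (MulAut.conj g⁻¹).toMonoidHom
  have hV'H : V' ≤ H := by
    rintro _ ⟨v, hv, rfl⟩
    show g⁻¹ * v * g⁻¹⁻¹ ∈ H
    rw [inv_inv]
    exact hVg v hv
  have hV' : Nat.card V' = 4 :=
    (Subgroup.card_map_of_injective (MulAut.conj g⁻¹).injective).trans hV
  let P : Sylow 2 H := Sylow.ofCard (V.subgroupOf H) (by
    rw [Nat.card_congr (Subgroup.subgroupOfEquivOfLe hVH).toEquiv, hV, hfac]; rfl)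
  let Q : Sylow 2 H := Sylow.ofCard (V'.subgroupOf H) (by
    rw [Nat.card_congr (Subgroup.subgroupOfEquivOfLe hV'H).toEquiv, hV', hfac]; rfl)
  obtain ⟨h, hh⟩ := MulAction.exists_smul_eq H Q P
  have hmap : V'.map (MulAut.conj (h : PSL2 F)).toMonoidHom = V := by
    have h1 : (P : Subgroup H).map H.subtype = V := by
      rw [show (P : Subgroup H) = V.subgroupOf H from Sylow.coe_ofCard _ _,
        Subgroup.map_subgroupOf_eq_of_le hVH]
    have h3 : (V'.subgroupOf H).map (H.subtype.comp (MulAut.conj h).toMonoidHom) =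
        V'.map (MulAut.conj (h : PSL2 F)).toMonoidHom := by
      rw [show H.subtype.comp (MulAut.conj h).toMonoidHom =
        (MulAut.conj (h : PSL2 F)).toMonoidHom.comp H.subtype from rfl,
        ← Subgroup.map_map, Subgroup.map_subgroupOf_eq_of_le hV'H]
    rw [← h3, ← h1, ← hh,
      show (↑(h • Q) : Subgroup H) = (Q : Subgroup H).map (MulAut.conj h).toMonoidHom from rfl,
      show (Q : Subgroup H) = V'.subgroupOf H from Sylow.coe_ofCard _ _, Subgroup.map_map]
  have hmem : (h : PSL2 F) * g⁻¹ ∈ Subgroup.normalizer (V : Set (PSL2 F)) := by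
    rw [Subgroup.mem_normalizer_iff]
    intro v
    have hcomp : ∀ v ∈ V, (h : PSL2 F) * g⁻¹ * v * ((h : PSL2 F) * g⁻¹)⁻¹ ∈ V := by
      intro v hv
      have h2 : MulAut.conj (h : PSL2 F) (MulAut.conj g⁻¹ v) ∈ V :=
        hmap.le ⟨_, ⟨v, hv, rfl⟩, rfl⟩
      simpa [mul_assoc] using h2
    refine ⟨hcomp v, fun hv => ?_⟩
    have heq : V.map (MulAut.conj ((h : PSL2 F) * g⁻¹)).toMonoidHom = V :=
      Subgroup.eq_of_le_of_card_ge (by rintro _ ⟨w, hw, rfl⟩; exact hcomp w hw)
        (Subgroup.card_map_of_injective (MulAut.conj _).injective).ge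
    rw [← heq] at hv
    obtain ⟨w, hw, hwe⟩ := hv
    rwa [← (MulAut.conj ((h : PSL2 F) * g⁻¹)).injective hwe]
  have := hnorm V hV hVH hmem
  have h2 := mul_mem (inv_mem h.2) this
  rw [← mul_assoc, inv_mul_cancel, one_mul] at h2
  exact inv_mem_iff.1 h2

/-- `PSL₂(11)` is doubly transitive on the eleven cosets of an `A₅`. -/
theorem two_transitive {H : Subgroup (PSL2 F)} (e : H ≃* alternatingGroup (Fin 5)) :
    MulAction.IsMultiplyPretransitive (PSL2 F) (PSL2 F ⧸ H) 2 := by
  classical
  have hH' : Nat.card H = 60 := card_altFive hF e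
  have hidx : H.index = 11 := by
    have := H.card_mul_index
    rw [hH', card_psl hF] at this
    omega
  let o : PSL2 F ⧸ H := QuotientGroup.mk 1
  have hstab : ∀ x : PSL2 F ⧸ H, x ≠ o →
      ¬ 4 ∣ Nat.card (MulAction.stabilizer H x) := by
    intro x hx h4
    obtain ⟨g, rfl⟩ := QuotientGroup.mk_surjective x
    have : Fact (Nat.Prime 2) := ⟨Nat.prime_two⟩
    obtain ⟨V, hV⟩ := Sylow.exists_subgroup_card_pow_prime (G := MulAction.stabilizer H
      (QuotientGroup.mk g : PSL2 F ⧸ H)) 2 (n := 2) (by simpa using h4)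
    let V₀ : Subgroup (PSL2 F) :=
      (V.map (MulAction.stabilizer H (QuotientGroup.mk g : PSL2 F ⧸ H)).subtype).map H.subtype
    have hc : Nat.card V₀ = 4 := by
      rw [Subgroup.card_map_of_injective H.subtype_injective,
        Subgroup.card_map_of_injective (Subgroup.subtype_injective _), hV]
      norm_num
    apply hx
    rw [QuotientGroup.eq, mul_one, inv_mem_iff]
    refine mem_of_four hF e V₀ hc (Subgroup.map_subtype_le _) g ?_
    rintro _ ⟨_, ⟨v, -, rfl⟩, rfl⟩
    have hv : ((v : H) : PSL2 F) • (QuotientGroup.mk g : PSL2 F ⧸ H) = QuotientGroup.mk g := v.2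
    rw [MulAction.Quotient.smul_mk, QuotientGroup.eq] at hv
    have h2 := inv_mem hv
    simp only [smul_eq_mul, _root_.mul_inv_rev, inv_inv] at h2
    rw [← mul_assoc] at h2
    exact h2
  have hsize : ∀ x : PSL2 F ⧸ H, x ≠ o → 6 ≤ (MulAction.orbit H x).ncard := by
    intro x hx
    have hos : (MulAction.orbit H x).ncard * Nat.card (MulAction.stabilizer H x) = 60 := by
      rw [← Nat.card_coe_set_eq, Nat.card_congr (MulAction.orbitEquivQuotientStabilizer H x),
        ← Subgroup.card_eq_card_quotient_mul_card_subgroup, hH']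
    by_contra hlt
    rcases (show (MulAction.orbit H x).ncard ≤ 4 ∨ (MulAction.orbit H x).ncard = 5 by omega)
      with h5 | h5
    · have hpos : 0 < (MulAction.orbit H x).ncard :=
        (Set.ncard_pos (Set.toFinite _)).2 ⟨x, MulAction.mem_orbit_self x⟩
      have hS := hstab x hx
      have : MulAction.IsPretransitive H (MulAction.orbit H x) := inferInstance
      let f : H →* Equiv.Perm (MulAction.orbit H x) := MulAction.toPermHom _ _
      have hsimple : IsSimpleGroup H := e.symm.isSimpleGroup_congr.1 inferInstance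
      rcases f.normal_ker.eq_bot_or_eq_top with hk | hk
      · have h1 := Nat.card_le_card_of_injective f ((MonoidHom.ker_eq_bot_iff f).1 hk)
        rw [hH', Nat.card_perm, Nat.card_coe_set_eq] at h1
        have := Nat.factorial_le h5
        rw [show Nat.factorial 4 = 24 from rfl] at this
        omega
      · have hone : (MulAction.orbit H x).ncard = 1 := by
          rw [Set.ncard_eq_one]
          refine ⟨x, Set.eq_singleton_iff_unique_mem.2 ⟨MulAction.mem_orbit_self x, ?_⟩⟩
          rintro _ ⟨h, rfl⟩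
          have h1 : f h = 1 := MonoidHom.mem_ker.1 (hk ▸ Subgroup.mem_top h)
          exact congrArg Subtype.val (DFunLike.congr_fun h1 ⟨x, MulAction.mem_orbit_self x⟩)
        rw [hone, one_mul] at hos
        exact hS (by rw [hos]; norm_num)
    · rw [h5] at hos
      exact hstab x hx ⟨3, by omega⟩
  have hcard : Nat.card (PSL2 F ⧸ H) = 11 := hidx
  have htrans : ∀ x y : PSL2 F ⧸ H, x ≠ o → y ≠ o → ∃ h : H, h • x = y := by
    intro x y hx hy
    by_contra hne
    have hdisj : Disjoint (MulAction.orbit H x) (MulAction.orbit H y) := by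
      rcases MulAction.orbit.eq_or_disjoint (G := H) x y with h | h
      · exact absurd (h ▸ MulAction.mem_orbit_self y : y ∈ MulAction.orbit H x) hne
      · exact h
    have h1 := Set.ncard_le_ncard (Set.subset_univ (MulAction.orbit H x ∪ MulAction.orbit H y))
      (Set.toFinite _)
    rw [Set.ncard_union_eq hdisj (Set.toFinite _) (Set.toFinite _), Set.ncard_univ, hcard] at h1
    have := hsize x hx
    have := hsize y hy
    omega
  rw [MulAction.is_two_pretransitive_iff]
  intro a b c d hab hcd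
  obtain ⟨g, rfl⟩ := QuotientGroup.mk_surjective a
  obtain ⟨k, rfl⟩ := QuotientGroup.mk_surjective c
  have hga : g⁻¹ • (QuotientGroup.mk g : PSL2 F ⧸ H) = o := by
    rw [MulAction.Quotient.smul_mk, smul_eq_mul, inv_mul_cancel]
  have hkc : k⁻¹ • (QuotientGroup.mk k : PSL2 F ⧸ H) = o := by
    rw [MulAction.Quotient.smul_mk, smul_eq_mul, inv_mul_cancel]
  obtain ⟨h, hh⟩ := htrans (g⁻¹ • b) (k⁻¹ • d)
    (fun e1 => hab (smul_left_cancel g⁻¹ (hga.trans e1.symm)))
    (fun e1 => hcd (smul_left_cancel k⁻¹ (hkc.trans e1.symm)))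
  refine ⟨k * (h : PSL2 F) * g⁻¹, ?_, ?_⟩
  · rw [mul_smul, mul_smul, hga]
    have : (h : PSL2 F) • o = o := by
      show QuotientGroup.mk ((h : PSL2 F) * 1) = QuotientGroup.mk (1 : PSL2 F)
      rw [QuotientGroup.eq, mul_one, mul_one]
      exact inv_mem h.2
    rw [this, MulAction.Quotient.smul_mk, smul_eq_mul, mul_one]
  · rw [mul_smul, mul_smul, show (h : PSL2 F) • g⁻¹ • b = k⁻¹ • d from hh, smul_inv_smul]

end CfsgLib.Dickson.Eleven

namespace CfsgLib.Dickson.Eleven

open CfsgLib.Linear.PSLTwo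
open CfsgLib.Dickson.Torus (pslTop)

variable {F : Type*} [Field F] [Finite F] (hF : Nat.card F = 11)

local notation "ι" =>
  Matrix.ProjectiveSpecialLinearGroup.toPGL (n := Fin 2) (R := F)

theorem map_smul_conj (g : PSL2 F) (M : Subgroup (PSL2 F)) :
    (MulAut.conj g • M).map ι = conjH (ι g) (M.map ι) := by
  rw [show MulAut.conj g • M = M.map (MulAut.conj g).toMonoidHom from rfl, conjH,
    Subgroup.map_map, Subgroup.map_map]
  congr 1
  ext x
  simp

theorem conjH_eq_self_iff (k : PGL2 F) (H : Subgroup (PGL2 F)) :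
    conjH k H = H ↔ k ∈ Subgroup.normalizer (H : Set (PGL2 F)) := by
  rw [Subgroup.mem_normalizer_iff]
  constructor
  · intro h x
    constructor
    · intro hx
      exact h.le ⟨x, hx, rfl⟩
    · intro hx
      obtain ⟨y, hy, he⟩ := h.ge hx
      rwa [← (MulAut.conj k).injective (show MulAut.conj k y = MulAut.conj k x from he)]
  · intro h
    ext x
    constructor
    · rintro ⟨y, hy, rfl⟩
      exact (h y).1 hy
    · intro hx
      exact ⟨k⁻¹ * x * k, (h _).2 (by simpa [mul_assoc] using hx), by simp [mul_assoc]⟩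

theorem conjH_eq_conjH_iff (k k' : PGL2 F) (H : Subgroup (PGL2 F)) :
    conjH k H = conjH k' H ↔ k'⁻¹ * k ∈ Subgroup.normalizer (H : Set (PGL2 F)) := by
  rw [← conjH_eq_self_iff, conjH_mul, Small.conjH_eq_iff k'⁻¹, inv_inv]

/-- The subgroups isomorphic to `A₅` are indexed by the cosets of one of them in `PGL₂(11)`. -/
noncomputable def quotientEquiv (hF : Nat.card F = 11) {H : Subgroup (PGL2 F)}
    (e : H ≃* alternatingGroup (Fin 5)) :
    PGL2 F ⧸ H ≃ {Y : Subgroup (PGL2 F) // Nonempty (Y ≃* alternatingGroup (Fin 5))} := by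
  refine Equiv.ofBijective (fun x => Quotient.liftOn' x
    (fun k => (⟨conjH k H, ⟨(H.equivMapOfInjective _ (MulAut.conj k).injective).symm.trans e⟩⟩ :
      {Y : Subgroup (PGL2 F) // Nonempty (Y ≃* alternatingGroup (Fin 5))}))
    fun a b h => Subtype.ext ((conjH_eq_conjH_iff a b H).2 ?_)) ⟨fun x y => ?_, fun Y => ?_⟩
  · rw [normalizer_eq_pgl hF e]
    have h' := inv_mem (QuotientGroup.leftRel_apply.1 h)
    simpa using h'
  · induction x using QuotientGroup.induction_on with | H a => ?_
    induction y using QuotientGroup.induction_on with | H b => ?_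
    intro h
    have h1 := (conjH_eq_conjH_iff a b H).1 (congrArg Subtype.val h)
    rw [normalizer_eq_pgl hF e] at h1
    rw [QuotientGroup.eq]
    simpa using inv_mem h1
  · obtain ⟨⟨e'⟩⟩ := PLift.up Y.2
    obtain ⟨k, hk⟩ := conj_all hF e e'
    exact ⟨QuotientGroup.mk k, Subtype.ext hk⟩

/-- Subgroups of `PSL₂` isomorphic to `A₅`, seen in `PGL₂`. -/
noncomputable def subtypeEquiv :
    {X : Subgroup (PSL2 F) // Nonempty (X ≃* alternatingGroup (Fin 5))} ≃
      {Y : Subgroup (PGL2 F) // Nonempty (Y ≃* alternatingGroup (Fin 5))} where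
  toFun X := ⟨X.1.map ι, X.2.elim fun e => ⟨(MaxSub.mapEquiv X.1).symm.trans e⟩⟩
  invFun Y := ⟨Y.1.comap ι, Y.2.elim fun e => ⟨((MaxSub.mapEquiv (Y.1.comap ι)).trans
    (MulEquiv.subgroupCongr (Subgroup.map_comap_eq_self (Small.alternating_le_pslTop e)))).trans e⟩⟩
  left_inv X := Subtype.ext (Subgroup.comap_map_eq_self_of_injective MaxSub.toPGL_inj _)
  right_inv Y := Subtype.ext (Y.2.elim fun e =>
    Subgroup.map_comap_eq_self (Small.alternating_le_pslTop e))

include hF

theorem count_and_classes :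
    Nat.card {X : Subgroup (PSL2 F) // Nonempty (X ≃* alternatingGroup (Fin 5))} = 22 ∧
    ∃ H K : Subgroup (PSL2 F), Nonempty (H ≃* alternatingGroup (Fin 5)) ∧
      Nonempty (K ≃* alternatingGroup (Fin 5)) ∧ (∀ g : PSL2 F, MulAut.conj g • H ≠ K) ∧
      ∀ L : Subgroup (PSL2 F), Nonempty (L ≃* alternatingGroup (Fin 5)) →
        ∃ g : PSL2 F, MulAut.conj g • L = H ∨ MulAut.conj g • L = K := by
  have := Torus.finite_pgl F
  obtain ⟨H₀, ⟨e₀⟩⟩ := exists_altFive (F := F) hF
  have hodd : Odd (Nat.card F) := by rw [hF]; decide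
  have hidx : (pslTop F).index = 2 := (Torus.index_pslTop F).trans (gcd_eq_two hodd)
  let e : H₀.map ι ≃* alternatingGroup (Fin 5) := (MaxSub.mapEquiv H₀).symm.trans e₀
  have hinj := Subgroup.map_injective (f := ι) MaxSub.toPGL_inj
  constructor
  · rw [Nat.card_congr subtypeEquiv, ← Nat.card_congr (quotientEquiv hF e)]
    have h := (H₀.map ι).card_mul_index
    rw [card_altFive hF e, card_pgl, hF] at h
    norm_num at h
    change 60 * Nat.card (PGL2 F ⧸ H₀.map ι) = 1320 at h
    omega
  obtain ⟨k, hk⟩ : ∃ k, k ∉ pslTop F := by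
    by_contra h
    push_neg at h
    rw [show pslTop F = ⊤ from (eq_top_iff.2 fun x _ => h x), Subgroup.index_top] at hidx
    omega
  set K₀ := (conjH k (H₀.map ι)).comap ι with hK₀
  have hK : K₀.map ι = conjH k (H₀.map ι) :=
    Subgroup.map_comap_eq_self (Small.conjH_pslTop_le k (Small.alternating_le_pslTop e))
  let eK : K₀ ≃* alternatingGroup (Fin 5) := ((MaxSub.mapEquiv K₀).trans
    (MulEquiv.subgroupCongr hK)).trans
      (((H₀.map ι).equivMapOfInjective _ (MulAut.conj k).injective).symm.trans e)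
  refine ⟨H₀, K₀, ⟨e₀⟩, ⟨eK⟩, fun g hg => hk ?_, fun L hL => ?_⟩
  · have h1 := congrArg (Subgroup.map ι) hg
    rw [map_smul_conj, hK] at h1
    have h2 := (conjH_eq_conjH_iff _ _ _).1 h1.symm
    rw [normalizer_eq_pgl hF e] at h2
    have h3 := mul_mem (⟨g, rfl⟩ : ι g ∈ pslTop F) (Small.alternating_le_pslTop e h2)
    rwa [mul_inv_cancel_left] at h3
  · obtain ⟨eL⟩ := hL
    obtain ⟨m, hm⟩ := conj_all hF e ((MaxSub.mapEquiv L).symm.trans eL)
    by_cases hmem : m ∈ pslTop F
    · obtain ⟨g, rfl⟩ := hmem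
      refine ⟨g⁻¹, Or.inl (hinj ?_)⟩
      rw [map_smul_conj, ← hm, ← conjH_mul, map_inv, inv_mul_cancel]
      exact (conjH_eq_self_iff _ _).2 (one_mem _)
    · obtain ⟨g, hg⟩ : m * k⁻¹ ∈ pslTop F :=
        (Subgroup.mul_mem_iff_of_index_two hidx).2
          (iff_of_false hmem (fun h => hk (by simpa using inv_mem h)))
      refine ⟨g⁻¹, Or.inr (hinj ?_)⟩
      rw [map_smul_conj, ← hm, ← conjH_mul, hK, map_inv, hg]
      congr 1
      group

end CfsgLib.Dickson.Eleven
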