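import Cfsg.Agent.Dickson.MaxPSLExceptions

/-!
The maximal subgroups of `PGL₂(q)`, `q` odd, not containing `PSL₂(q)`, and their intersections
with `PSL₂(q)`.
-/

set_option autoImplicit false
set_option linter.unusedSectionVars false

namespace CfsgLib.Dickson.MaxSub

open CfsgLib.Dickson.Torus (pslTop)
open CfsgLib.Linear.PSLTwo

variable {F : Type*} [Field F] [Finite F]

theorem index_stabilizer_pgl [DecidableEq F] (w : OnePoint F) :
    (MulAction.stabilizer (PGL2 F) w).index = Nat.card F + 1 := by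
  have : MulAction.IsPretransitive (PGL2 F) (OnePoint F) := ⟨fun x y => by
    obtain ⟨g, hg⟩ := exists_smul_eq_infty x
    obtain ⟨h, hh⟩ := exists_smul_eq_infty y
    exact ⟨h⁻¹ * g, by rw [mul_smul, hg, ← hh, inv_smul_smul]⟩⟩
  rw [MulAction.index_stabilizer_of_transitive]
  show Nat.card (Option F) = _
  rw [Finite.card_option]

theorem card_stabilizer_pgl [DecidableEq F] (w : OnePoint F) :
    Nat.card (MulAction.stabilizer (PGL2 F) w) = Nat.card F * (Nat.card F - 1) := by
  have h := (MulAction.stabilizer (PGL2 F) w).card_mul_index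
  rw [index_stabilizer_pgl, card_pgl, sq_sub_one, ← mul_assoc] at h
  exact Nat.eq_of_mul_eq_mul_right (by omega) h

/-- The part in `PSL₂` of a group with a copy of half its order there. -/
theorem inf_equiv {A : Type*} [Group A] [Finite A] {M : Subgroup (PGL2 F)} (j : A →* PGL2 F)
    (hj : Function.Injective j) (hle : j.range ≤ M ⊓ pslTop F)
    (hcard : Nat.card M = 2 * Nat.card A) (hnot : ¬ M ≤ pslTop F)
    (hidx : (pslTop F).index = 2) :
    Nonempty ((M ⊓ pslTop F : Subgroup (PGL2 F)) ≃* A) := by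
  have := Torus.finite_pgl F
  have h2 := Torus.two_mul_card_inf _ M hidx hnot
  have he : j.range = M ⊓ pslTop F := Subgroup.eq_of_le_of_card_ge hle (by
    rw [← Nat.card_congr (MonoidHom.ofInjective hj).toEquiv]; omega)
  exact ⟨(MulEquiv.subgroupCongr he.symm).trans (MonoidHom.ofInjective hj).symm⟩

theorem card_eq_of_conj_le_pgl {M : Subgroup (PGL2 F)} (hM : IsCoatom M) (k : PGL2 F)
    {N : Subgroup (PGL2 F)} (hlt : Nat.card N < Nat.card (PGL2 F)) (h : conjH k M ≤ N) :
    Nat.card N = Nat.card M := by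
  have := Torus.finite_pgl F
  have hle : M ≤ conjH k⁻¹ N := by
    intro x hx
    exact ⟨MulAut.conj k x, h ⟨x, hx, rfl⟩, by simp [mul_assoc]⟩
  rcases eq_or_lt_of_le hle with he | hlt'
  · rw [he, Small.card_conjH]
  · exfalso
    have h1 := Small.card_conjH k⁻¹ N
    rw [hM.2 _ hlt', Subgroup.card_top] at h1
    omega

variable (p : ℕ) [Fact p.Prime] [CharP F p]

/-- **The maximal subgroups of `PGL₂(q)` not containing `PSL₂(q)`.** -/
theorem pgl_max [DecidableEq F] (hodd : Odd (Nat.card F)) (h3 : 3 < Nat.card F)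
    {M : Subgroup (PGL2 F)} (hM : IsCoatom M) (hML : ¬ pslTop F ≤ M) :
    (∃ w : OnePoint F, M = MulAction.stabilizer (PGL2 F) w) ∨
    (∃ c, ((c + 1 = Nat.card F ∧ Nat.card F ≠ 5) ∨ c = Nat.card F + 1) ∧
      Nonempty (M ≃* DihedralGroup c) ∧
      Nonempty ((M ⊓ pslTop F : Subgroup (PGL2 F)) ≃* DihedralGroup (c / 2))) ∨
    (5 ≤ p ∧ Nat.card F = p ∧ (p % 8 = 3 ∨ p % 8 = 5) ∧ Nonempty (M ≃* Equiv.Perm (Fin 4)) ∧
      Nonempty ((M ⊓ pslTop F : Subgroup (PGL2 F)) ≃* alternatingGroup (Fin 4))) ∨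
    (∃ f m, 1 ≤ f ∧ m.Prime ∧ Odd m ∧ Nat.card F = (p ^ f) ^ m ∧
      Nonempty (M ≃* PGL2 (GaloisField p f)) ∧
      Nonempty ((M ⊓ pslTop F : Subgroup (PGL2 F)) ≃* PSL2 (GaloisField p f))) := by
  have := Torus.finite_pgl F
  let _ : DecidableEq (AlgebraicClosure F) := Classical.decEq _
  have hp : p.Prime := Fact.out
  have hd : Nat.gcd 2 (Nat.card F - 1) = 2 := gcd_eq_two hodd
  have hidx : (pslTop F).index = 2 := (Torus.index_pslTop F).trans hd
  have hnot : ¬ M ≤ pslTop F := by
    intro h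
    rcases eq_or_lt_of_le h with he | hlt
    · exact hML he.ge
    · rw [hM.2 _ hlt, Subgroup.index_top] at hidx
      omega
  have hbot : M ≠ ⊥ := fun h => hnot (h ▸ bot_le)
  have hp2 : p ≠ 2 := by
    rintro rfl
    obtain ⟨n, hn, hq⟩ := exists_prime_power (F := F) 2
    rw [hq] at hodd
    exact Nat.not_even_iff_odd.2 hodd ((Nat.even_pow' (by omega)).2 even_two)
  have hq5 : 5 ≤ Nat.card F := by have := Nat.odd_iff.1 hodd; omega
  have hG : Nat.card (PGL2 F) = Nat.card F * (Nat.card F ^ 2 - 1) := card_pgl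
  have hG24 : Nat.card F * 24 ≤ Nat.card (PGL2 F) := by
    rw [hG]
    exact Nat.mul_le_mul_left _ (by have := Nat.pow_le_pow_left hq5 2; omega)
  -- the torus case
  have torus : ∀ g : PGL2 F, g ≠ 1 → ¬ p ∣ orderOf g →
      (∀ h ∈ M, ∃ i : ℕ, h * g * h⁻¹ = g ^ i) →
      (∃ c, ((c + 1 = Nat.card F ∧ Nat.card F ≠ 5) ∨ c = Nat.card F + 1) ∧
        Nonempty (M ≃* DihedralGroup c) ∧
        Nonempty ((M ⊓ pslTop F : Subgroup (PGL2 F)) ≃* DihedralGroup (c / 2))) := by
    intro g hg1 hgp hnorm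
    obtain ⟨N, c, hc, ⟨dN⟩, hL, hmem⟩ :=
      Torus.exists_torus p (algebraMap F (AlgebraicClosure F)) g hg1 hgp
    obtain ⟨-, ⟨dL⟩⟩ := hL hd (by omega)
    have hcN : Nat.card N = 2 * c := Torus.card_of_dihedral dN
    have hMN : M = N := by
      have hle : M ≤ N := fun x hx => hmem x (hnorm x hx)
      rcases eq_or_lt_of_le hle with he | hlt
      · exact he
      · exfalso
        rw [hM.2 _ hlt, Subgroup.card_top] at hcN
        omega
    subst hMN
    refine ⟨c, ?_, ⟨dN⟩, ⟨dL⟩⟩
    rcases hc with hc | hc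
    · refine Or.inl ⟨hc, fun h5 => ?_⟩
      have h2 : Fact (Nat.Prime 2) := ⟨Nat.prime_two⟩
      have hne : ∀ n : ℕ, ¬ p ∣ n → (n : F) ≠ 0 := fun n => natCast_ne_zero p
      have hp5 : p = 5 := by
        obtain ⟨n, hn, hq⟩ := exists_prime_power (F := F) p
        exact (Nat.prime_dvd_prime_iff_eq hp (by norm_num)).1 (h5 ▸ hq ▸ dvd_pow_self p (by omega))
      obtain ⟨H, ⟨eH⟩⟩ := Small.exists_symFour_pgl (F := F)
        (by exact_mod_cast hne 2 (by rw [hp5]; norm_num))
        (by exact_mod_cast hne 3 (by rw [hp5]; norm_num))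
      have hH : Nat.card H = 24 := by
        rw [Nat.card_congr eH.toEquiv, Nat.card_perm, Nat.card_fin]; rfl
      have hG' : Nat.card (PGL2 F) = 120 := by rw [hG, h5]; norm_num
      refine sylow_not_max 2 3 M hM ?_ ?_ H ?_ ?_ ?_
      · rw [hcN]; omega
      · rw [hG']; norm_num
      · rw [hH]; norm_num
      · rw [hH]; norm_num
      · rw [hH, hG']; norm_num
    · exact Or.inr hc
  rcases pgl_classification p (algebraMap F (AlgebraicClosure F)) M with
    ⟨-, w, hw⟩ | ⟨hpn, hcyc⟩ | ⟨n, hn, hpn, hc, ⟨d⟩⟩ | ⟨hp5, -, ⟨d⟩⟩ | ⟨hp5, -, ⟨d⟩⟩ |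
    ⟨-, -, -, ⟨d⟩⟩ | ⟨f, m, hf, -, hq, ψ, k, hk⟩
  · left
    refine ⟨w, ?_⟩
    have hle : M ≤ MulAction.stabilizer (PGL2 F) w := fun g hg => hw g hg
    rcases eq_or_lt_of_le hle with he | hlt
    · exact he
    · have h := index_stabilizer_pgl w
      rw [hM.2 _ hlt, Subgroup.index_top] at h
      omega
  · right; left
    obtain ⟨g, hg⟩ := hcyc.exists_generator
    refine torus g ?_ (fun hd' => hpn ?_) fun x hx => ⟨1, ?_⟩
    · intro h
      apply hbot
      rw [Subgroup.eq_bot_iff_forall]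
      intro x hx
      obtain ⟨i, hi⟩ := hg ⟨x, hx⟩
      have h2 : (g : PGL2 F) ^ i = x := congrArg Subtype.val hi
      rw [h, one_zpow] at h2
      exact h2.symm
    · rw [Subgroup.orderOf_coe] at hd'
      exact hd'.trans (orderOf_dvd_natCard g)
    · have := hcyc
      rw [pow_one]
      have h2 := congrArg Subtype.val (IsCyclic.commGroup.mul_comm (⟨x, hx⟩ : M) g)
      simp only [Subgroup.coe_mul] at h2
      rw [h2, mul_inv_cancel_right]
  · right; left
    have : NeZero n := ⟨by omega⟩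
    have ho : orderOf ((d.symm (.r 1) : M) : PGL2 F) = n := by
      rw [Subgroup.orderOf_coe, MulEquiv.orderOf_eq, DihedralGroup.orderOf_r_one]
    refine torus _ ?_ (ho.symm ▸ hpn) (dihedral_norm d)
    intro h
    rw [h, orderOf_one] at ho
    omega
  · exact absurd (Small.alternating_le_pslTop d) hnot
  · have h2 : (2 : F) ≠ 0 := by
      exact_mod_cast natCast_ne_zero (F := F) p (n := 2) fun h => by
        have := Nat.le_of_dvd two_pos h
        omega
    have h3' : (3 : F) ≠ 0 := by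
      exact_mod_cast natCast_ne_zero (F := F) p (n := 3) fun h => by
        have := Nat.le_of_dvd three_pos h
        omega
    have hcM : Nat.card M = 24 := by
      rw [Nat.card_congr d.toEquiv, Nat.card_perm, Nat.card_fin]; rfl
    obtain ⟨n, hn, hq⟩ := exists_prime_power (F := F) p
    have hn1 : n = 1 := by
      by_contra hne
      obtain ⟨φ⟩ := exists_hom_galois (F := F) p 1 n hq one_ne_zero (one_dvd n)
      obtain ⟨k, hk⟩ := Small.symFour_into φ h2 h3' d
      have hc := card_pglImage φ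
      rw [card_gf p 1 le_rfl, pow_one] at hc
      have hlt := (Over.two_mul_lt p (a := 1) (r := n) le_rfl (by omega) (by rw [pow_one, hq])).1
      rw [pow_one] at hlt
      have hle : Nat.card (PSL2 F) ≤ Nat.card (PGL2 F) :=
        Nat.card_le_card_of_injective _ Matrix.ProjectiveSpecialLinearGroup.toPGL_injective
      have h120 := Nat.mul_le_mul hp5 (Nat.sub_le_sub_right (Nat.pow_le_pow_left hp5 2) 1)
      have := card_eq_of_conj_le_pgl hM k (by omega) hk
      omega
    subst hn1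
    rw [pow_one] at hq
    have hsq : ¬ IsSquare (2 : F) := fun h => hnot ((Small.symFour_le_iff h2 h3' d).2 h)
    rw [isSquare_two_iff p hp2 hq] at hsq
    refine Or.inr (Or.inr (Or.inl ⟨hp5, hq, ?_, ⟨d⟩, ?_⟩))
    · have := Nat.odd_iff.1 (hq ▸ hodd)
      omega
    · obtain ⟨j, hj⟩ := Over.exists_altFour_symFour
      refine inf_equiv (M.subtype.comp (d.symm.toMonoidHom.comp j))
        (M.subtype_injective.comp (d.symm.injective.comp hj))
        (le_inf ?_ (Small.range_le_pslTop _)) ?_ hnot hidx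
      · rintro _ ⟨a, rfl⟩
        exact (d.symm (j a)).2
      · rw [hcM, nat_card_alternatingGroup, Nat.card_fin]; rfl
  · exact absurd (Small.alternating_le_pslTop d) hnot
  · rcases hk with hk | ⟨-, hk⟩
    swap
    · exfalso
      apply hnot
      rw [(Small.conjH_eq_iff k).1 hk]
      exact Small.conjH_pslTop_le _ (pslImage_le ψ)
    have hgf := card_gf p f hf
    set q0 := p ^ f with hq0
    have hq03 : 3 ≤ q0 := (show 3 ≤ p by have := hp.two_le; omega).trans
      (Nat.le_self_pow (by omega) p)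
    have hcard : Nat.card M = q0 * (q0 ^ 2 - 1) := by
      rw [← Small.card_conjH k, hk, card_pglImage, hgf]
    have hlt : Nat.card M < Nat.card (PGL2 F) := by
      rcases Nat.lt_or_ge (Nat.card M) (Nat.card (PGL2 F)) with h' | h'
      · exact h'
      · exact absurd (Subgroup.eq_top_of_le_card M h') hM.1
    have hm1 : m ≠ 1 := by
      rintro rfl
      rw [pow_one] at hq
      rw [hG, hq, ← hcard] at hlt
      omega
    have hm0 : m ≠ 0 := by
      rintro rfl
      rw [pow_zero] at hq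
      omega
    have hmprime : m.Prime := by
      by_contra hnp
      obtain ⟨j, ⟨r, rfl⟩, hj2, hjm⟩ := Nat.exists_dvd_of_not_prime2 (by omega) hnp
      have hr2 : 2 ≤ r := by
        rcases r with _ | _ | r
        · simp at hm0
        · omega
        · omega
      obtain ⟨χ, η, rfl⟩ := exists_intermediate p hf (dvd_mul_right j r) hq ψ
      have hfj : 1 ≤ f * j := Nat.mul_pos hf (by omega)
      have hc := card_pglImage χ
      rw [card_gf p _ hfj, pow_mul, ← hq0] at hc
      have hbound := (Over.two_mul_lt p (a := f * j) (r := r) hfj hr2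
        (by rw [hq, hq0, ← pow_mul, ← pow_mul, ← mul_assoc])).1
      rw [pow_mul, ← hq0] at hbound
      have hle : Nat.card (PSL2 F) ≤ Nat.card (PGL2 F) :=
        Nat.card_le_card_of_injective _ Matrix.ProjectiveSpecialLinearGroup.toPGL_injective
      have heq := card_eq_of_conj_le_pgl hM k (by omega) (hk.le.trans (pglImage_mono χ η))
      have hQ : q0 ^ 2 ≤ q0 ^ j := Nat.pow_le_pow_right (by omega) hj2
      have hlt2 : q0 * (q0 ^ 2 - 1) < q0 ^ j * ((q0 ^ j) ^ 2 - 1) := by
        have hQ2 : q0 < q0 ^ 2 := by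
          rw [pow_two]
          exact Nat.lt_mul_self_iff.2 (by omega)
        refine Nat.mul_lt_mul_of_lt_of_le (lt_of_lt_of_le hQ2 hQ)
          (Nat.sub_le_sub_right (Nat.pow_le_pow_left (hQ2.le.trans hQ) 2) 1) ?_
        have := Nat.pow_le_pow_left (hQ2.le.trans hQ) 2
        have := Nat.pow_le_pow_left hq03 2
        omega
      omega
    have hodd0 : Odd (Nat.card (GaloisField p f)) := hgf ▸ (hp.odd_of_ne_two hp2).pow
    have hm : Odd m := by
      refine hmprime.odd_of_ne_two ?_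
      rintro rfl
      apply hnot
      rw [(Small.conjH_eq_iff k).1 hk]
      exact Small.conjH_pslTop_le _
        (pglImage_le ψ (isSquare_of_even ψ (j := 1) hodd0 (by rw [hgf, pow_one, hq])))
    let _ : DecidableEq (GaloisField p f) := Classical.decEq _
    have e : M ≃* PGL2 (GaloisField p f) := (CfsgLib.Dickson.conjHEquiv k M).trans
      ((MulEquiv.subgroupCongr hk).trans (pglImageEquiv ψ).symm)
    refine Or.inr (Or.inr (Or.inr ⟨f, m, hf, hmprime, hm, hq, ⟨e⟩, ?_⟩))
    let j : PSL2 (GaloisField p f) →* PGL2 F := (MulAut.conj k⁻¹).toMonoidHom.comp (pslHom ψ)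
    refine inf_equiv j ((MulAut.conj k⁻¹).injective.comp (pslHom_injective ψ))
      (le_inf ?_ ?_) ?_ hnot hidx
    · rintro _ ⟨x, rfl⟩
      rw [(Small.conjH_eq_iff k).1 hk]
      exact ⟨_, ⟨_, rfl⟩, rfl⟩
    · rintro _ ⟨x, rfl⟩
      exact Small.conjH_pslTop_le k⁻¹ (pslImage_le ψ) ⟨pslHom ψ x, ⟨x, rfl⟩, rfl⟩
    · rw [hcard, two_mul_card_psl _ hodd0, hgf]

end CfsgLib.Dickson.MaxSub
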