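import Cfsg.Agent.Dickson.MaxPGL

/-!
The intersection with `PSL₂(q)` of a maximal subgroup of `PGL₂(q)` is maximal, apart from the
known novelties.
-/

set_option autoImplicit false
set_option linter.unusedSectionVars false

namespace CfsgLib.Dickson.MaxSub

open CfsgLib.Dickson.Torus (pslTop)
open CfsgLib.Linear.PSLTwo

variable {F : Type*} [Field F] [Finite F]

local notation "ι" =>
  Matrix.ProjectiveSpecialLinearGroup.toPGL (n := Fin 2) (R := F)

/-- Maximality below `PSL₂` is maximality inside `PSL₂(F)`. -/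
theorem coatom_subgroupOf {M : Subgroup (PGL2 F)} (h : IsCoatom (M.comap ι)) :
    IsCoatom ((M ⊓ pslTop F).subgroupOf (pslTop F)) := by
  let ε : PSL2 F ≃* pslTop F := MonoidHom.ofInjective toPGL_inj
  have e : ((M ⊓ pslTop F).subgroupOf (pslTop F)).comap ε.toMonoidHom = M.comap ι := by
    ext x
    simp only [Subgroup.mem_comap, Subgroup.mem_subgroupOf, Subgroup.mem_inf]
    exact ⟨fun hx => hx.1, fun hx => ⟨hx, ⟨x, rfl⟩⟩⟩
  rw [← e] at h
  exact (OrderIso.isCoatom_iff ε.comapSubgroup _).1 h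

theorem comap_coatom_of_even (heven : Even (Nat.card F)) {M : Subgroup (PGL2 F)}
    (hM : IsCoatom M) : IsCoatom (M.comap ι) := by
  have := Torus.finite_pgl F
  have hc : Nat.card (PSL2 F) = Nat.card (PGL2 F) := by
    have h1 := mul_card (F := F)
    rwa [gcd_eq_one heven, one_mul, ← card_pgl] at h1
  let ε : PSL2 F ≃* PGL2 F :=
    MulEquiv.ofBijective _ ((Nat.bijective_iff_injective_and_card _).2 ⟨toPGL_inj, hc⟩)
  exact (OrderIso.isCoatom_iff ε.comapSubgroup M).2 hM

/-- The subgroup of `PSL₂` below a subgroup of `PGL₂`. -/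
noncomputable def comapEquiv (M : Subgroup (PGL2 F)) :
    M.comap ι ≃* (M ⊓ pslTop F : Subgroup (PGL2 F)) :=
  (mapEquiv (M.comap ι)).trans (MulEquiv.subgroupCongr (by rw [Subgroup.map_comap_eq, inf_comm]))

variable (p : ℕ) [Fact p.Prime] [CharP F p]

include p

theorem stabilizer_coatom [DecidableEq F] (hodd : Odd (Nat.card F)) (h5 : 5 ≤ Nat.card F)
    (h7 : Nat.card F ≠ 7) (h9 : Nat.card F ≠ 9) (h11 : Nat.card F ≠ 11) (w : OnePoint F) :
    IsCoatom ((MulAction.stabilizer (PGL2 F) w).comap ι) := by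
  have hp : p.Prime := Fact.out
  set D := (MulAction.stabilizer (PGL2 F) w).comap ι
  have hidx : D.index = Nat.card F + 1 := index_stabilizer (F := F) w
  have hne : D ≠ ⊤ := fun h => by rw [h, Subgroup.index_top] at hidx; omega
  have hcard := D.card_mul_index
  rw [hidx] at hcard
  refine Over.isCoatom_of_card_le D hne fun N hle hN => ?_
  by_cases h : Nat.card F = 5
  swap
  · have hi := index_ge (F := F) (by
      simp only [Finset.mem_insert, Finset.mem_singleton]; omega) N hN
    have := N.card_mul_index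
    by_contra hlt
    have := Nat.mul_lt_mul_of_lt_of_le (not_le.1 hlt) hi (by omega)
    omega
  -- `q = 5`
  have hL : Nat.card (PSL2 F) = 60 := by
    have h1 := Over.two_mul_card (F := F) hodd
    rw [h] at h1
    norm_num at h1
    omega
  have hD : Nat.card D = 10 := by rw [hL, h] at hcard; omega
  obtain ⟨n, hn, hq⟩ := exists_prime_power (F := F) p
  have hp5 : p = 5 :=
    (Nat.prime_dvd_prime_iff_eq hp (by norm_num)).1 (h ▸ hq ▸ dvd_pow_self p (by omega))
  subst hp5
  have hdvd := Subgroup.card_dvd_of_le hle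
  rw [hD] at hdvd ⊢
  rcases proper_cases 5 N hN with ⟨P, -, hP⟩ | ⟨-, hp5, -⟩ | ⟨k, -, hk, -, hc, -⟩ |
    ⟨-, hc, -⟩ | ⟨-, hc, -⟩ | ⟨-, h55, -⟩ | ⟨f, m, hf, hm, hqf, -⟩
  · have hc := card_normalizer 5 P
    rw [gcd_eq_two hodd, h] at hc
    exact (Subgroup.card_le_of_le hP).trans (le_of_eq_of_le hc (by norm_num))
  · exact absurd ((by norm_num : 5 ∣ 10).trans hdvd) hp5
  · exfalso
    rw [hc] at hdvd
    exact hk ((Nat.Coprime.dvd_mul_left (by norm_num)).1 ((by norm_num : 5 ∣ 10).trans hdvd))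
  · rw [hc] at hdvd; norm_num at hdvd
  · rw [hc] at hdvd; norm_num at hdvd
  · exact absurd rfl h55
  · exact absurd hqf (Over.one_eq_of_card 5 h hf hm)

theorem inf_coatom [DecidableEq F] (h4 : 4 ≤ Nat.card F) (hodd : Odd (Nat.card F))
    (h7 : Nat.card F ≠ 7) (h9 : Nat.card F ≠ 9) (h11 : Nat.card F ≠ 11)
    (h40 : (Nat.card F).Prime → Nat.card F % 40 ∉ ({11, 19, 21, 29} : Finset ℕ))
    {M : Subgroup (PGL2 F)} (hM : IsCoatom M) (hML : ¬ pslTop F ≤ M) :
    IsCoatom (M.comap ι) := by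
  have := Torus.finite_pgl F
  have hp : p.Prime := Fact.out
  have h5 : 5 ≤ Nat.card F := by have := Nat.odd_iff.1 hodd; omega
  have hd := gcd_eq_two hodd
  obtain ⟨n, hn, hq⟩ := exists_prime_power (F := F) p
  rcases pgl_max p hodd (by omega) hM hML with ⟨w, rfl⟩ | ⟨c, hc, -, ⟨e⟩⟩ |
    ⟨hp5, hqp, h8, -, ⟨e⟩⟩ | ⟨f, m, hf, hm, hmodd, hqm, -, ⟨e⟩⟩
  · exact stabilizer_coatom p hodd h5 h7 h9 h11 w
  · -- a torus normaliser
    set k := c / 2 with hkdef
    have d : M.comap ι ≃* DihedralGroup k := (comapEquiv M).trans e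
    have hk3 : 3 ≤ k := by have := Nat.odd_iff.1 hodd; omega
    have hq13 : Nat.card F = 5 ∨ 13 ≤ Nat.card F := by have := Nat.odd_iff.1 hodd; omega
    have hdiv : k = (Nat.card F - 1) / Nat.gcd 2 (Nat.card F - 1) ∨
        k = (Nat.card F + 1) / Nat.gcd 2 (Nat.card F - 1) := by rw [hd]; omega
    have hp5q : Nat.card F = 5 → p = 5 := fun h =>
      (Nat.prime_dvd_prime_iff_eq hp (by norm_num)).1 (h ▸ hq ▸ dvd_pow_self p (by omega))
    have hcD : Nat.card (M.comap ι) = 2 * k := Torus.card_of_dihedral d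
    have hne : M.comap ι ≠ ⊤ := fun h => not_solvable h4
      (Over.solvable_of_equiv
        (Subgroup.topEquiv.symm.trans ((MulEquiv.subgroupCongr h.symm).trans d))
        (dihedral_solvable _))
    refine Over.isCoatom_of_card_le _ hne fun N hle hN => ?_
    rw [hcD]
    refine (card_of_torus p k hdiv hk3 (fun hp5 hk4 => ?_) (fun hp2 hp5 => ?_)
      (fun hp3 m hm hqm => ?_) N hN ((d.symm (.r 1) : M.comap ι) : PSL2 F)
      ((d.symm (.sr 0) : M.comap ι) : PSL2 F) ?_ ?_ (hle (d.symm (.r 1)).2)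
      (hle (d.symm (.sr 0)).2)).le
    · omega
    · rcases hq13 with h | h
      · exact absurd (hp5q h) hp5
      · omega
    · rcases hq13 with h | h
      · have := hp5q h; omega
      · omega
    · rw [Subgroup.orderOf_coe, MulEquiv.orderOf_eq, DihedralGroup.orderOf_r_one]
    · rw [← Subgroup.coe_inv, ← Subgroup.coe_mul, ← Subgroup.coe_mul, ← Subgroup.coe_inv,
        ← map_inv, ← map_mul, ← map_mul, ← map_inv]
      congr 2
      rw [DihedralGroup.inv_sr, DihedralGroup.sr_mul_r, DihedralGroup.sr_mul_sr, DihedralGroup.inv_r]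
      simp
  · -- `A₄`
    refine Over.altFour_coatom p hqp hp5 h8 ?_ _ ((comapEquiv M).trans e)
    have := h40 (hqp ▸ hp)
    rw [hqp] at this
    simp only [Finset.mem_insert, Finset.mem_singleton] at this
    omega
  · -- a subfield group
    have hp2 : p ≠ 2 := by
      rintro rfl
      rw [hq] at hodd
      exact Nat.not_even_iff_odd.2 hodd ((Nat.even_pow' (by omega)).2 even_two)
    have d : M.comap ι ≃* PSL2 (GaloisField p f) := (comapEquiv M).trans e
    have hgf := card_gf p f hf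
    refine Over.subfield_coatom p f m hf hm hqm _ (fun hge hs => ?_) (fun h => ?_)
      (Or.inr ⟨?_, hp2, hmodd⟩)
    · exact not_solvable (F := GaloisField p f) (hgf ▸ hge) (Over.solvable_of_equiv d.symm hs)
    · have := Nat.le_self_pow (show f ≠ 0 by omega) p
      have := hp.two_le
      omega
    · rw [Nat.card_congr d.toEquiv,
        two_mul_card_psl _ (hgf ▸ (hp.odd_of_ne_two hp2).pow), hgf]

end CfsgLib.Dickson.MaxSub
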