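import Cfsg.Agent.Dickson.SmallConj

/-!
The maximal subgroups of `PSL₂(q)`.
-/

set_option autoImplicit false
set_option linter.unusedSectionVars false

namespace CfsgLib.Dickson.MaxSub

open CfsgLib.Dickson.Torus (pslTop)
open CfsgLib.Linear.PSLTwo

variable {F : Type*} [Field F] [Finite F]

local notation "ι" =>
  Matrix.ProjectiveSpecialLinearGroup.toPGL (n := Fin 2) (R := F)

theorem toPGL_inj : Function.Injective ι := Matrix.ProjectiveSpecialLinearGroup.toPGL_injective

/-- The image in `PGL₂` is an isomorphic copy. -/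
noncomputable def mapEquiv (M : Subgroup (PSL2 F)) : M ≃* M.map ι :=
  M.equivMapOfInjective _ toPGL_inj

theorem card_map (M : Subgroup (PSL2 F)) : Nat.card (M.map ι) = Nat.card M :=
  (Nat.card_congr (mapEquiv M).toEquiv).symm

/-- A subgroup of `PSL₂` seen in `PGL₂`, back in `PSL₂`. -/
theorem card_comap {N : Subgroup (PGL2 F)} (hN : N ≤ pslTop F) :
    Nat.card (N.comap ι) = Nat.card N := by
  rw [← card_map, Subgroup.map_comap_eq_self hN]

/-- A maximal subgroup has no conjugate strictly below a proper subgroup. -/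
theorem card_eq_of_conj_le {M : Subgroup (PSL2 F)} (hM : IsCoatom M) (k : PGL2 F)
    {N : Subgroup (PGL2 F)} (hN : N ≤ pslTop F) (hlt : Nat.card N < Nat.card (PSL2 F))
    (h : conjH k (M.map ι) ≤ N) : Nat.card N = Nat.card M := by
  have := Torus.finite_pgl F
  have hN' : conjH k⁻¹ N ≤ pslTop F := Small.conjH_pslTop_le _ hN
  have hle : M ≤ (conjH k⁻¹ N).comap ι := by
    intro x hx
    rw [Subgroup.mem_comap]
    have h1 : MulAut.conj k (ι x) ∈ N := h ⟨_, ⟨x, hx, rfl⟩, rfl⟩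
    exact ⟨_, h1, by simp [mul_assoc]⟩
  have hc : Nat.card ((conjH k⁻¹ N).comap ι) = Nat.card N := by
    rw [card_comap hN', Small.card_conjH]
  rcases eq_or_lt_of_le hle with he | hlt'
  · rw [← hc, ← he]
  · exfalso
    have := hM.2 _ hlt'
    rw [this, Subgroup.card_top] at hc
    exact hlt.ne' hc

theorem card_le_two_mul (H : Subgroup (PGL2 F)) :
    Nat.card H ≤ 2 * Nat.card (H ⊓ pslTop F : Subgroup (PGL2 F)) := by
  have := Torus.finite_pgl F
  by_cases h : H ≤ pslTop F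
  · rw [inf_eq_left.2 h]; omega
  · rcases gcd_cases (F := F) with hd | hd
    · exact absurd (le_of_le_of_eq le_top
        (Subgroup.index_eq_one.1 ((Torus.index_pslTop F).trans hd)).symm) h
    · exact (Torus.two_mul_card_inf _ H ((Torus.index_pslTop F).trans hd) h).ge

theorem card_pglImage {E : Type*} [Field E] [Finite E] (φ : E →+* F) :
    Nat.card (pglImage φ) = Nat.card E * (Nat.card E ^ 2 - 1) := by
  classical
  rw [← Nat.card_congr (pglImageEquiv φ).toEquiv, card_pgl]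

theorem card_pslImage {E : Type*} [Field E] [Finite E] (φ : E →+* F) :
    Nat.card (pslImage φ) = Nat.card (PSL2 E) := by
  classical
  rw [← Nat.card_congr (pslImageEquiv φ).toEquiv]

theorem pslImage_le {E : Type*} [Field E] (φ : E →+* F) : pslImage φ ≤ pslTop F := by
  rintro _ ⟨x, rfl⟩
  obtain ⟨A, rfl⟩ := QuotientGroup.mk_surjective x
  exact ⟨QuotientGroup.mk (Matrix.SpecialLinearGroup.map φ A), (pslHom_mk φ A).symm⟩

theorem pglImage_le {E : Type*} [Field E] (φ : E →+* F) (hsq : ∀ x : E, IsSquare (φ x)) :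
    pglImage φ ≤ pslTop F := by
  rintro _ ⟨x, rfl⟩
  obtain ⟨A, hA, rfl⟩ := Small.exists_mkM x
  rw [Small.map_mkM, Small.mkM_mem_iff, ← RingHom.mapMatrix_apply, ← RingHom.map_det]
  exact hsq _

/-- Elements of a subfield of even degree are squares. -/
theorem isSquare_of_even {E : Type*} [Field E] [Finite E] (φ : E →+* F) {j : ℕ}
    (hodd : Odd (Nat.card E)) (hj : Nat.card F = (Nat.card E ^ 2) ^ j) :
    ∀ x : E, IsSquare (φ x) := by
  intro x
  cases nonempty_fintype F
  cases nonempty_fintype E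
  rcases eq_or_ne x 0 with rfl | hx
  · simp
  have h2 : ringChar F ≠ 2 := fun h => by
    have := FiniteField.even_card_of_char_two h
    rw [← Nat.card_eq_fintype_card, hj] at this
    exact absurd (Nat.odd_iff.1 ((hodd.pow (n := 2)).pow (n := j))) (by omega)
  rw [FiniteField.isSquare_iff h2 ((map_ne_zero φ).2 hx)]
  obtain ⟨k, hk⟩ := hodd
  have hsq : Nat.card E ^ 2 = 2 * (2 * k * (k + 1)) + 1 := by rw [hk]; ring
  have hd : Nat.card E - 1 ∣ (Nat.card E ^ 2 - 1) / 2 :=
    ⟨k + 1, by rw [hsq, hk, Nat.add_sub_cancel, Nat.add_sub_cancel,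
      Nat.mul_div_cancel_left _ two_pos]⟩
  have hd2 : (Nat.card E ^ 2 - 1) / 2 ∣ Fintype.card F / 2 := by
    rw [← Nat.card_eq_fintype_card, hj]
    obtain ⟨T, hT⟩ : ∃ T, Nat.card E ^ 2 = 2 * T + 1 := ⟨_, hsq⟩
    rw [hT]
    obtain ⟨t, ht⟩ := Nat.sub_one_dvd_pow_sub_one (2 * T + 1) j
    refine ⟨t, ?_⟩
    rw [Nat.add_sub_cancel] at ht ⊢
    rw [mul_assoc] at ht
    rw [Nat.mul_div_cancel_left _ two_pos]
    have hp : 1 ≤ (2 * T + 1) ^ j := Nat.one_le_pow _ _ (by omega)
    omega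
  obtain ⟨t, ht⟩ := hd.trans hd2
  rw [ht, pow_mul, ← map_pow, Nat.card_eq_fintype_card,
    FiniteField.pow_card_sub_one_eq_one x hx, map_one, one_pow]

variable (p : ℕ) [Fact p.Prime] [CharP F p]

theorem exists_intermediate {f m j : ℕ} (hf : 1 ≤ f) (hj : j ∣ m)
    (hq : Nat.card F = (p ^ f) ^ m) (ψ : GaloisField p f →+* F) :
    ∃ (χ : GaloisField p (f * j) →+* F) (η : GaloisField p f →+* GaloisField p (f * j)),
      ψ = χ.comp η := by
  have hm : m ≠ 0 := by
    rintro rfl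
    have := Finite.one_lt_card (α := F)
    rw [hq, pow_zero] at this
    omega
  have hj0 : j ≠ 0 := fun h => hm (by rw [h] at hj; exact Nat.eq_zero_of_zero_dvd hj)
  have hfj : 1 ≤ f * j := Nat.mul_pos hf (Nat.pos_of_ne_zero hj0)
  obtain ⟨χ⟩ := exists_hom_galois (F := F) p (f * j) (f * m) (by rw [hq, pow_mul]) (by omega)
    (mul_dvd_mul_left f hj)
  let _ := Fintype.ofFinite (GaloisField p (f * j))
  let _ := Fintype.ofFinite (GaloisField p f)
  have hmem : ∀ x, ∃ y, χ y = ψ x := by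
    intro x
    have hc : Fintype.card (GaloisField p (f * j)) = (Fintype.card (GaloisField p f)) ^ j := by
      rw [← Nat.card_eq_fintype_card, ← Nat.card_eq_fintype_card, card_gf p _ hfj, card_gf p _ hf,
        pow_mul]
    have hfix : (ψ x) ^ Fintype.card (GaloisField p (f * j)) = ψ x := by
      rw [hc, ← map_pow, FiniteField.pow_card_pow]
    exact CfsgLib.PSL2Spec.mem_range_of_pow_card χ hfix
  choose η hη using hmem
  exact ⟨χ,
    { toFun := η
      map_one' := χ.injective (by rw [hη]; simp)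
      map_mul' := fun a b => χ.injective (by rw [map_mul, hη, hη, hη]; simp)
      map_zero' := χ.injective (by rw [hη]; simp)
      map_add' := fun a b => χ.injective (by rw [map_add, hη, hη, hη]; simp) },
    RingHom.ext fun x => (hη x).symm⟩

theorem exists_prime_power : ∃ n, 1 ≤ n ∧ Nat.card F = p ^ n := by
  cases nonempty_fintype F
  obtain ⟨n, -, hn⟩ := FiniteField.card F p
  exact ⟨n, n.pos, by rw [Nat.card_eq_fintype_card, hn]⟩

theorem not_bot {M : Subgroup (PSL2 F)} (h4 : 4 ≤ Nat.card F) (hM : IsCoatom M) : M ≠ ⊥ := by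
  rintro rfl
  have hs := not_solvable (F := F) h4
  have : Nontrivial (PSL2 F) := by
    by_contra h
    rw [not_nontrivial_iff_subsingleton] at h
    exact hs (Group.isSolvable_of_comm fun a b => Subsingleton.elim _ _)
  obtain ⟨g, hg⟩ := exists_ne (1 : PSL2 F)
  have htop : Subgroup.zpowers g = ⊤ := hM.2 _ (bot_lt_iff_ne_bot.2 (by simpa using hg))
  refine hs (Group.isSolvable_of_comm fun a b => ?_)
  obtain ⟨i, rfl⟩ : a ∈ Subgroup.zpowers g := htop ▸ Subgroup.mem_top a
  obtain ⟨j, rfl⟩ : b ∈ Subgroup.zpowers g := htop ▸ Subgroup.mem_top b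
  exact zpow_mul_comm g i j

/-- A maximal subgroup normalising a non-trivial `p'`-element's cyclic group is dihedral. -/
theorem eq_torus {M : Subgroup (PSL2 F)} (hM : IsCoatom M) (h4 : 4 ≤ Nat.card F) (g : PGL2 F)
    (hg : g ≠ 1) (hp : ¬ p ∣ orderOf g)
    (hnorm : ∀ x ∈ M, ∃ i : ℕ, ι x * g * (ι x)⁻¹ = g ^ i) :
    ∃ c, (c + 1 = Nat.card F ∨ c = Nat.card F + 1) ∧
      Nonempty (M ≃* DihedralGroup (c / Nat.gcd 2 (Nat.card F - 1))) := by
  classical
  obtain ⟨N, c, hc, ⟨dN⟩, hL, hmem⟩ :=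
    Torus.exists_torus p (algebraMap F (AlgebraicClosure F)) g hg hp
  refine ⟨c, hc, ?_⟩
  obtain ⟨d⟩ : Nonempty ((N ⊓ pslTop F : Subgroup (PGL2 F)) ≃*
      DihedralGroup (c / Nat.gcd 2 (Nat.card F - 1))) := by
    rcases gcd_cases (F := F) with hd | hd
    · rw [hd, Nat.div_one, Subgroup.index_eq_one.1 ((Torus.index_pslTop F).trans hd), inf_top_eq]
      exact ⟨dN⟩
    · rw [hd]; exact (hL hd h4).2
  let N' : Subgroup (PSL2 F) := N.comap ι
  have hmap : N'.map ι = N ⊓ pslTop F := by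
    rw [Subgroup.map_comap_eq, inf_comm]
  have e : N' ≃* DihedralGroup (c / Nat.gcd 2 (Nat.card F - 1)) :=
    (mapEquiv N').trans ((MulEquiv.subgroupCongr hmap).trans d)
  have hle : M ≤ N' := fun x hx => hmem _ (hnorm x hx)
  have hN : N' ≠ ⊤ := fun h => not_solvable h4
    (Over.solvable_of_equiv (Subgroup.topEquiv.symm.trans ((MulEquiv.subgroupCongr h.symm).trans e))
      (dihedral_solvable _))
  rcases eq_or_lt_of_le hle with he | hlt
  · exact ⟨(MulEquiv.subgroupCongr he).trans e⟩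
  · exact absurd (hM.2 _ hlt) hN

theorem dihedral_norm {G : Type*} [Group G] {H : Subgroup G} {n : ℕ} [NeZero n]
    (e : H ≃* DihedralGroup n) :
    ∀ h ∈ H, ∃ i : ℕ, h * (e.symm (.r 1) : H) * h⁻¹ = ((e.symm (.r 1) : H) : G) ^ i := by
  intro h hh
  obtain ⟨j, hj⟩ : ∃ j, e ⟨h, hh⟩ * .r 1 * (e ⟨h, hh⟩)⁻¹ = DihedralGroup.r j := by
    rcases e ⟨h, hh⟩ with i | i
    · exact ⟨_, by rw [DihedralGroup.inv_r, DihedralGroup.r_mul_r, DihedralGroup.r_mul_r]⟩
    · exact ⟨_, by rw [DihedralGroup.inv_sr, DihedralGroup.sr_mul_r, DihedralGroup.sr_mul_sr]⟩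
  refine ⟨j.val, ?_⟩
  have := congrArg (fun z => ((e.symm z : H) : G)) hj
  simp only [map_mul, map_inv, e.symm_apply_apply, Subgroup.coe_mul, Subgroup.coe_inv] at this
  rw [this, ← Subgroup.coe_pow, ← map_pow, DihedralGroup.r_one_pow, ZMod.natCast_rightInverse]

theorem isSquare_two_iff (hp : p ≠ 2) (hq : Nat.card F = p) :
    IsSquare (2 : F) ↔ p % 8 = 1 ∨ p % 8 = 7 := by
  cases nonempty_fintype F
  rw [FiniteField.isSquare_two_iff, ← Nat.card_eq_fintype_card, hq]
  have := Nat.odd_iff.1 ((Fact.out : p.Prime).odd_of_ne_two hp)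
  omega

theorem natCast_ne_zero {n : ℕ} (h : ¬ p ∣ n) : (n : F) ≠ 0 :=
  fun h' => h ((CharP.cast_eq_zero_iff F p n).1 h')

/-- Bounds for a maximal subfield group. -/
theorem subfield_pow_eq {M : Subgroup (PSL2 F)} (hM : IsCoatom M) (hp5 : 5 ≤ p) {n : ℕ}
    (hn : 1 ≤ n) (hq : Nat.card F = p ^ n) (hsmall : 2 * Nat.card M < 120)
    (hinto : ∀ φ : GaloisField p 1 →+* F, ∃ k, conjH k (M.map ι) ≤ pglImage φ) : n = 1 := by
  by_contra hne
  obtain ⟨φ⟩ := exists_hom_galois (F := F) p 1 n hq one_ne_zero (one_dvd n)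
  obtain ⟨k, hk⟩ := hinto φ
  have hkL : conjH k (M.map ι) ≤ pslTop F :=
    Small.conjH_pslTop_le k (Subgroup.map_le_range _ _)
  have hle := card_le_two_mul (pglImage φ)
  have hlt := (Over.two_mul_lt p (a := 1) (r := n) le_rfl (by omega) (by rw [pow_one, hq])).2
    (by omega)
  have hcard := card_pglImage φ
  rw [card_gf p 1 le_rfl, pow_one] at hcard
  rw [pow_one] at hlt
  have hN : Nat.card (pglImage φ ⊓ pslTop F : Subgroup (PGL2 F)) ≤ Nat.card (pglImage φ) := by
    have := Torus.finite_pgl F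
    exact Subgroup.card_le_of_le inf_le_left
  have h120 := Nat.mul_le_mul hp5 (Nat.sub_le_sub_right (Nat.pow_le_pow_left hp5 2) 1)
  have heq := card_eq_of_conj_le hM k inf_le_right (by omega) (le_inf hk hkL)
  omega

theorem altFour_case (hp5 : 5 ≤ p) {M : Subgroup (PSL2 F)} (hM : IsCoatom M)
    (e : M ≃* alternatingGroup (Fin 4)) :
    Nat.card F = p ∧ (p % 8 = 3 ∨ p % 8 = 5) ∧ ¬ (p % 10 = 1 ∨ p % 10 = 9) := by
  classical
  have := Torus.finite_pgl F
  have hp : p.Prime := Fact.out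
  obtain ⟨n, hn, hq⟩ := exists_prime_power (F := F) p
  have h2 : (2 : F) ≠ 0 := by
    exact_mod_cast natCast_ne_zero (F := F) p (n := 2) fun h => by
      have := Nat.le_of_dvd two_pos h
      omega
  have hodd : Odd (Nat.card F) := hq ▸ (hp.odd_of_ne_two (by omega)).pow
  have hcM : Nat.card M = 12 := by
    rw [Nat.card_congr e.toEquiv, nat_card_alternatingGroup, Nat.card_fin]; rfl
  have e' : M.map ι ≃* alternatingGroup (Fin 4) := (mapEquiv M).symm.trans e
  have hn1 : n = 1 := subfield_pow_eq p hM hp5 hn hq (by omega) fun φ => by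
    obtain ⟨k, hk⟩ := Small.altFour_into φ h2 e'
    exact ⟨k, hk.trans (by rintro _ ⟨y, rfl⟩; exact ⟨_, rfl⟩)⟩
  subst hn1
  rw [pow_one] at hq
  have h60 := Over.sixty_le (F := F) hodd (by omega)
  -- no overgroup
  have key : ∀ (N : Subgroup (PSL2 F)) (f : alternatingGroup (Fin 4) →* N), Function.Injective f →
      Nat.card N < Nat.card (PSL2 F) → Nat.card N = 12 := by
    intro N f hf hlt
    let j : alternatingGroup (Fin 4) →* PGL2 F := (ι).comp (N.subtype.comp f)
    have hj : Function.Injective j := toPGL_inj.comp (N.subtype_injective.comp hf)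
    obtain ⟨k, hk⟩ := Small.altFour_conj h2 e' (MonoidHom.ofInjective hj).symm
    rw [← hcM, ← card_map N]
    refine card_eq_of_conj_le hM k (Subgroup.map_le_range _ _) (by rw [card_map]; exact hlt) ?_
    rw [hk]
    rintro _ ⟨a, rfl⟩
    exact ⟨_, (f a).2, rfl⟩
  obtain ⟨jf, hjf⟩ := Over.exists_altFour_symFour
  refine ⟨hq, ?_, ?_⟩
  · have h8 : ¬ (p % 8 = 1 ∨ p % 8 = 7) := fun h8 => by
      obtain ⟨s, hs⟩ := (isSquare_two_iff p (F := F) (by omega) hq).2 h8
      obtain ⟨H, ⟨eH⟩⟩ : ∃ H : Subgroup (PSL2 F), Nonempty (H ≃* Equiv.Perm (Fin 4)) :=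
        CfsgLib.Linear.SmallSub.exists_symFour h2 (s := s) (by rw [pow_two]; exact hs.symm)
      have hc : Nat.card H = 24 := by
        rw [Nat.card_congr eH.toEquiv, Nat.card_perm, Nat.card_fin]; rfl
      have := key H (eH.symm.toMonoidHom.comp jf) (eH.symm.injective.comp hjf) (by omega)
      omega
    have := Nat.odd_iff.1 (hq ▸ hodd)
    omega
  · intro h10
    cases nonempty_fintype F
    have h5 : 5 ∣ Nat.card (Matrix.SpecialLinearGroup (Fin 2) F) := by
      rw [CfsgLib.SL2C.card_SL2_mul, sq_sub_one, ← Nat.card_eq_fintype_card, hq]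
      refine Dvd.dvd.mul_left ?_ _
      rcases h10 with h | h
      · exact Dvd.dvd.mul_right (by omega) _
      · exact Dvd.dvd.mul_left (by omega) _
    obtain ⟨t, ht⟩ := CfsgLib.Linear.SmallSub.exists_tau h5
    obtain ⟨H, ⟨eH⟩⟩ : ∃ H : Subgroup (PSL2 F), Nonempty (H ≃* alternatingGroup (Fin 5)) :=
      CfsgLib.Linear.SmallSub.exists_altFive ht
    have hc : Nat.card H = 60 := by
      rw [Nat.card_congr eH.toEquiv, nat_card_alternatingGroup, Nat.card_fin]; rfl
    have hbig : 11 ≤ Nat.card F := by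
      rw [hq]
      have : p ≠ 9 := fun h9 => (by norm_num : ¬ Nat.Prime 9) (h9 ▸ hp)
      omega
    have h660 := Nat.mul_le_mul hbig (Nat.sub_le_sub_right (Nat.pow_le_pow_left hbig 2) 1)
    have h2L := Over.two_mul_card (F := F) hodd
    obtain ⟨j, hj⟩ : ∃ j : alternatingGroup (Fin 4) →* alternatingGroup (Fin 5),
        Function.Injective j :=
      ⟨(((Equiv.Perm.viaEmbeddingHom (Fin.castSuccEmb)).comp
          (alternatingGroup (Fin 4)).subtype).codRestrict (alternatingGroup (Fin 5)) (fun a =>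
            Equiv.Perm.mem_alternatingGroup.2 (by
              rw [MonoidHom.comp_apply, Equiv.Perm.viaEmbeddingHom_apply,
                Equiv.Perm.viaEmbedding, Equiv.Perm.sign_extendDomain]
              exact a.2))),
        fun a b h => Subtype.ext (Equiv.Perm.viaEmbeddingHom_injective _ (congrArg Subtype.val h))⟩
    have := key H (eH.symm.toMonoidHom.comp j) (eH.symm.injective.comp hj) (by omega)
    omega

theorem symFour_case (hp5 : 5 ≤ p) {M : Subgroup (PSL2 F)} (hM : IsCoatom M)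
    (e : M ≃* Equiv.Perm (Fin 4)) : Nat.card F = p ∧ (p % 8 = 1 ∨ p % 8 = 7) := by
  classical
  have := Torus.finite_pgl F
  obtain ⟨n, hn, hq⟩ := exists_prime_power (F := F) p
  have h2 : (2 : F) ≠ 0 := by
    exact_mod_cast natCast_ne_zero (F := F) p (n := 2) fun h => by
      have := Nat.le_of_dvd two_pos h
      omega
  have h3 : (3 : F) ≠ 0 := by
    exact_mod_cast natCast_ne_zero (F := F) p (n := 3) fun h => by
      have := Nat.le_of_dvd three_pos h
      omega
  have hcM : Nat.card M = 24 := by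
    rw [Nat.card_congr e.toEquiv, Nat.card_perm, Nat.card_fin]; rfl
  have e' : M.map ι ≃* Equiv.Perm (Fin 4) := (mapEquiv M).symm.trans e
  have hn1 : n = 1 := subfield_pow_eq p hM hp5 hn hq (by omega) fun φ => Small.symFour_into φ h2 h3 e'
  subst hn1
  rw [pow_one] at hq
  exact ⟨hq, (isSquare_two_iff p (F := F) (by omega) hq).1
    ((Small.symFour_le_iff h2 h3 e').1 (Subgroup.map_le_range _ _))⟩

theorem mod_five_cases {q : ℕ} (h : 5 ∣ q * (q ^ 2 - 1)) (h5 : ¬ 5 ∣ q) :
    q % 5 = 1 ∨ q % 5 = 4 := by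
  rw [sq_sub_one] at h
  rcases (Nat.Prime.dvd_mul (by norm_num)).1 h with h | h
  · exact absurd h h5
  · rcases (Nat.Prime.dvd_mul (by norm_num)).1 h with h | h <;> omega

theorem altFive_case (hp2 : p ≠ 2) (hp5 : p ≠ 5) {M : Subgroup (PSL2 F)} (hM : IsCoatom M)
    (e : M ≃* alternatingGroup (Fin 5)) :
    (Nat.card F % 10 = 1 ∨ Nat.card F % 10 = 9) ∧
      (Nat.card F = p ∨ (Nat.card F = p ^ 2 ∧ (p % 10 = 3 ∨ p % 10 = 7))) := by
  classical
  have := Torus.finite_pgl F
  have hp : p.Prime := Fact.out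
  obtain ⟨n, hn, hq⟩ := exists_prime_power (F := F) p
  have hpodd := Nat.odd_iff.1 (hp.odd_of_ne_two hp2)
  have hodd : Odd (Nat.card F) := hq ▸ (hp.odd_of_ne_two hp2).pow
  have hp5' : ¬ 5 ∣ p := fun h => hp5 ((Nat.prime_dvd_prime_iff_eq (by norm_num) hp).1 h).symm
  have h2 : (2 : F) ≠ 0 := by
    exact_mod_cast natCast_ne_zero (F := F) p (n := 2) fun h =>
      hp2 ((Nat.prime_dvd_prime_iff_eq hp Nat.prime_two).1 h)
  have hcM : Nat.card M = 60 := by
    rw [Nat.card_congr e.toEquiv, nat_card_alternatingGroup, Nat.card_fin]; rfl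
  have e' : M.map ι ≃* alternatingGroup (Fin 5) := (mapEquiv M).symm.trans e
  have hq5 : Nat.card F % 5 = 1 ∨ Nat.card F % 5 = 4 := by
    refine mod_five_cases ?_ ?_
    · rw [← Over.two_mul_card hodd]
      exact Dvd.dvd.mul_left (((by norm_num : 5 ∣ 60).trans (dvd_of_eq hcM.symm)).trans
        M.card_subgroup_dvd_card) 2
    · rw [hq]
      exact fun h => hp5' ((by norm_num : Nat.Prime 5).dvd_of_dvd_pow h)
  have hq10 : Nat.card F % 10 = 1 ∨ Nat.card F % 10 = 9 := by
    have := Nat.odd_iff.1 hodd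
    omega
  refine ⟨hq10, ?_⟩
  -- a root in the field with `p ^ a` elements forces `n = a`
  have key : ∀ a, 1 ≤ a → a ∣ n → 5 ∣ p ^ a * ((p ^ a) ^ 2 - 1) → n = a := by
    intro a ha ⟨r, hr⟩ h5
    by_contra hne
    have hr2 : 2 ≤ r := by
      rcases r with _ | _ | r
      · omega
      · omega
      · omega
    let _ := Fintype.ofFinite (GaloisField p a)
    obtain ⟨φ⟩ := exists_hom_galois (F := F) p a n hq (by omega) ⟨r, hr⟩
    obtain ⟨t, ht⟩ := CfsgLib.Linear.SmallSub.exists_tau (F := GaloisField p a) (by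
      rw [CfsgLib.SL2C.card_SL2_mul, ← Nat.card_eq_fintype_card, card_gf p a ha]; exact h5)
    obtain ⟨k, hk⟩ := Small.altFive_into φ h2 ht e'
    have hpa : 3 ≤ p ^ a := le_trans (by have := hp.two_le; omega) (Nat.le_self_pow (by omega) p)
    have hlt := (Over.two_mul_lt p (a := a) (r := r) ha hr2 (by rw [← pow_mul, ← hr, hq])).2
      (by have := hp.two_le; omega)
    have hgf : Odd (Nat.card (GaloisField p a)) := by
      rw [card_gf p a ha]; exact (hp.odd_of_ne_two hp2).pow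
    have hc : 2 * Nat.card (pslImage φ) = p ^ a * ((p ^ a) ^ 2 - 1) := by
      rw [card_pslImage, two_mul_card_psl _ hgf, card_gf p a ha]
    have heq := card_eq_of_conj_le hM k (pslImage_le φ) (by omega) hk
    rw [heq, hcM] at hc
    rcases (show p ^ a = 3 ∨ p ^ a = 4 ∨ p ^ a = 5 ∨ 6 ≤ p ^ a by omega) with h | h | h | h
    · rw [h] at hc; norm_num at hc
    · rw [h] at hc; norm_num at hc
    · exact hp5' ((by norm_num : Nat.Prime 5).dvd_of_dvd_pow (dvd_of_eq h.symm))
    · have := Nat.mul_le_mul h (Nat.sub_le_sub_right (Nat.pow_le_pow_left h 2) 1)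
      omega
  by_cases h10 : p % 5 = 1 ∨ p % 5 = 4
  · left
    rw [hq, key 1 le_rfl (one_dvd n) (by
      rw [pow_one, sq_sub_one]
      refine Dvd.dvd.mul_left ?_ _
      rcases h10 with h | h
      · exact Dvd.dvd.mul_right (by omega) _
      · exact Dvd.dvd.mul_left (by omega) _), pow_one]
  · right
    have hp23 : p ^ 2 % 5 = 4 := by
      rw [Nat.pow_mod]
      rcases (show p % 5 = 2 ∨ p % 5 = 3 by omega) with h | h <;> rw [h] <;> norm_num
    have heven : 2 ∣ n := by
      rcases Nat.even_or_odd n with h | ⟨i, rfl⟩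
      · exact h.two_dvd
      · exfalso
        rw [hq, pow_succ, pow_mul, Nat.mul_mod, Nat.pow_mod, hp23] at hq5
        rcases Nat.even_or_odd i with ⟨k, rfl⟩ | ⟨k, rfl⟩
        · rw [← two_mul, pow_mul, Nat.pow_mod] at hq5
          norm_num at hq5
          omega
        · rw [pow_succ, pow_mul, Nat.mul_mod (((4 : ℕ) ^ 2) ^ k) 4 5, Nat.pow_mod] at hq5
          norm_num at hq5
          omega
    have := key 2 (by omega) heven (by
      refine Dvd.dvd.mul_left ?_ _
      have : (p ^ 2) ^ 2 % 5 = 1 := by rw [Nat.pow_mod, hp23]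
      omega)
    subst this
    exact ⟨hq, by omega⟩

theorem subfield_case {M : Subgroup (PSL2 F)} (hM : IsCoatom M) (h4 : 4 ≤ Nat.card F)
    {f m : ℕ} (hf : 1 ≤ f) (hq : Nat.card F = (p ^ f) ^ m) (ψ : GaloisField p f →+* F)
    (k : PGL2 F) (h : conjH k (M.map ι) = pglImage ψ ∨
      (p ≠ 2 ∧ conjH k (M.map ι) = pslImage ψ)) :
    m.Prime ∧ (((p = 2 ∨ m = 2) ∧ Nonempty (M ≃* PGL2 (GaloisField p f))) ∨
      (p ≠ 2 ∧ Odd m ∧ Nonempty (M ≃* PSL2 (GaloisField p f)))) := by
  classical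
  have := Torus.finite_pgl F
  have hp : p.Prime := Fact.out
  have hgf := card_gf p f hf
  set q0 := p ^ f with hq0
  have hq02 : 2 ≤ q0 := hp.two_le.trans (Nat.le_self_pow (by omega) p)
  have hcard : Nat.card M = Nat.card (conjH k (M.map ι)) := by rw [Small.card_conjH, card_map]
  have hlt : Nat.card M < Nat.card (PSL2 F) := by
    rcases Nat.lt_or_ge (Nat.card M) (Nat.card (PSL2 F)) with h' | h'
    · exact h'
    · exact absurd (Subgroup.eq_top_of_le_card M h') hM.1
  have hm0 : m ≠ 0 := by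
    rintro rfl
    rw [pow_zero] at hq
    omega
  have hpg := card_pglImage ψ
  rw [hgf] at hpg
  have hm1 : m ≠ 1 := by
    rintro rfl
    rw [pow_one] at hq
    have hd := mul_card (F := F)
    rcases h with h | ⟨hp2, h⟩
    · rw [h, hpg, ← hq, ← hd] at hcard
      have := Nat.le_mul_of_pos_left (Nat.card (PSL2 F))
        (Nat.gcd_pos_of_pos_left (Nat.card F - 1) two_pos)
      omega
    · have hodd : Odd q0 := (hp.odd_of_ne_two hp2).pow
      have h2 := two_mul_card_psl (GaloisField p f) (hgf ▸ hodd)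
      rw [hgf] at h2
      rw [gcd_eq_two (hq ▸ hodd), hq] at hd
      rw [h, card_pslImage] at hcard
      omega
  have hle : conjH k (M.map ι) ≤ pglImage ψ := by
    rcases h with h | ⟨-, h⟩
    · exact h.le
    · rw [h]; rintro _ ⟨y, rfl⟩; exact ⟨_, rfl⟩
  have hleL : conjH k (M.map ι) ≤ pslTop F :=
    Small.conjH_pslTop_le k (Subgroup.map_le_range _ _)
  -- the degree is prime
  have hmprime : m.Prime := by
    by_contra hnp
    obtain ⟨j, ⟨r, rfl⟩, hj2, hjm⟩ := Nat.exists_dvd_of_not_prime2 (by omega) hnp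
    have hr2 : 2 ≤ r := by
      rcases r with _ | _ | r
      · simp at hm0
      · omega
      · omega
    obtain ⟨χ, η, rfl⟩ := exists_intermediate p hf (dvd_mul_right j r) hq ψ
    have hfj : 1 ≤ f * j := Nat.mul_pos hf (by omega)
    have hc := card_pglImage χ
    rw [card_gf p _ hfj, pow_mul, ← hq0] at hc
    have hbound := (Over.two_mul_lt p (a := f * j) (r := r) hfj hr2
      (by rw [hq, hq0, ← pow_mul, ← pow_mul, ← mul_assoc])).1
    rw [pow_mul, ← hq0] at hbound
    have hN : Nat.card (pglImage χ ⊓ pslTop F : Subgroup (PGL2 F)) ≤ Nat.card (pglImage χ) :=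
      Subgroup.card_le_of_le inf_le_left
    have hhalf := card_le_two_mul (pglImage χ)
    have heq := card_eq_of_conj_le hM k inf_le_right (by omega)
      (le_inf (hle.trans (pglImage_mono χ η)) hleL)
    have hMle : Nat.card M ≤ q0 * (q0 ^ 2 - 1) := by
      rw [hcard, ← hpg]
      exact Subgroup.card_le_of_le hle
    have hQ : q0 ^ 2 ≤ q0 ^ j := Nat.pow_le_pow_right (by omega) hj2
    have h4' : 4 ≤ q0 ^ 2 := Nat.pow_le_pow_left hq02 2
    have hbig : q0 ^ 2 * (q0 ^ 4 - 1) ≤ q0 ^ j * ((q0 ^ j) ^ 2 - 1) :=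
      Nat.mul_le_mul hQ (Nat.sub_le_sub_right (by
        rw [show q0 ^ 4 = (q0 ^ 2) ^ 2 by ring]; exact Nat.pow_le_pow_left hQ 2) 1)
    have e4 : q0 ^ 2 * (q0 ^ 4 - 1) = q0 * (q0 ^ 2 - 1) * (q0 * (q0 ^ 2 + 1)) := by
      rw [show q0 ^ 4 = (q0 ^ 2) ^ 2 by ring, sq_sub_one (q0 ^ 2)]
      ring
    have hb : 5 ≤ q0 * (q0 ^ 2 + 1) :=
      (show 5 ≤ q0 ^ 2 + 1 by omega).trans (Nat.le_mul_of_pos_left _ (by omega))
    have h5 := Nat.mul_le_mul (le_refl (q0 * (q0 ^ 2 - 1))) hb
    have hpos : 0 < q0 * (q0 ^ 2 - 1) := Nat.mul_pos (by omega) (by omega)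
    rw [e4] at hbig
    generalize q0 * (q0 ^ 2 - 1) = A at hMle h5 hpos hbig
    generalize A * (q0 * (q0 ^ 2 + 1)) = B at h5 hbig
    omega
  refine ⟨hmprime, ?_⟩
  rcases h with h | ⟨hp2, h⟩
  · refine Or.inl ⟨?_, ⟨(mapEquiv M).trans ((CfsgLib.Dickson.conjHEquiv k _).trans
      ((MulEquiv.subgroupCongr h).trans (pglImageEquiv ψ).symm))⟩⟩
    by_cases hp2 : p = 2
    · exact Or.inl hp2
    right
    by_contra hm2
    apply Over.not_dvd_card p hp2 hf (hmprime.odd_of_ne_two hm2) hq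
    rw [← hpg, ← h, ← hcard]
    exact M.card_subgroup_dvd_card
  · refine Or.inr ⟨hp2, ?_, ⟨(mapEquiv M).trans ((CfsgLib.Dickson.conjHEquiv k _).trans
      ((MulEquiv.subgroupCongr h).trans (pslImageEquiv ψ).symm))⟩⟩
    rcases hmprime.eq_two_or_odd' with rfl | hm
    swap
    · exact hm
    exfalso
    have hodd : Odd (Nat.card (GaloisField p f)) := hgf ▸ (hp.odd_of_ne_two hp2).pow
    have hsq := pglImage_le ψ (isSquare_of_even ψ (j := 1) hodd (by rw [hgf, pow_one, hq]))
    have hlt2 := (Over.two_mul_lt p (a := f) (r := 2) hf le_rfl hq).1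
    rw [← hq0] at hlt2
    have heq := card_eq_of_conj_le hM k hsq (by omega) hle
    have h2 := two_mul_card_psl (GaloisField p f) hodd
    rw [hgf] at h2
    rw [h, card_pslImage] at hcard
    have hpos : 0 < q0 * (q0 ^ 2 - 1) :=
      Nat.mul_pos (by omega) (by have := Nat.pow_le_pow_left hq02 2; omega)
    omega

/-- **The maximal subgroups of `PSL₂(q)`.** -/
theorem psl_max (h4 : 4 ≤ Nat.card F) {M : Subgroup (PSL2 F)} (hM : IsCoatom M) :
    (∃ P : Sylow p (PSL2 F),
      M = Subgroup.normalizer ((P : Subgroup (PSL2 F)) : Set (PSL2 F))) ∨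
    (∃ c, (c + 1 = Nat.card F ∨ c = Nat.card F + 1) ∧
      Nonempty (M ≃* DihedralGroup (c / Nat.gcd 2 (Nat.card F - 1)))) ∨
    (5 ≤ p ∧ (Nat.card F = p ∧ (p % 8 = 3 ∨ p % 8 = 5) ∧ ¬ (p % 10 = 1 ∨ p % 10 = 9)) ∧
      Nonempty (M ≃* alternatingGroup (Fin 4))) ∨
    (5 ≤ p ∧ (Nat.card F = p ∧ (p % 8 = 1 ∨ p % 8 = 7)) ∧
      Nonempty (M ≃* Equiv.Perm (Fin 4))) ∨
    (p ≠ 2 ∧ p ≠ 5 ∧ ((Nat.card F % 10 = 1 ∨ Nat.card F % 10 = 9) ∧
        (Nat.card F = p ∨ (Nat.card F = p ^ 2 ∧ (p % 10 = 3 ∨ p % 10 = 7)))) ∧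
      Nonempty (M ≃* alternatingGroup (Fin 5))) ∨
    (∃ f m, 1 ≤ f ∧ Nat.card F = (p ^ f) ^ m ∧ m.Prime ∧
      (((p = 2 ∨ m = 2) ∧ p ^ f ≠ 2 ∧ Nonempty (M ≃* PGL2 (GaloisField p f))) ∨
        (p ≠ 2 ∧ Odd m ∧ Nonempty (M ≃* PSL2 (GaloisField p f))))) := by
  classical
  have := Torus.finite_pgl F
  have hp : p.Prime := Fact.out
  have hbot : M.map ι ≠ ⊥ := fun h => not_bot h4 hM
    ((Subgroup.map_eq_bot_iff_of_injective _ toPGL_inj).1 h)
  rcases pgl_classification p (algebraMap F (AlgebraicClosure F)) (M.map ι) with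
    ⟨-, w, hw⟩ | ⟨hpn, hcyc⟩ | ⟨n, hn, hpn, hc, ⟨d⟩⟩ | ⟨hp5, -, ⟨d⟩⟩ | ⟨hp5, -, ⟨d⟩⟩ |
    ⟨hp2, hp5, -, ⟨d⟩⟩ | ⟨f, m, hf, -, hq, ψ, k, hk⟩
  · left
    -- the point stabiliser is a Sylow normaliser
    letI := lineAction (F := F)
    obtain ⟨P⟩ := (Sylow.nonempty : Nonempty (Sylow p (PSL2 F)))
    obtain ⟨x, hx⟩ := normalizer_eq_stabilizer p P
    obtain ⟨g, hg⟩ := exists_to x
    obtain ⟨g', hg'⟩ := exists_to w
    refine ⟨(g' * g⁻¹) • P, ?_⟩
    have hst : Subgroup.normalizer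
        ((((g' * g⁻¹) • P : Sylow p (PSL2 F)) : Subgroup (PSL2 F)) : Set (PSL2 F)) =
        MulAction.stabilizer (PSL2 F) w := by
      obtain ⟨y, hy⟩ := normalizer_eq_stabilizer p ((g' * g⁻¹) • P)
      rw [hy]
      congr 1
      have hfix : ∀ z ∈ (P : Subgroup (PSL2 F)), ι z • x = x := fun z hz => by
        have : z ∈ Subgroup.normalizer ((P : Subgroup (PSL2 F)) : Set (PSL2 F)) :=
          Subgroup.le_normalizer hz
        rw [hx] at this
        exact this
      -- both points are fixed by the conjugate Sylow subgroup, which fixes only one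
      have hwfix : ∀ z ∈ ((g' * g⁻¹) • P : Sylow p (PSL2 F)), ι z • w = w := by
        intro z hz
        obtain ⟨u, hu, rfl⟩ := hz
        show ι ((g' * g⁻¹) * u * (g' * g⁻¹)⁻¹) • w = w
        have hwx : ι (g' * g⁻¹) • x = w := by
          rw [map_mul, map_inv, mul_smul, ← hg, inv_smul_smul, hg']
        rw [map_mul, map_mul, mul_smul, mul_smul, ← hwx, map_inv, inv_smul_smul, hfix u hu]
      have hle : ((g' * g⁻¹) • P : Sylow p (PSL2 F)).toSubgroup ≤
          Subgroup.normalizer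
            ((((g' * g⁻¹) • P : Sylow p (PSL2 F)) : Subgroup (PSL2 F)) : Set (PSL2 F)) :=
        Subgroup.le_normalizer
      rw [hy] at hle
      obtain ⟨v, hv⟩ := exists_prime_orderOf_dvd_card' (G := ((g' * g⁻¹) • P : Sylow p (PSL2 F))) p
        (Sylow.dvd_card_of_dvd_card _ (CfsgLib.Linear.PSLTwo.dvd_card p))
      by_contra hne
      have hv1 : ι (v : PSL2 F) ≠ 1 := by
        intro h
        have h1 : (v : PSL2 F) = 1 := toPGL_inj (h.trans (map_one _).symm)
        rw [← Subgroup.orderOf_coe, h1, orderOf_one] at hv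
        exact hp.one_lt.ne hv
      have hpair := not_dvd_orderOf_of_two p hne (hle v.2) (hwfix _ v.2)
        (orderOf_pos _).ne'
      apply hpair
      rw [orderOf_injective _ toPGL_inj, Subgroup.orderOf_coe, hv]
    have hle : M ≤ MulAction.stabilizer (PSL2 F) w := fun z hz => hw _ ⟨z, hz, rfl⟩
    have hidx : (MulAction.stabilizer (PSL2 F) w).index = Nat.card F + 1 := index_stabilizer w
    rcases eq_or_lt_of_le hle with he | hlt
    · exact he.trans hst.symm
    · have := hM.2 _ hlt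
      rw [this, Subgroup.index_top] at hidx
      omega
  · right; left
    obtain ⟨g, hg⟩ := hcyc.exists_generator
    have hg1 : (g : PGL2 F) ≠ 1 := by
      intro h
      apply hbot
      rw [Subgroup.eq_bot_iff_forall]
      intro x hx
      obtain ⟨i, hi⟩ := hg ⟨x, hx⟩
      have h2 : (g : PGL2 F) ^ i = x := congrArg Subtype.val hi
      rw [h, one_zpow] at h2
      exact h2.symm
    refine eq_torus p hM h4 g hg1 (fun hd => hpn ?_) fun x hx => ⟨1, ?_⟩
    · rw [Subgroup.orderOf_coe] at hd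
      exact hd.trans (orderOf_dvd_natCard g)
    · have := hcyc
      rw [pow_one]
      have h2 := congrArg Subtype.val
        (IsCyclic.commGroup.mul_comm (⟨ι x, ⟨x, hx, rfl⟩⟩ : M.map ι) g)
      simp only [Subgroup.coe_mul] at h2
      rw [h2, mul_inv_cancel_right]
  · right; left
    have : NeZero n := ⟨by omega⟩
    have ho : orderOf ((d.symm (.r 1) : M.map ι) : PGL2 F) = n := by
      rw [Subgroup.orderOf_coe, MulEquiv.orderOf_eq, DihedralGroup.orderOf_r_one]
    refine eq_torus p hM h4 _ ?_ (ho.symm ▸ hpn) fun x hx => dihedral_norm d _ ⟨x, hx, rfl⟩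
    intro h
    rw [h, orderOf_one] at ho
    omega
  · exact Or.inr (Or.inr (Or.inl ⟨hp5, altFour_case p hp5 hM ((mapEquiv M).trans d),
      ⟨(mapEquiv M).trans d⟩⟩))
  · exact Or.inr (Or.inr (Or.inr (Or.inl ⟨hp5, symFour_case p hp5 hM ((mapEquiv M).trans d),
      ⟨(mapEquiv M).trans d⟩⟩)))
  · exact Or.inr (Or.inr (Or.inr (Or.inr (Or.inl ⟨hp2, hp5,
      altFive_case p hp2 hp5 hM ((mapEquiv M).trans d), ⟨(mapEquiv M).trans d⟩⟩))))
  · obtain ⟨hm, hcases⟩ := subfield_case p hM h4 hf hq ψ k hk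
    by_cases h2 : p ^ f = 2
    · -- `PGL₂(2) ≅ S₃` lies in a torus normaliser
      right; left
      have hp2 : p = 2 :=
        (Nat.prime_dvd_prime_iff_eq hp Nat.prime_two).1 (h2 ▸ dvd_pow_self p (by omega))
      obtain ⟨e⟩ : Nonempty (M ≃* PGL2 (GaloisField p f)) := by
        rcases hcases with ⟨-, h⟩ | ⟨h, -, -⟩
        · exact h
        · exact absurd hp2 h
      have h6 : Nat.card M = 6 := by
        rw [Nat.card_congr e.toEquiv, card_pgl, card_gf p f hf, h2]; norm_num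
      have := Fact.mk (show Nat.Prime 3 by norm_num)
      obtain ⟨g, hg⟩ := exists_prime_orderOf_dvd_card' (G := M) 3 (by rw [h6]; norm_num)
      have hidx : (Subgroup.zpowers g).index = 2 := by
        have := (Subgroup.zpowers g).card_mul_index
        rw [Nat.card_zpowers, hg, h6] at this
        omega
      have := Subgroup.normal_of_index_eq_two hidx
      refine eq_torus p hM h4 (ι g) ?_ ?_ fun x hx => ?_
      · intro h
        rw [map_eq_one_iff _ toPGL_inj] at h
        rw [← Subgroup.orderOf_coe, h, orderOf_one] at hg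
        omega
      · rw [orderOf_injective _ toPGL_inj, Subgroup.orderOf_coe, hg, hp2]
        norm_num
      · obtain ⟨i, hi⟩ := mem_powers_iff_mem_zpowers.2
          (this.conj_mem g (Subgroup.mem_zpowers g) ⟨x, hx⟩)
        refine ⟨i, ?_⟩
        have h2 := congrArg (fun z : M => ι (z : PSL2 F)) hi
        simp only [Subgroup.coe_mul, Subgroup.coe_inv, Subgroup.coe_pow, map_mul, map_inv,
          map_pow] at h2
        exact h2.symm
    · refine Or.inr (Or.inr (Or.inr (Or.inr (Or.inr ⟨f, m, hf, hq, hm, ?_⟩))))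
      exact hcases.imp_left fun ⟨h, e⟩ => ⟨h, h2, e⟩

end CfsgLib.Dickson.MaxSub
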