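import Cfsg.Agent.Dickson.MaxPSL

/-!
The small exceptions among the dihedral subgroups of `PSL₂(q)`.
-/

set_option autoImplicit false

namespace CfsgLib.Dickson.MaxSub

open scoped Pointwise

variable {G : Type*} [Group G] [Finite G]

/-- A maximal subgroup is not a Sylow subgroup that also occurs in a larger proper subgroup. -/
theorem sylow_not_max (r : ℕ) [Fact r.Prime] (k : ℕ) (M : Subgroup G) (hM : IsCoatom M)
    (hcard : Nat.card M = r ^ k) (hmax : ¬ r ^ (k + 1) ∣ Nat.card G) (H : Subgroup G)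
    (hdvd : r ^ k ∣ Nat.card H) (hlt : r ^ k < Nat.card H) (hH : Nat.card H < Nat.card G) :
    False := by
  have hsyl : ∀ Q : Subgroup G, Nat.card Q = r ^ k → ∃ P : Sylow r G, (P : Subgroup G) = Q := by
    intro Q hQ
    obtain ⟨P, hP⟩ := IsPGroup.exists_le_sylow (p := r) (P := Q) (IsPGroup.iff_card.2 ⟨k, hQ⟩)
    obtain ⟨j, hj⟩ := IsPGroup.iff_card.1 P.isPGroup'
    refine ⟨P, (Subgroup.eq_of_le_of_card_ge hP ?_).symm⟩
    rw [hj, hQ]
    refine Nat.pow_le_pow_right (Fact.out : r.Prime).pos ?_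
    by_contra hlt'
    exact hmax ((pow_dvd_pow r (by omega : k + 1 ≤ j)).trans (hj ▸ P.toSubgroup.card_subgroup_dvd_card))
  obtain ⟨Q, hQ⟩ := Sylow.exists_subgroup_card_pow_prime r hdvd
  obtain ⟨P, hP⟩ := hsyl M hcard
  obtain ⟨P', hP'⟩ := hsyl (Q.map H.subtype) (by
    rw [Subgroup.card_map_of_injective H.subtype_injective, hQ])
  obtain ⟨g, hg⟩ := MulAction.exists_smul_eq G P' P
  have hle : M ≤ H.map (MulAut.conj g).toMonoidHom := by
    rw [← hP, ← hg]
    intro x hx
    obtain ⟨y, hy, rfl⟩ := hx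
    refine ⟨y, ?_, rfl⟩
    rw [SetLike.mem_coe, hP'] at hy
    obtain ⟨z, -, rfl⟩ := hy
    exact z.2
  have hc : Nat.card (H.map (MulAut.conj g).toMonoidHom) = Nat.card H :=
    Subgroup.card_map_of_injective (MulAut.conj g).injective
  rcases eq_or_lt_of_le hle with he | hlt'
  · rw [he, hc] at hcard
    omega
  · rw [hM.2 _ hlt', Subgroup.card_top] at hc
    omega

/-- A maximal dihedral subgroup of order `2r` is not contained in a larger proper subgroup. -/
theorem dihedral_not_max (r : ℕ) [Fact r.Prime] (hr : r ≠ 2) (M : Subgroup G) (hM : IsCoatom M)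
    (e : M ≃* DihedralGroup r) (hmax : ¬ r ^ 2 ∣ Nat.card G) (hnormal : ∀ P : Sylow r G,
      Subgroup.normalizer ((P : Subgroup G) : Set G) ≠ ⊤)
    (H : Subgroup G) (hlt : 2 * r < Nat.card H) (hH : Nat.card H < Nat.card G)
    (hw : ∃ x w : H, orderOf x = r ∧ orderOf w = 2 ∧ w * x * w⁻¹ = x⁻¹) : False := by
  have hr' : r.Prime := Fact.out
  have : NeZero r := ⟨hr'.ne_zero⟩
  -- the subgroups of order `r` are Sylow subgroups
  have hsyl : ∀ g : G, orderOf g = r → ∃ P : Sylow r G, (P : Subgroup G) = Subgroup.zpowers g := by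
    intro g hg
    obtain ⟨P, hP⟩ := IsPGroup.exists_le_sylow (p := r) (P := Subgroup.zpowers g)
      (IsPGroup.iff_card.2 ⟨1, by rw [Nat.card_zpowers, hg, pow_one]⟩)
    obtain ⟨j, hj⟩ := IsPGroup.iff_card.1 P.isPGroup'
    refine ⟨P, (Subgroup.eq_of_le_of_card_ge hP ?_).symm⟩
    rw [hj, Nat.card_zpowers, hg]
    refine le_of_le_of_eq (Nat.pow_le_pow_right hr'.pos ?_) (pow_one r)
    by_contra hlt'
    exact hmax ((pow_dvd_pow r (by omega : 2 ≤ j)).trans (hj ▸ P.toSubgroup.card_subgroup_dvd_card))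
  have hcM : Nat.card M = 2 * r := by rw [Nat.card_congr e.toEquiv, DihedralGroup.nat_card]
  obtain ⟨P, hP⟩ := hsyl ((e.symm (.r 1) : M) : G) (by
    rw [Subgroup.orderOf_coe, MulEquiv.orderOf_eq, DihedralGroup.orderOf_r_one])
  have hMN : M ≤ Subgroup.normalizer ((P : Subgroup G) : Set G) := by
    intro h hh
    rw [hP]
    obtain ⟨i, hi⟩ := dihedral_norm e h hh
    refine Subgroup.mem_normalizer_iff.2 fun z => ?_
    have hsub : (Subgroup.zpowers ((e.symm (.r 1) : M) : G)).map (MulAut.conj h).toMonoidHom ≤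
        Subgroup.zpowers ((e.symm (.r 1) : M) : G) := by
      rw [MonoidHom.map_zpowers, Subgroup.zpowers_le]
      show h * _ * h⁻¹ ∈ _
      rw [hi]
      exact pow_mem (Subgroup.mem_zpowers _) _
    have heq := Subgroup.eq_of_le_of_card_ge hsub
      (Subgroup.card_map_of_injective (MulAut.conj h).injective).ge
    constructor
    · exact fun hz => hsub ⟨z, hz, rfl⟩
    · intro hz
      rw [← heq] at hz
      obtain ⟨y, hy, hye⟩ := hz
      have : y = z := (MulAut.conj h).injective hye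
      exact this ▸ hy
  have hPN : Subgroup.normalizer ((P : Subgroup G) : Set G) = M :=
    ((eq_or_lt_of_le hMN).resolve_right fun h => hnormal P (hM.2 _ h)).symm
  obtain ⟨x, w, hx, hwo, hwx⟩ := hw
  obtain ⟨P', hP'⟩ := hsyl (x : G) (by rw [Subgroup.orderOf_coe, hx])
  have hxN : (x : G) ∈ Subgroup.normalizer ((P' : Subgroup G) : Set G) :=
    Subgroup.le_normalizer (hP' ▸ Subgroup.mem_zpowers _)
  have hwN : (w : G) ∈ Subgroup.normalizer ((P' : Subgroup G) : Set G) := by
    rw [hP']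
    have hinv : (w : G) * x * (w : G)⁻¹ = (x : G)⁻¹ := congrArg Subtype.val hwx
    refine Subgroup.mem_normalizer_iff.2 fun z => ?_
    have heq : (Subgroup.zpowers (x : G)).map (MulAut.conj (w : G)).toMonoidHom =
        Subgroup.zpowers (x : G) := by
      rw [MonoidHom.map_zpowers]
      show Subgroup.zpowers ((w : G) * x * (w : G)⁻¹) = _
      rw [hinv, Subgroup.zpowers_inv]
    constructor
    · intro hz
      rw [← heq]
      exact ⟨z, hz, rfl⟩
    · intro hz
      rw [← heq] at hz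
      obtain ⟨y, hy, hye⟩ := hz
      have : y = z := (MulAut.conj (w : G)).injective hye
      exact this ▸ hy
  obtain ⟨g, hg⟩ := MulAction.exists_smul_eq G P P'
  have hcN : Nat.card (Subgroup.normalizer ((P' : Subgroup G) : Set G)) = 2 * r := by
    have h1 := (Subgroup.normalizer ((P' : Subgroup G) : Set G)).card_mul_index
    have h2 := (Subgroup.normalizer ((P : Subgroup G) : Set G)).card_mul_index
    rw [show (Subgroup.normalizer ((P' : Subgroup G) : Set G)).index = Nat.card (Sylow r G) from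
      P'.card_eq_index_normalizer.symm] at h1
    rw [show (Subgroup.normalizer ((P : Subgroup G) : Set G)).index = Nat.card (Sylow r G) from
      P.card_eq_index_normalizer.symm] at h2
    rw [hPN, hcM] at h2
    exact Nat.eq_of_mul_eq_mul_right Nat.card_pos (h1.trans h2.symm)
  -- the normaliser of `P'` lies in `H`
  have hd : 2 * r ∣ Nat.card (H ⊓ Subgroup.normalizer ((P' : Subgroup G) : Set G) : Subgroup G) := by
    refine Nat.Coprime.mul_dvd_of_dvd_of_dvd ((Nat.coprime_primes Nat.prime_two hr').2 hr.symm) ?_ ?_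
    · have := Subgroup.orderOf_dvd_natCard
        (H ⊓ Subgroup.normalizer ((P' : Subgroup G) : Set G)) (x := (w : G)) ⟨w.2, hwN⟩
      rwa [Subgroup.orderOf_coe, hwo] at this
    · have := Subgroup.orderOf_dvd_natCard
        (H ⊓ Subgroup.normalizer ((P' : Subgroup G) : Set G)) (x := (x : G)) ⟨x.2, hxN⟩
      rwa [Subgroup.orderOf_coe, hx] at this
  have hNH : Subgroup.normalizer ((P' : Subgroup G) : Set G) ≤ H := by
    have := Subgroup.eq_of_le_of_card_ge
      (inf_le_right : H ⊓ Subgroup.normalizer ((P' : Subgroup G) : Set G) ≤ _)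
      (hcN ▸ Nat.le_of_dvd Nat.card_pos hd)
    rw [← this]
    exact inf_le_left
  have hle : M ≤ H.map (MulAut.conj g⁻¹).toMonoidHom := by
    intro m hm
    refine ⟨g * m * g⁻¹, hNH ?_, by simp [mul_assoc]⟩
    rw [← hg, Sylow.smul_def]
    rw [← hPN] at hm
    rw [Subgroup.mem_normalizer_iff] at hm ⊢
    intro z
    show z ∈ (MulAut.conj g • (P : Subgroup G)) ↔ _ ∈ (MulAut.conj g • (P : Subgroup G))
    rw [Subgroup.mem_pointwise_smul_iff_inv_smul_mem, Subgroup.mem_pointwise_smul_iff_inv_smul_mem]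
    have e1 := hm ((MulAut.conj g)⁻¹ • z)
    simp only [MulAut.smul_def, MulAut.conj_inv_apply] at e1 ⊢
    rw [show g⁻¹ * (g * m * g⁻¹ * z * (g * m * g⁻¹)⁻¹) * g = m * (g⁻¹ * z * g) * m⁻¹ by group]
    exact e1
  have hc : Nat.card (H.map (MulAut.conj g⁻¹).toMonoidHom) = Nat.card H :=
    Subgroup.card_map_of_injective (MulAut.conj g⁻¹).injective
  rcases eq_or_lt_of_le hle with he | hlt'
  · rw [he, hc] at hcM
    omega
  · rw [hM.2 _ hlt', Subgroup.card_top] at hc
    omega

end CfsgLib.Dickson.MaxSub
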