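import Cfsg.Agent.Dickson.Moebius
import Mathlib.GroupTheory.GroupAction.Quotient
import Mathlib.GroupTheory.GroupAction.SubMulAction
import Mathlib.GroupTheory.PGroup

set_option autoImplicit false

/-!
Orbit counting for a finite subgroup of `PGL₂(K)` on the projective line, `K` algebraically closed.
-/

namespace CfsgLib.Dickson

open OnePoint MulAction

variable {K : Type*} [Field K] [DecidableEq K]

/-- The stabiliser of `x` in `H`. -/
def stab (H : Subgroup (PGL2 K)) (x : OnePoint K) : Subgroup (PGL2 K) :=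
  H ⊓ MulAction.stabilizer (PGL2 K) x

theorem mem_stab {H : Subgroup (PGL2 K)} {x : OnePoint K} {g : PGL2 K} :
    g ∈ stab H x ↔ g ∈ H ∧ g • x = x := Iff.rfl

theorem stab_le (H : Subgroup (PGL2 K)) (x : OnePoint K) : stab H x ≤ H := inf_le_left

/-- The `H`-orbit of `x`, as a set. -/
def orb (H : Subgroup (PGL2 K)) (x : OnePoint K) : Set (OnePoint K) :=
  MulAction.orbit H x

theorem mem_orb {H : Subgroup (PGL2 K)} {x y : OnePoint K} :
    y ∈ orb H x ↔ ∃ h ∈ H, h • x = y :=
  ⟨fun ⟨h, hh⟩ => ⟨h.1, h.2, hh⟩, fun ⟨h, hH, hh⟩ => ⟨⟨h, hH⟩, hh⟩⟩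

theorem mem_orb_self (H : Subgroup (PGL2 K)) (x : OnePoint K) : x ∈ orb H x :=
  MulAction.mem_orbit_self x

theorem orb_eq_of_mem {H : Subgroup (PGL2 K)} {x y : OnePoint K} (h : y ∈ orb H x) :
    orb H y = orb H x := MulAction.orbit_eq_iff.2 h

theorem card_orb_mul_card_stab (H : Subgroup (PGL2 K)) (x : OnePoint K) :
    (orb H x).ncard * Nat.card (stab H x) = Nat.card H := by
  have h1 : Nat.card (stab H x) = Nat.card (MulAction.stabilizer H x) := Nat.card_congr
    { toFun := fun g => ⟨⟨g.1, g.2.1⟩, g.2.2⟩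
      invFun := fun g => ⟨g.1.1, g.1.2, g.2⟩
      left_inv := fun g => rfl
      right_inv := fun g => rfl }
  rw [h1, mul_comm, orb, ← Nat.card_coe_set_eq, Nat.card_congr (MulAction.orbitEquivQuotientStabilizer H x),
    mul_comm, ← Subgroup.card_eq_card_quotient_mul_card_subgroup]

theorem card_stab_eq_of_mem {H : Subgroup (PGL2 K)} [Finite H] {x y : OnePoint K}
    (h : y ∈ orb H x) : Nat.card (stab H y) = Nat.card (stab H x) := by
  have hy := card_orb_mul_card_stab H y
  rw [orb_eq_of_mem h, ← card_orb_mul_card_stab H x] at hy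
  refine Nat.eq_of_mul_eq_mul_left ?_ hy
  refine Set.ncard_pos ?_ |>.2 ⟨x, mem_orb_self H x⟩
  exact Set.finite_range _

/-- The points fixed by some non-identity element of `H`. -/
def special (H : Subgroup (PGL2 K)) : SubMulAction H (OnePoint K) where
  carrier := {x | ∃ h ∈ H, h ≠ 1 ∧ h • x = x}
  smul_mem' := by
    rintro g x ⟨h, hh, h1, hx⟩
    refine ⟨g.1 * h * g.1⁻¹, mul_mem (mul_mem g.2 hh) (inv_mem g.2), ?_, ?_⟩
    · rwa [Ne, mul_inv_eq_one, mul_eq_left]
    · show (g.1 * h * g.1⁻¹) • g.1 • x = g.1 • x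
      rw [mul_smul, mul_smul, inv_smul_smul, hx]

theorem mem_special {H : Subgroup (PGL2 K)} {x : OnePoint K} :
    x ∈ special H ↔ ∃ h ∈ H, h ≠ 1 ∧ h • x = x := Iff.rfl

theorem orb_subset_special {H : Subgroup (PGL2 K)} {x : OnePoint K} (hx : x ∈ special H) :
    orb H x ⊆ (special H : Set (OnePoint K)) := by
  rintro y ⟨g, rfl⟩; exact (special H).smul_mem g hx

theorem two_le_card_stab {H : Subgroup (PGL2 K)} [Finite H] {x : OnePoint K} (hx : x ∈ special H) :
    2 ≤ Nat.card (stab H x) := by
  obtain ⟨h, hh, h1, hx⟩ := hx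
  have : Finite (stab H x) := Finite.of_injective _ (Subgroup.inclusion_injective (stab_le H x))
  have : Nontrivial (stab H x) := ⟨⟨h, hh, hx⟩, 1, fun e => h1 (congrArg Subtype.val e)⟩
  exact Finite.one_lt_card

theorem special_finite (H : Subgroup (PGL2 K)) [Finite H] :
    (special H : Set (OnePoint K)).Finite := by
  refine (Set.finite_iUnion (f := fun h : {h : H // (h : PGL2 K) ≠ 1} => fix (h.1 : PGL2 K))
    fun h => fix_finite h.2).subset ?_
  rintro x ⟨h, hh, h1, hx⟩
  exact Set.mem_iUnion.2 ⟨⟨⟨h, hh⟩, h1⟩, hx⟩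

/-- The non-identity elements with exactly one fixed point. -/
def unipotents (H : Subgroup (PGL2 K)) : Set (PGL2 K) :=
  {g | g ∈ H ∧ g ≠ 1 ∧ (fix g).ncard = 1}

variable [IsAlgClosed K]

theorem ncard_fix {g : PGL2 K} (hg : g ≠ 1) : (fix g).ncard = 1 ∨ (fix g).ncard = 2 := by
  have h1 : 0 < (fix g).ncard := (Set.ncard_pos (fix_finite hg)).2 (fix_nonempty g)
  have h2 : (fix g).ncard ≤ 2 := by
    have := encard_fix_le_two hg
    rw [← (fix_finite hg).cast_ncard_eq] at this
    exact_mod_cast this
  omega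

theorem counting (H : Subgroup (PGL2 K)) [Finite H] :
    ∃ T : Finset (OnePoint K), (∀ t ∈ T, t ∈ special H) ∧
      (∀ x ∈ special H, ∃ t ∈ T, x ∈ orb H t) ∧
      (∀ s ∈ T, ∀ t ∈ T, s ∈ orb H t → s = t) ∧
      T.card * Nat.card H + (unipotents H).ncard + 2 =
        ∑ t ∈ T, (orb H t).ncard + 2 * Nat.card H := by
  classical
  let Pts := ↥(special H)
  have : Finite Pts := (special_finite H).to_subtype
  let _ := Fintype.ofFinite Pts
  let _ := Fintype.ofFinite H
  let Q := MulAction.orbitRel.Quotient H Pts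
  have : Finite Q := Quotient.finite _
  let _ := Fintype.ofFinite Q
  have hout : ∀ o : Q, o.orbit = MulAction.orbit H o.out := fun o =>
    MulAction.orbitRel.Quotient.orbit_eq_orbit_out o Quotient.out_eq'
  have horb : ∀ x : Pts, (orb H (x : OnePoint K)).ncard = Nat.card (MulAction.orbit H x) := by
    intro x
    rw [orb, ← SubMulAction.val_image_orbit, Set.ncard_image_of_injective _ Subtype.val_injective,
      Nat.card_coe_set_eq]
  have hinj : Function.Injective fun o : Q => ((o.out : Pts) : OnePoint K) := fun a b h =>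
    Quotient.out_injective (Subtype.ext h)
  refine ⟨Finset.univ.image fun o : Q => ((o.out : Pts) : OnePoint K), ?_, ?_, ?_, ?_⟩
  · simp
  · intro x hx
    let o : Q := Quotient.mk'' ⟨x, hx⟩
    refine ⟨_, Finset.mem_image.2 ⟨o, Finset.mem_univ _, rfl⟩, ?_⟩
    have : (⟨x, hx⟩ : Pts) ∈ MulAction.orbit H o.out := by
      rw [← hout, MulAction.orbitRel.Quotient.mem_orbit]
    obtain ⟨g, hg⟩ := this
    exact ⟨g, congrArg Subtype.val hg⟩
  · intro s hs t ht hst
    obtain ⟨a, -, rfl⟩ := Finset.mem_image.1 hs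
    obtain ⟨b, -, rfl⟩ := Finset.mem_image.1 ht
    obtain ⟨g, hg⟩ := hst
    have : a.out ∈ MulAction.orbit H b.out := ⟨g, Subtype.ext hg⟩
    rw [← hout, MulAction.orbitRel.Quotient.mem_orbit, Quotient.out_eq'] at this
    rw [this]
  · rw [Finset.card_image_of_injective _ hinj, Finset.sum_image (fun a _ b _ h => hinj h),
      Finset.card_univ]
    have hsum : ∑ o : Q, (orb H ((o.out : Pts) : OnePoint K)).ncard = Nat.card Pts := by
      rw [Nat.card_congr (MulAction.selfEquivSigmaOrbits H Pts), Nat.card_sigma]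
      exact Finset.sum_congr rfl fun o _ => horb _
    rw [hsum, Nat.card_eq_fintype_card (α := H)]
    have hB := MulAction.sum_card_fixedBy_eq_card_orbits_mul_card_group H Pts
    rw [← hB]
    have hfix : ∀ h : H, h ≠ 1 → Fintype.card (MulAction.fixedBy Pts h) = (fix (h : PGL2 K)).ncard := by
      intro h h1
      rw [← Nat.card_eq_fintype_card, ← Nat.card_coe_set_eq]
      exact Nat.card_congr
        { toFun := fun x => ⟨x.1.1, congrArg Subtype.val (MulAction.mem_fixedBy.1 x.2)⟩
          invFun := fun y => ⟨⟨y.1, h.1, h.2, fun e => h1 (Subtype.ext e), y.2⟩, Subtype.ext y.2⟩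
          left_inv := fun x => rfl
          right_inv := fun y => rfl }
    have hU : (unipotents H).ncard =
        ∑ h ∈ (Finset.univ : Finset H).erase 1, (if (fix (h : PGL2 K)).ncard = 1 then 1 else 0) := by
      rw [Finset.sum_boole, Nat.cast_id, show unipotents H = Subtype.val ''
        ((((Finset.univ : Finset H).erase 1).filter fun h => (fix (h : PGL2 K)).ncard = 1 : Finset H) : Set H)
        from ?_, Set.ncard_image_of_injective _ Subtype.val_injective, Set.ncard_coe_finset]
      ext g
      simp [unipotents, and_comm, and_left_comm]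
    have h1 : Fintype.card (MulAction.fixedBy Pts (1 : H)) = Nat.card Pts := by
      rw [← Nat.card_eq_fintype_card]
      exact Nat.card_congr
        { toFun := fun x => x.1
          invFun := fun x => ⟨x, one_smul _ _⟩
          left_inv := fun x => rfl
          right_inv := fun x => rfl }
    rw [← Finset.add_sum_erase _ _ (Finset.mem_univ (1 : H)), h1, hU]
    have hterm : ∀ h ∈ (Finset.univ : Finset H).erase 1, Fintype.card (MulAction.fixedBy Pts h) +
        (if (fix (h : PGL2 K)).ncard = 1 then 1 else 0) = 2 := by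
      intro h hh
      have h1 : h ≠ 1 := (Finset.mem_erase.1 hh).1
      rw [hfix h h1]
      rcases ncard_fix (g := (h : PGL2 K)) (fun e => h1 (Subtype.ext e)) with e | e <;> rw [e] <;> simp
    have := Finset.sum_congr rfl hterm
    rw [Finset.sum_add_distrib, Finset.sum_const, Finset.card_erase_of_mem (Finset.mem_univ _),
      Finset.card_univ, smul_eq_mul] at this
    have := Fintype.card_pos (α := H)
    omega

end CfsgLib.Dickson
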