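import Cfsg.Agent.Classical.PSLTwoTorus
import Cfsg.Agent.Classical.SmallSubPSL
import Mathlib.NumberTheory.LegendreSymbol.QuadraticChar.GaussSum

/-!
Overgroups in `PSL₂(q)` of the subgroups `A₄`, `S₄`, `A₅`, `PSL₂(q₀)` and `PGL₂(q₀)`.
-/

set_option autoImplicit false
set_option linter.unusedSectionVars false

namespace CfsgLib.Dickson.Over

open CfsgLib.Linear.PSLTwo OnePoint

/-! ### Abstract facts -/

theorem isCoatom_of_card_le {G : Type*} [Group G] [Finite G] (H : Subgroup G) (hH : H ≠ ⊤)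
    (h : ∀ N : Subgroup G, H ≤ N → N ≠ ⊤ → Nat.card N ≤ Nat.card H) : IsCoatom H :=
  ⟨hH, fun N hN => by_contra fun hT =>
    hN.ne (Subgroup.eq_of_le_of_card_ge hN.le (h N hN.le hT))⟩

theorem ne_top_of_card_lt {G : Type*} [Group G] [Finite G] {H : Subgroup G}
    (h : Nat.card H < Nat.card G) : H ≠ ⊤ := by
  rintro rfl
  rw [Subgroup.card_top] at h
  omega

/-- A homomorphism from an alternating group to a group of exponent two is trivial. -/
theorem hom_two_eq_one {n : ℕ} {M : Type*} [Group M] (hM : ∀ m : M, m * m = 1)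
    (f : alternatingGroup (Fin n) →* M) : f = 1 := by
  apply MonoidHom.ext
  rintro ⟨a, ha⟩
  rw [← Equiv.Perm.closure_three_cycles_eq_alternating] at ha
  suffices ∀ h : a ∈ alternatingGroup (Fin n), f ⟨a, h⟩ = 1 from this _
  induction ha using Subgroup.closure_induction with
  | mem x hx =>
    intro h
    have h3 : (⟨x, h⟩ : alternatingGroup (Fin n)) ^ 3 = 1 := by
      apply Subtype.ext
      show x ^ 3 = 1
      rw [← (hx : x.IsThreeCycle).orderOf, pow_orderOf_eq_one]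
    have := congrArg f h3
    rwa [map_pow, map_one, pow_succ, pow_two, hM, one_mul] at this
  | one => intro h; exact map_one f
  | mul x y hx hy ihx ihy =>
    intro h
    rw [Equiv.Perm.closure_three_cycles_eq_alternating] at hx hy
    show f (⟨x, hx⟩ * ⟨y, hy⟩) = 1
    rw [map_mul, ihx hx, ihy hy, one_mul]
  | inv x hx ihx =>
    intro h
    rw [Equiv.Perm.closure_three_cycles_eq_alternating] at hx
    show f (⟨x, hx⟩)⁻¹ = 1
    rw [map_inv, ihx hx, inv_one]

theorem altFour_not_comm : ¬ ∀ a b : alternatingGroup (Fin 4), a * b = b * a := by decide +kernel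

/-- `A₄` is not a subgroup of a dihedral group. -/
theorem altFour_not_dihedral {n : ℕ} (f : alternatingGroup (Fin 4) →* DihedralGroup n) :
    ¬ Function.Injective f := by
  intro hf
  let s : DihedralGroup n →* Multiplicative (ZMod 2) :=
    { toFun := fun
        | .r _ => 1
        | .sr _ => Multiplicative.ofAdd 1
      map_one' := rfl
      map_mul' := by rintro (i | i) (j | j) <;> first
        | rfl
        | exact (by decide : (1 : Multiplicative (ZMod 2)) =
            Multiplicative.ofAdd 1 * Multiplicative.ofAdd 1) }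
  have hrot : ∀ a, ∃ i, f a = .r i := by
    intro a
    have h : s (f a) = 1 := by
      have := DFunLike.congr_fun (hom_two_eq_one (by decide) (s.comp f)) a
      exact this
    rcases hfa : f a with i | i
    · exact ⟨i, rfl⟩
    · rw [hfa] at h
      exact absurd (show Multiplicative.ofAdd (1 : ZMod 2) = 1 from h) (by decide)
  refine altFour_not_comm fun a b => hf ?_
  obtain ⟨i, hi⟩ := hrot a
  obtain ⟨j, hj⟩ := hrot b
  rw [map_mul, map_mul, hi, hj, DihedralGroup.r_mul_r, DihedralGroup.r_mul_r, add_comm]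

theorem exists_altFour_symFour :
    ∃ f : alternatingGroup (Fin 4) →* Equiv.Perm (Fin 4), Function.Injective f :=
  ⟨(alternatingGroup (Fin 4)).subtype, Subtype.val_injective⟩

theorem altFive_not_solvable : ¬ Group.IsSolvable (alternatingGroup (Fin 5)) := by
  intro h
  exact (by decide +kernel : ¬ ∀ a b : alternatingGroup (Fin 5), a * b = b * a)
    (IsSimpleGroup.comm_iff_isSolvable.2 h)

theorem exists_orderOf_four {G : Type*} [Group G] (N : Subgroup G)
    (e : N ≃* Equiv.Perm (Fin 4)) : ∃ g ∈ N, orderOf g = 4 := by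
  refine ⟨_, (e.symm CfsgLib.Linear.SmallSub.s4y).2, ?_⟩
  rw [Subgroup.orderOf_coe, MulEquiv.orderOf_eq]
  exact orderOf_eq_prime_pow (p := 2) (n := 1) (by decide +kernel) (by decide +kernel)

/-! ### In `PSL₂` -/

variable {F : Type*} [Field F] [Finite F] (p : ℕ) [Fact p.Prime] [CharP F p]

/-- A `p'`-group fixing a point is abelian. -/
theorem comm_of_fix [DecidableEq F] (H : Subgroup (PGL2 F)) {w : OnePoint F}
    (hH : ∀ g ∈ H, g • w = w) (hp : ¬ p ∣ Nat.card H) :
    ∀ a ∈ H, ∀ b ∈ H, a * b = b * a := by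
  intro a ha b hb
  obtain ⟨k, hk⟩ := exists_smul_eq_infty w
  have hfix : ∀ x ∈ H, ∃ u c, MulAut.conj k x = aff u c := fun x hx => eq_aff_of_fix_infty (by
    show (k * x * k⁻¹) • _ = _
    rw [← hk, mul_smul, mul_smul, inv_smul_smul, hH x hx])
  obtain ⟨u, x, hu⟩ := hfix a ha
  obtain ⟨v, y, hv⟩ := hfix b hb
  obtain ⟨c, hcH, hcab⟩ : ∃ c ∈ H, c * (b * a) = a * b :=
    ⟨a * b * (b * a)⁻¹, mul_mem (mul_mem ha hb) (inv_mem (mul_mem hb ha)), by group⟩
  obtain ⟨s, z, hs⟩ := hfix c hcH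
  have h := congrArg (MulAut.conj k) hcab
  rw [map_mul, map_mul, map_mul, hu, hv, hs, aff_mul, aff_mul, aff_mul] at h
  have hs1 : s = 1 := by
    have := (aff_inj h).1
    rw [mul_comm v u] at this
    exact mul_eq_right.1 this
  have hcp : c ^ p = 1 := by
    apply (MulAut.conj k).injective
    rw [map_pow, hs, hs1, aff_one_pow, map_one, aff_eq_one]
    simp
  have hc1 : c = 1 := by
    rcases (Nat.dvd_prime (Fact.out : p.Prime)).1 (orderOf_dvd_of_pow_eq_one hcp) with h1 | h1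
    · exact orderOf_eq_one_iff.1 h1
    · exfalso
      apply hp
      have := orderOf_dvd_natCard (⟨c, hcH⟩ : H)
      rwa [Subgroup.orderOf_mk, h1] at this
  rw [← hcab, hc1, one_mul]

/-- A group below a Sylow normaliser fixes a point. -/
theorem exists_fix_of_le_normalizer [DecidableEq F] (P : Sylow p (PSL2 F)) {H : Subgroup (PSL2 F)}
    (h : H ≤ Subgroup.normalizer ((P : Subgroup (PSL2 F)) : Set (PSL2 F))) :
    ∃ w : OnePoint F, ∀ g ∈ H, Matrix.ProjectiveSpecialLinearGroup.toPGL g • w = w := by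
  obtain ⟨w, hw⟩ := normalizer_eq_stabilizer p P
  refine ⟨w, fun g hg => ?_⟩
  have := h hg
  rwa [hw] at this

theorem solvable_of_le_normalizer (P : Sylow p (PSL2 F)) {H : Subgroup (PSL2 F)}
    (h : H ≤ Subgroup.normalizer ((P : Subgroup (PSL2 F)) : Set (PSL2 F))) :
    Group.IsSolvable H := by
  classical
  obtain ⟨w, hw⟩ := exists_fix_of_le_normalizer p P h
  exact stabilizer_solvable w H hw

theorem solvable_of_le {H N : Subgroup (PSL2 F)} (h : H ≤ N) (hN : Group.IsSolvable N) :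
    Group.IsSolvable H :=
  Group.isSolvable_of_isSolvable_injective (f := Subgroup.inclusion h)
    (Subgroup.inclusion_injective h)

theorem solvable_of_equiv {G M : Type*} [Group G] [Group M] (e : G ≃* M)
    (h : Group.IsSolvable M) : Group.IsSolvable G :=
  Group.isSolvable_of_isSolvable_injective (f := e.toMonoidHom) e.injective

/-- The proper overgroups of an `A₄` in characteristic at least five. -/
theorem card_over_altFour (hp : 5 ≤ p) (f : alternatingGroup (Fin 4) →* PSL2 F)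
    (hf : Function.Injective f) (N : Subgroup (PSL2 F)) (hN : N ≠ ⊤) (hle : f.range ≤ N) :
    Nat.card N = 12 ∨ (Nat.card N = 24 ∧ ∃ g ∈ N, orderOf g = 4) ∨ Nat.card N = 60 ∨
      (∃ f m, 1 ≤ f ∧ 2 ≤ m ∧ Nat.card F = (p ^ f) ^ m) := by
  classical
  let g : alternatingGroup (Fin 4) →* N := f.codRestrict N fun a => hle ⟨a, rfl⟩
  have hg : Function.Injective g := fun a b h => hf (congrArg Subtype.val h)
  rcases proper_cases p N hN with ⟨P, -, hP⟩ | ⟨hc, -, -⟩ | ⟨n, -, -, -, -, ⟨e⟩⟩ | ⟨-, hc, -⟩ |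
    ⟨-, hc, ⟨e⟩⟩ | ⟨-, -, hc, -⟩ | ⟨a, m, ha, hm, hq, -⟩
  · exfalso
    obtain ⟨w, hw⟩ := exists_fix_of_le_normalizer p P (hle.trans hP)
    let ι : PSL2 F →* PGL2 F := Matrix.ProjectiveSpecialLinearGroup.toPGL
    have hι : Function.Injective (ι.comp f) :=
      Matrix.ProjectiveSpecialLinearGroup.toPGL_injective.comp hf
    have hcard : Nat.card ((f.range).map ι) = 12 := by
      rw [← MonoidHom.range_comp, ← Nat.card_congr (MonoidHom.ofInjective hι).toEquiv,
        nat_card_alternatingGroup, Nat.card_fin]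
      rfl
    have hcomm := comm_of_fix p ((f.range).map ι) (w := w)
      (by rintro _ ⟨x, hx, rfl⟩; exact hw x hx) (by
        rw [hcard]
        intro h
        have := Nat.le_of_dvd (by norm_num) h
        interval_cases p <;> first | omega | exact absurd (Fact.out : Nat.Prime _) (by norm_num) | exact (by norm_num : ¬ Nat.Prime 6) Fact.out | exact (by norm_num : ¬ Nat.Prime 12) Fact.out)
    exact altFour_not_comm fun a b => hι (by
      rw [map_mul, map_mul]
      exact hcomm _ ⟨f a, ⟨a, rfl⟩, rfl⟩ _ ⟨f b, ⟨b, rfl⟩, rfl⟩)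
  · exfalso
    exact altFour_not_comm fun a b => hg (by rw [map_mul, map_mul, mul_comm'])
  · exfalso
    exact altFour_not_dihedral (e.toMonoidHom.comp g) (e.injective.comp hg)
  · exact Or.inl hc
  · exact Or.inr (Or.inl ⟨hc, exists_orderOf_four N e⟩)
  · exact Or.inr (Or.inr (Or.inl hc))
  · exact Or.inr (Or.inr (Or.inr ⟨a, m, ha, hm, hq⟩))

omit [Fact p.Prime] [CharP F p] in
theorem two_mul_card (h : Odd (Nat.card F)) :
    2 * Nat.card (PSL2 F) = Nat.card F * (Nat.card F ^ 2 - 1) :=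
  two_mul_card_psl F h

omit [Fact p.Prime] [CharP F p] in
theorem sixty_le (h : Odd (Nat.card F)) (h5 : 5 ≤ Nat.card F) : 60 ≤ Nat.card (PSL2 F) := by
  have h1 := two_mul_card (F := F) h
  have h2 : 24 ≤ Nat.card F ^ 2 - 1 := by
    have := Nat.pow_le_pow_left h5 2
    omega
  have := Nat.mul_le_mul h5 h2
  omega

theorem one_eq_of_card (hq : Nat.card F = p) {f m : ℕ} (hf : 1 ≤ f) (hm : 2 ≤ m) :
    Nat.card F ≠ (p ^ f) ^ m := by
  rw [hq, ← pow_mul]
  intro h
  have h1 : f * m = 1 := Nat.pow_right_injective (Fact.out : p.Prime).two_le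
    (show p ^ (f * m) = p ^ 1 by rw [pow_one]; exact h.symm)
  have := Nat.le_mul_of_pos_left m hf
  omega

/-- An element of order four forces `q ≡ ±1 (mod 8)`. -/
theorem mod_eight_of_orderOf_four (hq : Nat.card F = p) (hp : 5 ≤ p) {g : PSL2 F}
    (hg : orderOf g = 4) : p % 8 = 1 ∨ p % 8 = 7 := by
  cases nonempty_fintype F
  have h2 : p % 2 = 1 :=
    Nat.odd_iff.1 ((Fact.out : p.Prime).odd_of_ne_two (by omega))
  have h := CfsgLib.PSL2Spec.orderOf_dvd p g
  rw [hg, ← Nat.card_eq_fintype_card, hq,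
    show Nat.gcd 2 (p - 1) = 2 from Nat.gcd_eq_left (by omega)] at h
  rcases h with h | h | h
  · have := (Nat.prime_dvd_prime_iff_eq Nat.prime_two Fact.out).1 ((by norm_num : 2 ∣ 4).trans h)
    omega
  · omega
  · omega

/-- `A₄` is maximal in `PSL₂(p)` for the primes `p ≡ ±3 (mod 8)`, `p ≢ ±1 (mod 10)`. -/
theorem altFour_coatom (hq : Nat.card F = p) (hp : 5 ≤ p) (h8 : p % 8 = 3 ∨ p % 8 = 5)
    (h10 : p % 10 ≠ 1 ∧ p % 10 ≠ 9) (H : Subgroup (PSL2 F))
    (e : H ≃* alternatingGroup (Fin 4)) : IsCoatom H := by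
  have hodd : Odd (Nat.card F) := by
    rw [hq]; exact (Fact.out : p.Prime).odd_of_ne_two (by omega)
  have hcH : Nat.card H = 12 := by
    rw [Nat.card_congr e.toEquiv, nat_card_alternatingGroup, Nat.card_fin]; rfl
  have h60 := sixty_le (F := F) hodd (by omega)
  refine isCoatom_of_card_le H (ne_top_of_card_lt (by omega)) fun N hle hN => ?_
  rcases card_over_altFour p hp (H.subtype.comp e.symm.toMonoidHom)
    (H.subtype_injective.comp e.symm.injective) N hN
    (fun x ⟨a, ha⟩ => ha ▸ hle (e.symm a).2) with h | ⟨-, g, -, hg⟩ | h | ⟨f, m, hf, hm, h⟩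
  · omega
  · exfalso
    have := mod_eight_of_orderOf_four p hq hp hg
    omega
  · exfalso
    have hlt : Nat.card N < Nat.card (PSL2 F) := by
      by_contra hcon
      exact hN (Subgroup.eq_top_of_le_card N (by omega))
    have h5 : p ≠ 5 := by
      intro h5
      have h1 := two_mul_card (F := F) hodd
      rw [hq, h5] at h1
      norm_num at h1
      omega
    have hd := N.card_subgroup_dvd_card
    rw [h] at hd
    have : 5 ∣ p * ((p - 1) * (p + 1)) := by
      rw [← sq_sub_one, ← hq, ← two_mul_card hodd]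
      exact Dvd.dvd.mul_left ((by norm_num : 5 ∣ 60).trans hd) 2
    rcases (Nat.Prime.dvd_mul (by norm_num)).1 this with h | h
    · exact h5 ((Nat.prime_dvd_prime_iff_eq (by norm_num) Fact.out).1 h).symm
    · rcases (Nat.Prime.dvd_mul (by norm_num)).1 h with h | h <;>
        (obtain ⟨k, hk⟩ := hodd; omega)
  · exact absurd h (one_eq_of_card p hq hf hm)

/-- `S₄` is maximal in `PSL₂(p)`. -/
theorem symFour_coatom (hq : Nat.card F = p) (hp : 5 ≤ p) (H : Subgroup (PSL2 F))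
    (e : H ≃* Equiv.Perm (Fin 4)) : IsCoatom H := by
  have hodd : Odd (Nat.card F) := by
    rw [hq]; exact (Fact.out : p.Prime).odd_of_ne_two (by omega)
  have hcH : Nat.card H = 24 := by
    rw [Nat.card_congr e.toEquiv, Nat.card_perm, Nat.card_fin]; rfl
  have h60 := sixty_le (F := F) hodd (by omega)
  refine isCoatom_of_card_le H (ne_top_of_card_lt (by omega)) fun N hle hN => ?_
  obtain ⟨j, hj⟩ := exists_altFour_symFour
  rcases card_over_altFour p hp (H.subtype.comp (e.symm.toMonoidHom.comp j))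
    (H.subtype_injective.comp (e.symm.injective.comp hj)) N hN
    (fun x ⟨a, ha⟩ => ha ▸ hle (e.symm (j a)).2) with h | ⟨h, -⟩ | h | ⟨f, m, hf, hm, h⟩
  · omega
  · omega
  · exfalso
    have := Subgroup.card_dvd_of_le hle
    rw [hcH, h] at this
    norm_num at this
  · exact absurd h (one_eq_of_card p hq hf hm)

/-- `A₅` is maximal in `PSL₂(p)`, and in `PSL₂(p²)` for `p ≡ ±3 (mod 10)`. -/
theorem altFive_coatom (hq : Nat.card F = p ∨ (Nat.card F = p ^ 2 ∧ (p % 10 = 3 ∨ p % 10 = 7)))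
    (hlt : 60 < Nat.card (PSL2 F)) (H : Subgroup (PSL2 F))
    (e : H ≃* alternatingGroup (Fin 5)) : IsCoatom H := by
  have hcH : Nat.card H = 60 := by
    rw [Nat.card_congr e.toEquiv, nat_card_alternatingGroup, Nat.card_fin]; rfl
  refine isCoatom_of_card_le H (ne_top_of_card_lt (by omega)) fun N hle hN => ?_
  have hns : ¬ Group.IsSolvable N := fun h =>
    altFive_not_solvable (solvable_of_equiv e.symm (solvable_of_le hle h))
  have hd := Subgroup.card_dvd_of_le hle
  rw [hcH] at hd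
  rcases proper_cases p N hN with ⟨P, -, hP⟩ | ⟨hc, -, -⟩ | ⟨n, -, -, -, -, ⟨d⟩⟩ | ⟨-, hc, -⟩ |
    ⟨-, hc, -⟩ | ⟨-, -, hc, -⟩ | ⟨f, m, hf, hm, hqf, hc⟩
  · exact absurd (solvable_of_le_normalizer p P hP) hns
  · exact absurd (Group.isSolvable_of_comm fun a b => mul_comm' a b) hns
  · exact absurd (solvable_of_equiv d (dihedral_solvable n)) hns
  · omega
  · omega
  · omega
  · exfalso
    rcases hq with hq | ⟨hq, h10⟩
    · exact one_eq_of_card p hq hf hm hqf
    have hfm : f * m = 2 := Nat.pow_right_injective (Fact.out : p.Prime).two_le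
      (show p ^ (f * m) = p ^ 2 by rw [pow_mul, ← hqf, hq])
    have hf1 : f = 1 := by
      have := Nat.le_mul_of_pos_left m hf
      have hm2 : m = 2 := by omega
      subst hm2
      omega
    subst hf1
    rw [pow_one, sq_sub_one] at hc
    have h5 : 5 ∣ p * ((p - 1) * (p + 1)) := by
      rcases hc with ⟨hc, -⟩ | ⟨-, hc, -⟩ <;> rw [← hc]
      · exact (by norm_num : 5 ∣ 60).trans hd
      · exact Dvd.dvd.mul_left ((by norm_num : 5 ∣ 60).trans hd) 2
    rcases (Nat.Prime.dvd_mul (by norm_num)).1 h5 with h | h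
    · omega
    · rcases (Nat.Prime.dvd_mul (by norm_num)).1 h with h | h <;> omega

/-! ### Subfield groups -/

theorem pow_odd_not_dvd {x r : ℕ} (hx : Odd x) (hx1 : 1 < x) (hr : Odd r) :
    ¬ 2 * (x - 1) ∣ x ^ r - 1 := by
  intro h
  obtain ⟨j, rfl⟩ := hr
  have h1 : 2 * (x - 1) ∣ (x ^ 2) ^ j - 1 := by
    refine Dvd.dvd.trans ?_ (Nat.sub_one_dvd_pow_sub_one (x ^ 2) j)
    rw [sq_sub_one, mul_comm]
    exact mul_dvd_mul_left _ (by obtain ⟨k, hk⟩ := hx; exact ⟨k + 1, by omega⟩)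
  have h2 : x ^ (2 * j + 1) - 1 = x * ((x ^ 2) ^ j - 1) + (x - 1) := by
    have : 1 ≤ (x ^ 2) ^ j := Nat.one_le_pow _ _ (pow_pos (by omega) 2)
    rw [Nat.mul_sub, pow_succ, pow_mul, mul_comm x, mul_one]
    have := Nat.le_mul_of_pos_left x (show 0 < (x ^ 2) ^ j by omega)
    omega
  rw [h2, Nat.dvd_add_right (h1.mul_left x)] at h
  have := Nat.le_of_dvd (by omega) h
  omega

theorem exponent_eq {a f m r : ℕ} (ha : 1 ≤ a) (hm : 2 ≤ m) (hr : r.Prime) (hfm : f * m = a * r)
    (hd : p ^ a * ((p ^ a) ^ 2 - 1) ∣ 2 * (p ^ f * ((p ^ f) ^ 2 - 1))) : f = a := by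
  have hp : p.Prime := Fact.out
  have hq : 2 ≤ p ^ a := hp.two_le.trans (Nat.le_self_pow (by omega) p)
  have h1 : (p ^ a) ^ 2 - 1 ∣ 2 * ((p ^ f) ^ 2 - 1) := by
    have hco : Nat.Coprime ((p ^ a) ^ 2 - 1) (p ^ f) := by
      refine Nat.Coprime.pow_right _ ((hp.coprime_iff_not_dvd.2 fun h => ?_).symm)
      have h' : p ∣ (p ^ a) ^ 2 := (dvd_pow_self p (by omega)).trans (dvd_pow_self _ two_ne_zero)
      have h2 := Nat.dvd_sub h' h
      have : 1 ≤ (p ^ a) ^ 2 := Nat.one_le_pow _ _ (by omega)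
      rw [show (p ^ a) ^ 2 - ((p ^ a) ^ 2 - 1) = 1 by omega] at h2
      exact hp.not_dvd_one h2
    refine hco.dvd_of_dvd_mul_left ?_
    rw [mul_left_comm]
    exact (dvd_mul_left _ _).trans hd
  set g := Nat.gcd a f with hg
  have h2 : (p ^ a) ^ 2 - 1 ∣ 2 * ((p ^ g) ^ 2 - 1) := by
    have := Nat.dvd_gcd (dvd_mul_left ((p ^ a) ^ 2 - 1) 2) h1
    rwa [Nat.gcd_mul_left, ← pow_mul, ← pow_mul, Nat.pow_sub_one_gcd_pow_sub_one,
      Nat.gcd_mul_right, ← hg, pow_mul, pow_mul] at this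
  have hga : g = a := by
    by_contra hne
    obtain ⟨k, hk⟩ := Nat.gcd_dvd_left a f
    rw [← hg] at hk
    have h2g : g * 2 ≤ a := by
      match k, hk with
      | 0, hk => omega
      | 1, hk => omega
      | k + 2, hk => rw [hk]; exact Nat.mul_le_mul_left g (by omega)
    have hgpos : 0 < g := Nat.gcd_pos_of_pos_left _ ha
    have hpos : 0 < 2 * ((p ^ g) ^ 2 - 1) := by
      have : 2 ≤ (p ^ g) ^ 2 :=
        (hp.two_le.trans (Nat.le_self_pow (by omega) p)).trans (Nat.le_self_pow two_ne_zero _)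
      omega
    have h3 := Nat.le_of_dvd hpos h2
    rw [← pow_mul p g 2, sq_sub_one] at h3
    have h4 : p ^ (g * 2) ≤ p ^ a := Nat.pow_le_pow_right hp.pos h2g
    have h5 := Nat.mul_le_mul (le_refl (p ^ a - 1)) (show 3 ≤ p ^ a + 1 by omega)
    omega
  obtain ⟨j, rfl⟩ := hga ▸ hg ▸ Nat.gcd_dvd_right a f
  rw [mul_assoc] at hfm
  have hjm : j * m = r := Nat.eq_of_mul_eq_mul_left (by omega) hfm
  rcases (Nat.dvd_prime hr).1 ⟨m, hjm.symm⟩ with rfl | rfl
  · exact mul_one a
  · exfalso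
    have h1 : m = 1 := Nat.eq_of_mul_eq_mul_left hr.pos (by rw [hjm, mul_one])
    omega

theorem two_mul_lt {a r : ℕ} (ha : 1 ≤ a) (hr : 2 ≤ r) (hF : Nat.card F = (p ^ a) ^ r) :
    2 * (p ^ a * ((p ^ a) ^ 2 - 1)) < 2 * Nat.card (PSL2 F) ∧
      (3 ≤ p → 2 * (p ^ a * ((p ^ a) ^ 2 - 1)) < Nat.card (PSL2 F)) := by
  have hp : p.Prime := Fact.out
  have hq : p ≤ p ^ a := Nat.le_self_pow (by omega) p
  have hQ : (p ^ a) ^ 2 ≤ Nat.card F := hF ▸ Nat.pow_le_pow_right (pow_pos hp.pos a) hr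
  have h := mul_card (F := F)
  have h' : ((p ^ a) ^ 2) * (((p ^ a) ^ 2) ^ 2 - 1) ≤ Nat.card F * (Nat.card F ^ 2 - 1) :=
    Nat.mul_le_mul hQ (Nat.sub_le_sub_right (Nat.pow_le_pow_left hQ 2) 1)
  rw [← h, sq_sub_one ((p ^ a) ^ 2)] at h'
  set q := p ^ a with hqdef
  have hd : Nat.gcd 2 (Nat.card F - 1) * Nat.card (PSL2 F) ≤ 2 * Nat.card (PSL2 F) :=
    Nat.mul_le_mul_right _ (Nat.le_of_dvd two_pos (Nat.gcd_dvd_left _ _))
  have e : q ^ 2 * ((q ^ 2 - 1) * (q ^ 2 + 1)) = q * (q ^ 2 - 1) * (q * (q ^ 2 + 1)) := by ring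
  rw [e] at h'
  have hq2 : 4 ≤ q ^ 2 := Nat.pow_le_pow_left (hp.two_le.trans hq) 2
  have hq1 : 2 ≤ q := hp.two_le.trans hq
  have hpos : 0 < q * (q ^ 2 - 1) := Nat.mul_pos (by omega) (by omega)
  have hb : 5 ≤ q * (q ^ 2 + 1) := (show 5 ≤ q ^ 2 + 1 by omega).trans
    (Nat.le_mul_of_pos_left _ (by omega))
  have h5 := Nat.mul_le_mul (le_refl (q * (q ^ 2 - 1))) hb
  generalize q * (q ^ 2 - 1) = A at h' hpos h5 ⊢
  generalize A * (q * (q ^ 2 + 1)) = B at h' h5
  generalize Nat.gcd 2 (Nat.card F - 1) * Nat.card (PSL2 F) = C at h' hd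
  constructor
  · omega
  · intro; omega

theorem not_dvd_card {a r : ℕ} (hp2 : p ≠ 2) (ha : 1 ≤ a) (hr : Odd r)
    (hF : Nat.card F = (p ^ a) ^ r) :
    ¬ p ^ a * ((p ^ a) ^ 2 - 1) ∣ Nat.card (PSL2 F) := by
  have hp : p.Prime := Fact.out
  have hqodd : Odd (p ^ a) := (hp.odd_of_ne_two hp2).pow
  intro h
  have h2 := mul_dvd_mul_left 2 h
  rw [two_mul_card (hF ▸ hqodd.pow), hF] at h2
  have h3 : 2 * ((p ^ a) ^ 2 - 1) ∣ (p ^ a) ^ r * (((p ^ a) ^ r) ^ 2 - 1) :=
    Dvd.dvd.trans ⟨p ^ a, by ring⟩ h2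
  have hco : Nat.Coprime (2 * ((p ^ a) ^ 2 - 1)) ((p ^ a) ^ r) := by
    refine Nat.Coprime.pow_right _ (Nat.Coprime.pow_right _ ((hp.coprime_iff_not_dvd.2 ?_).symm))
    intro hd
    rcases hp.dvd_mul.1 hd with hd | hd
    · exact hp2 ((Nat.prime_dvd_prime_iff_eq hp Nat.prime_two).1 hd)
    · have h' : p ∣ (p ^ a) ^ 2 := (dvd_pow_self p (by omega)).trans (dvd_pow_self _ two_ne_zero)
      have h4 := Nat.dvd_sub h' hd
      have : 1 ≤ (p ^ a) ^ 2 := Nat.one_le_pow _ _ (pow_pos hp.pos a)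
      rw [show (p ^ a) ^ 2 - ((p ^ a) ^ 2 - 1) = 1 by omega] at h4
      exact hp.not_dvd_one h4
  have h4 := hco.dvd_of_dvd_mul_left h3
  rw [show ((p ^ a) ^ r) ^ 2 = ((p ^ a) ^ 2) ^ r from pow_right_comm _ _ _] at h4
  exact pow_odd_not_dvd hqodd.pow
    (Nat.one_lt_pow two_ne_zero (Nat.one_lt_pow (by omega) hp.one_lt)) hr h4

/-- A subgroup of the order of `PGL₂(q₀)`, or of `PSL₂(q₀)` for an odd degree extension, is
maximal. -/
theorem subfield_coatom (a r : ℕ) (ha : 1 ≤ a) (hr : r.Prime) (hF : Nat.card F = (p ^ a) ^ r)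
    (H : Subgroup (PSL2 F)) (hsol : 4 ≤ p ^ a → ¬ Group.IsSolvable H) (h2 : p ^ a ≠ 2)
    (hcase : (Nat.card H = p ^ a * ((p ^ a) ^ 2 - 1) ∧ (p = 2 ∨ r = 2)) ∨
      (2 * Nat.card H = p ^ a * ((p ^ a) ^ 2 - 1) ∧ p ≠ 2 ∧ Odd r)) :
    IsCoatom H := by
  have hp : p.Prime := Fact.out
  set c := p ^ a * ((p ^ a) ^ 2 - 1) with hc
  have hlt := two_mul_lt p ha hr.two_le hF
  refine isCoatom_of_card_le H (ne_top_of_card_lt (by
    rcases hcase with ⟨h, -⟩ | ⟨h, -⟩ <;> omega)) fun N hle hN => ?_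
  have hdN := Subgroup.card_dvd_of_le hle
  have hpH : p ∣ 2 * Nat.card H := by
    rcases hcase with ⟨h, -⟩ | ⟨h, -⟩
    · exact h ▸ ((dvd_pow_self p (by omega)).mul_right _).mul_left _
    · exact h ▸ (dvd_pow_self p (by omega)).mul_right _
  have hpN : p ≠ 2 → p ∣ Nat.card N := fun hp2 =>
    ((hp.dvd_mul.1 hpH).resolve_left fun h =>
      hp2 ((Nat.prime_dvd_prime_iff_eq hp Nat.prime_two).1 h)).trans hdN
  have hthree : ¬ 4 ≤ p ^ a → p = 3 ∧ a = 1 := by
    intro h
    have := Nat.le_self_pow (show a ≠ 0 by omega) p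
    have h3 : p ^ a = 3 := by
      have := hp.two_le
      omega
    refine ⟨?_, ?_⟩
    · rcases (show p = 2 ∨ p = 3 by have := hp.two_le; omega) with rfl | rfl
      · have : (2 : ℕ) ∣ 2 ^ a := dvd_pow_self 2 (by omega)
        omega
      · rfl
    · by_contra ha1
      have := Nat.pow_le_pow_right hp.pos (show 2 ≤ a by omega)
      have := Nat.pow_le_pow_left hp.two_le 2
      omega
  have hns : 4 ≤ p ^ a → ¬ Group.IsSolvable N := fun h hN' => hsol h (solvable_of_le hle hN')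
  rcases proper_cases p N hN with ⟨P, -, hP⟩ | ⟨hcyc, hpn, -⟩ | ⟨n, -, hpn, -, hcn, ⟨d⟩⟩ |
    ⟨hp5, hcn, -⟩ | ⟨hp5, hcn, -⟩ | ⟨hp2, hp5, hcn, -⟩ | ⟨f, m, hf, hm, hq, hcn⟩
  · exfalso
    by_cases h4 : 4 ≤ p ^ a
    · exact hns h4 (solvable_of_le_normalizer p P hP)
    classical
    obtain ⟨rfl, rfl⟩ := hthree h4
    have hdP := hdN.trans (Subgroup.card_dvd_of_le hP)
    rw [card_normalizer 3 P, gcd_eq_two (by rw [hF]; exact (Odd.pow (by decide)).pow), hF,
      pow_one] at hdP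
    have hc24 : c = 24 := by rw [hc]; norm_num
    rcases hcase with ⟨h, h'⟩ | ⟨h, -, hro⟩
    · rcases h' with h' | rfl
      · norm_num at h'
      · rw [h, hc24] at hdP
        norm_num at hdP
    · obtain ⟨j, rfl⟩ := hro
      have h4d : 4 ∣ 3 ^ (2 * j + 1) * ((3 ^ (2 * j + 1) - 1) / 2) :=
        Dvd.dvd.trans ⟨3, by omega⟩ hdP
      have hmod : 3 ^ (2 * j + 1) % 4 = 3 := by
        rw [Nat.pow_succ, Nat.pow_mul, Nat.mul_mod, Nat.pow_mod]
        norm_num
      obtain ⟨k, hk⟩ := (Nat.Coprime.dvd_mul_left (show Nat.Coprime 4 (3 ^ (2 * j + 1)) from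
        Nat.Coprime.pow_right _ (by norm_num))).1 h4d
      clear h4d hdP
      generalize 3 ^ (2 * j + 1) = x at hk hmod
      omega
  · exfalso
    by_cases hp2 : p = 2
    · subst hp2
      exact hns (by have := hthree; omega) (Group.isSolvable_of_comm fun x y => mul_comm' x y)
    · exact hpn (hpN hp2)
  · exfalso
    by_cases hp2 : p = 2
    · subst hp2
      exact hns (by have := hthree; omega) (solvable_of_equiv d (dihedral_solvable n))
    · exact hpn ((hp.dvd_mul.1 (hcn ▸ hpN hp2)).resolve_left fun h =>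
        hp2 ((Nat.prime_dvd_prime_iff_eq hp Nat.prime_two).1 h))
  · exfalso
    have := hpN (by omega)
    rw [hcn] at this
    have := Nat.le_of_dvd (by norm_num) this
    interval_cases p <;> first | omega | exact absurd hp (by norm_num)
  · exfalso
    have := hpN (by omega)
    rw [hcn] at this
    have := Nat.le_of_dvd (by norm_num) this
    interval_cases p <;> first | omega | exact absurd hp (by norm_num)
  · exfalso
    have hp3 : p = 3 := by
      have := hpN hp2
      rw [hcn] at this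
      have := Nat.le_of_dvd (by norm_num) this
      interval_cases p <;> first | omega | exact absurd hp (by norm_num)
    subst hp3
    rw [hcn] at hdN
    have hH60 := Nat.le_of_dvd (by norm_num) hdN
    have hc2 : c ≤ 120 := by rcases hcase with ⟨h, -⟩ | ⟨h, -⟩ <;> omega
    have ha1 : a = 1 := by
      by_contra ha1
      have h9 : 9 ≤ 3 ^ a := Nat.pow_le_pow_right (show 3 > 0 by norm_num) (show 2 ≤ a by omega)
      have h80 := Nat.mul_le_mul h9 (Nat.sub_le_sub_right (Nat.pow_le_pow_left h9 2) 1)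
      omega
    subst ha1
    have hc24 : c = 24 := by rw [hc]; norm_num
    rcases hcase with ⟨h, -⟩ | ⟨h, -, hro⟩
    · rw [h, hc24] at hdN
      norm_num at hdN
    · have hd5 := (Dvd.intro 12 rfl : 5 ∣ 60).trans (hcn ▸ N.card_subgroup_dvd_card)
      replace hd5 := Dvd.dvd.mul_left hd5 2
      rw [two_mul_card (by rw [hF]; exact (Odd.pow (by decide)).pow), hF, pow_one] at hd5
      have hmod : (3 ^ r) ^ 2 % 5 = 4 := by
        obtain ⟨j, rfl⟩ := hro
        rw [← pow_mul, show (2 * j + 1) * 2 = 4 * j + 2 by ring, pow_add, pow_mul, Nat.mul_mod,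
          Nat.pow_mod]
        norm_num
      rcases (Nat.Prime.dvd_mul (by norm_num)).1 hd5 with h' | h'
      · exact absurd ((Nat.prime_dvd_prime_iff_eq (by norm_num) Nat.prime_three).1
          ((by norm_num : Nat.Prime 5).dvd_of_dvd_pow h')) (by norm_num)
      · omega
  · have hfm : f * m = a * r := Nat.pow_right_injective hp.two_le
      (show p ^ (f * m) = p ^ (a * r) by rw [pow_mul, pow_mul, ← hq, hF])
    have hd : c ∣ 2 * (p ^ f * ((p ^ f) ^ 2 - 1)) := by
      have h1 : c ∣ 2 * Nat.card N := by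
        rcases hcase with ⟨h, -⟩ | ⟨h, -⟩
        · exact h ▸ hdN.mul_left 2
        · exact h ▸ mul_dvd_mul_left 2 hdN
      rcases hcn with ⟨h', -⟩ | ⟨-, h', -⟩
      · rwa [h'] at h1
      · exact h' ▸ h1.mul_left 2 |>.trans (dvd_of_eq (by ring))
    have := exponent_eq p ha hm hr hfm hd
    subst this
    rcases hcase with ⟨h, -⟩ | ⟨h, hp2, hro⟩
    · rcases hcn with ⟨h', -⟩ | ⟨-, h', -⟩ <;> omega
    · rcases hcn with ⟨h', -⟩ | ⟨-, h', -⟩
      · exact absurd (h' ▸ N.card_subgroup_dvd_card) (not_dvd_card p hp2 ha hro hF)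
      · omega

omit [Finite F] [Fact p.Prime] [CharP F p] in
/-- A field of order `q` maps to one of order `q ^ r`. -/
theorem exists_setup {F : Type*} [Field F] [Finite F] {K : Type*} [Field K] [Finite K] {q r : ℕ}
    (hK : Nat.card K = q) (hr : r ≠ 0) (hF : Nat.card F = q ^ r) :
    ∃ p a : ℕ, p.Prime ∧ CharP F p ∧ 1 ≤ a ∧ q = p ^ a ∧ Nonempty (K →+* F) := by
  cases nonempty_fintype K
  obtain ⟨p, hKp⟩ := CharP.exists K
  obtain ⟨n, hp, hn⟩ := FiniteField.card K p
  have : Fact p.Prime := ⟨hp⟩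
  have hq : q = p ^ (n : ℕ) := by rw [← hK, Nat.card_eq_fintype_card, hn]
  have hFc : Nat.card F = p ^ ((n : ℕ) * r) := by rw [hF, hq, ← pow_mul]
  cases nonempty_fintype F
  have : CharP F p := charP_of_card_eq_prime_pow (f := (n : ℕ) * r)
    (by rw [← Nat.card_eq_fintype_card, hFc])
  obtain ⟨φ⟩ := exists_hom_galois (F := F) p n ((n : ℕ) * r) hFc n.ne_zero (dvd_mul_right _ _)
  let _ : Algebra (ZMod p) K := ZMod.algebra K p
  exact ⟨p, n, hp, inferInstance, n.pos, hq,
    ⟨φ.comp (GaloisField.algEquivGaloisField p n (hq ▸ hK)).toRingEquiv.toRingHom⟩⟩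

end CfsgLib.Dickson.Over
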