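import Cfsg.Agent.Dickson.Transfer

set_option autoImplicit false

/-!
Dickson's list inside `PGL₂(F)`, `F` finite, with the subfield groups up to conjugacy in `PGL₂(F)`.
-/

namespace CfsgLib.Dickson

open OnePoint

section Comp

variable {K L M : Type*} [Field K] [Field L] [Field M]

theorem mapHom_comp (φ : L →+* K) (ψ : M →+* L) (x : PGL2 M) :
    Matrix.ProjGenLinGroup.map (n := Fin 2) (φ.comp ψ) x =
      Matrix.ProjGenLinGroup.map φ (Matrix.ProjGenLinGroup.map ψ x) := by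
  induction x using Matrix.ProjGenLinGroup.induction_on with
  | mk g => rfl

theorem map_pglImage (φ : L →+* K) (ψ : M →+* L) :
    (pglImage ψ).map (Matrix.ProjGenLinGroup.map (n := Fin 2) φ) = pglImage (φ.comp ψ) := by
  ext x
  simp only [pglImage, Subgroup.mem_map, MonoidHom.mem_range]
  constructor
  · rintro ⟨_, ⟨y, rfl⟩, rfl⟩; exact ⟨y, mapHom_comp φ ψ y⟩
  · rintro ⟨y, rfl⟩; exact ⟨_, ⟨y, rfl⟩, (mapHom_comp φ ψ y).symm⟩

theorem map_pslImage (φ : L →+* K) (ψ : M →+* L) :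
    (pslImage ψ).map (Matrix.ProjGenLinGroup.map (n := Fin 2) φ) = pslImage (φ.comp ψ) := by
  ext x
  simp only [pslImage, Subgroup.mem_map, MonoidHom.mem_range, MonoidHom.comp_apply]
  constructor
  · rintro ⟨_, ⟨y, rfl⟩, rfl⟩; exact ⟨y, mapHom_comp φ ψ _⟩
  · rintro ⟨y, rfl⟩; exact ⟨_, ⟨y, rfl⟩, (mapHom_comp φ ψ _).symm⟩

theorem pglImage_mono (φ : L →+* K) (ψ : M →+* L) : pglImage (φ.comp ψ) ≤ pglImage φ := by
  rw [← map_pglImage]
  rintro _ ⟨y, _, rfl⟩
  exact ⟨y, rfl⟩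

theorem pslImage_mono (φ : L →+* K) (ψ : M →+* L) : pslImage (φ.comp ψ) ≤ pslImage φ := by
  rintro _ ⟨y, rfl⟩
  obtain ⟨A, rfl⟩ := QuotientGroup.mk_surjective y
  exact ⟨QuotientGroup.mk (Matrix.SpecialLinearGroup.map ψ A),
    (pslHom_mk φ _).trans (pslHom_mk (φ.comp ψ) A).symm⟩

theorem map_conjH (φ : L →+* K) (h : PGL2 L) (H : Subgroup (PGL2 L)) :
    (conjH h H).map (Matrix.ProjGenLinGroup.map (n := Fin 2) φ) =
      conjH (Matrix.ProjGenLinGroup.map φ h) (H.map (Matrix.ProjGenLinGroup.map (n := Fin 2) φ)) := by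
  rw [conjH, conjH, Subgroup.map_map, Subgroup.map_map]
  congr 1
  ext x
  simp

end Comp

variable {F : Type*} [Field F] [DecidableEq F] [Finite F] (p : ℕ) [Fact p.Prime] [CharP F p]

/-- Dickson's list for the subgroups of `PGL₂(F)`. -/
theorem pgl_classification {K : Type*} [Field K] [DecidableEq K] [IsAlgClosed K] (φ : F →+* K)
    (H : Subgroup (PGL2 F)) :
    (p ∣ Nat.card H ∧ ∃ w : OnePoint F, ∀ g ∈ H, g • w = w) ∨
    (¬ p ∣ Nat.card H ∧ IsCyclic H) ∨
    (∃ n, 2 ≤ n ∧ ¬ p ∣ n ∧ Nat.card H = 2 * n ∧ Nonempty (H ≃* DihedralGroup n)) ∨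
    (5 ≤ p ∧ Nat.card H = 12 ∧ Nonempty (H ≃* alternatingGroup (Fin 4))) ∨
    (5 ≤ p ∧ Nat.card H = 24 ∧ Nonempty (H ≃* Equiv.Perm (Fin 4))) ∨
    (p ≠ 2 ∧ p ≠ 5 ∧ Nat.card H = 60 ∧ Nonempty (H ≃* alternatingGroup (Fin 5))) ∨
    (∃ f m, 1 ≤ f ∧ 1 ≤ m ∧ Nat.card F = (p ^ f) ^ m ∧
      ∃ (ψ : GaloisField p f →+* F) (h : PGL2 F),
        conjH h H = pglImage ψ ∨ (p ≠ 2 ∧ conjH h H = pslImage ψ)) := by
  have : CharP K p := (φ.charP_iff φ.injective p).1 inferInstance
  let Φ := Matrix.ProjGenLinGroup.map (n := Fin 2) φ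
  have hΦ : Function.Injective Φ := mapHom_injective φ
  let H' : Subgroup (PGL2 K) := H.map Φ
  let e : H ≃* H' := H.equivMapOfInjective Φ hΦ
  have : Finite (PGL2 F) := Finite.of_surjective _ Matrix.ProjGenLinGroup.mk_surjective
  have : Finite H' := Finite.of_equiv _ e.toEquiv
  have hcard : Nat.card H' = Nat.card H := (Nat.card_congr e.toEquiv).symm
  have hrat : H' ≤ pglImage φ := by rintro _ ⟨g, -, rfl⟩; exact ⟨_, rfl⟩
  rcases classification p H' with ⟨x, hx⟩ | ⟨n, hn, hpn, hN, ⟨d⟩⟩ | ⟨hp, hN, ⟨d⟩⟩ | ⟨hp, hN, ⟨d⟩⟩ |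
    ⟨hp2, hp5, hN, ⟨d⟩⟩ | ⟨f, hf, g, hg⟩
  · by_cases hp : p ∣ Nat.card H
    · left
      obtain ⟨⟨u, hu⟩, huo⟩ := exists_prime_orderOf_dvd_card' p hp
      rw [← Subgroup.orderOf_coe] at huo
      replace huo : orderOf u = p := huo
      obtain ⟨w, hw⟩ := exists_fix_of_isPGroup p (Subgroup.zpowers u)
        (IsPGroup.iff_card.2 ⟨1, by rw [Nat.card_zpowers, pow_one]; exact huo⟩)
      have huw : Φ u • OnePoint.map φ w = OnePoint.map φ w := by
        rw [mapHom_smul, hw u (Subgroup.mem_zpowers u)]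
      obtain ⟨z, hz⟩ : ∃ z, fix (Φ u) = {z} := by
        refine fix_singleton_of_pow p ?_ (k := 1) ?_
        · rw [Ne, map_eq_one_iff Φ hΦ]
          intro h
          exact (Fact.out : p.Prime).one_lt.ne (by rw [← huo, h, orderOf_one])
        · rw [pow_one, ← map_pow, ← huo, pow_orderOf_eq_one, map_one]
      have h1 : x ∈ fix (Φ u) := hx _ ⟨u, hu, rfl⟩
      have h2 : OnePoint.map φ w ∈ fix (Φ u) := huw
      rw [hz] at h1 h2
      refine ⟨hp, w, fun g hg => ?_⟩
      apply Option.map_injective φ.injective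
      show OnePoint.map φ _ = OnePoint.map φ w
      rw [← mapHom_smul, h2, ← h1]
      exact hx _ ⟨g, hg, rfl⟩
    · right; left
      refine ⟨hp, ?_⟩
      obtain ⟨k, hk⟩ := exists_smul_eq_infty x
      have hfix : ∀ a : H, (k * Φ a * k⁻¹) • (∞ : OnePoint K) = ∞ := fun a => by
        rw [← hk, mul_smul, mul_smul, inv_smul_smul, hx _ ⟨a, a.2, rfl⟩]
      choose u c huc using fun a => eq_aff_of_fix_infty (hfix a)
      let μ₀ : H →* Kˣ := MonoidHom.mk' u (fun a b => by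
        have h : k * Φ (a * b : H) * k⁻¹ = (k * Φ a * k⁻¹) * (k * Φ b * k⁻¹) := by
          rw [Subgroup.coe_mul, map_mul]; group
        rw [huc, huc, huc, aff_mul] at h
        exact (aff_inj h).1)
      let μ : H →* K := (Units.coeHom K).comp μ₀
      have hμ : Function.Injective μ := by
        rw [injective_iff_map_eq_one]
        intro a ha
        have hu1 : u a = 1 := Units.ext ha
        have hpow : (k * Φ a * k⁻¹) ^ p = 1 := by
          rw [huc, hu1, aff_one_pow, aff_eq_one]; simp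
        rw [conj_pow, mul_inv_eq_one, mul_eq_left, ← map_pow, map_eq_one_iff Φ hΦ] at hpow
        have hd : orderOf a ∣ p := by
          rw [← Subgroup.orderOf_coe]; exact orderOf_dvd_of_pow_eq_one hpow
        rcases (Nat.dvd_prime (Fact.out : p.Prime)).1 hd with h | h
        · exact orderOf_eq_one_iff.1 h
        · exact absurd (h ▸ orderOf_dvd_natCard a) hp
      exact isCyclic_of_injective_ringHom μ hμ
  · exact Or.inr (Or.inr (Or.inl ⟨n, hn, hpn, hcard ▸ hN, ⟨e.trans d⟩⟩))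
  · exact Or.inr (Or.inr (Or.inr (Or.inl ⟨hp, hcard ▸ hN, ⟨e.trans d⟩⟩)))
  · exact Or.inr (Or.inr (Or.inr (Or.inr (Or.inl ⟨hp, hcard ▸ hN, ⟨e.trans d⟩⟩))))
  · exact Or.inr (Or.inr (Or.inr (Or.inr (Or.inr (Or.inl ⟨hp2, hp5, hcard ▸ hN, ⟨e.trans d⟩⟩)))))
  refine Or.inr (Or.inr (Or.inr (Or.inr (Or.inr (Or.inr ?_)))))
  set F₀ := frobFix (K := K) p f
  have := finite_frobFix (K := K) p hf
  have : CharP F₀ p := (F₀.subtype.charP_iff Subtype.val_injective p).2 inferInstance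
  have hsub : pslImage F₀.subtype ≤ conjH g H' := by
    rcases hg with hg | ⟨-, hg⟩
    · rw [hg]; rintro _ ⟨y, rfl⟩; exact ⟨_, rfl⟩
    · rw [hg]
  have hback : ∀ w : OnePoint F₀, ∃ z : OnePoint F,
      g⁻¹ • OnePoint.map F₀.subtype w = OnePoint.map φ z := by
    intro w
    obtain ⟨v, hv, -, hvp, hvf⟩ := exists_pslHom_fix p F₀.subtype w
    obtain ⟨v', hv', he⟩ := hsub hv
    have he' : v' = g⁻¹ * v * g⁻¹⁻¹ := by
      rw [← he]
      simp only [MulEquiv.coe_toMonoidHom, MulAut.conj_apply]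
      group
    refine rational_fix p φ (hrat hv') ?_ ?_
    · rw [he', conj_pow, hvp, mul_one, mul_inv_cancel]
    · rw [he', fix_conj, hvf, Set.image_singleton]
  have hgF : g ∈ pglImage φ := by
    obtain ⟨a, ha⟩ := hback ∞
    obtain ⟨b, hb⟩ := hback ((0 : F₀) : OnePoint F₀)
    obtain ⟨c, hc⟩ := hback ((1 : F₀) : OnePoint F₀)
    rw [OnePoint.map_infty] at ha
    rw [OnePoint.map_some, map_zero] at hb
    rw [OnePoint.map_some, map_one] at hc
    exact inv_mem_iff.1 (mem_range_mapHom φ ha hb hc)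
  obtain ⟨g', rfl⟩ := hgF
  have hmemF : ∀ t : F₀, ∃ s : F, φ s = t := by
    intro t
    obtain ⟨z, hz⟩ := hback ((t : F₀) : OnePoint F₀)
    have : OnePoint.map F₀.subtype ((t : F₀) : OnePoint F₀) = OnePoint.map φ (g' • z) := by
      rw [← mapHom_smul, ← hz, smul_inv_smul]
    rw [OnePoint.map_some] at this
    generalize g' • z = z' at this
    rcases z' with _ | s
    · exact absurd this (coe_ne_infty _)
    · exact ⟨s, (coe_injective this).symm⟩
  choose s hs using hmemF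
  let ψ : F₀ →+* F :=
    { toFun := s
      map_one' := φ.injective (by rw [hs]; simp)
      map_mul' := fun a b => φ.injective (by rw [map_mul, hs, hs, hs]; simp)
      map_zero' := φ.injective (by rw [hs]; simp)
      map_add' := fun a b => φ.injective (by rw [map_add, hs, hs, hs]; simp) }
  have hψ : φ.comp ψ = F₀.subtype := RingHom.ext fun a => hs a
  let _ : Algebra F₀ F := ψ.toAlgebra
  let _ := Fintype.ofFinite F₀
  let _ := Fintype.ofFinite F
  have hpow := Module.card_eq_pow_finrank (K := F₀) (V := F)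
  rw [← Nat.card_eq_fintype_card, ← Nat.card_eq_fintype_card, card_frobFix p hf] at hpow
  let _ : Algebra (ZMod p) F₀ := ZMod.algebra F₀ p
  let ε : GaloisField p f ≃+* F₀ :=
    (GaloisField.algEquivGaloisField p f (card_frobFix p hf)).symm.toRingEquiv
  refine ⟨f, Module.finrank F₀ F, hf, ?_, hpow, ψ.comp ε.toRingHom, g', ?_⟩
  · by_contra h
    have h1 := Finite.one_lt_card (α := F)
    rw [hpow, show Module.finrank F₀ F = 0 by omega, pow_zero] at h1
    omega
  rcases hg with hg | ⟨hp2, hg⟩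
  · left
    apply Subgroup.map_injective hΦ
    rw [map_conjH, map_pglImage, ← RingHom.comp_assoc, hψ, pglImage_comp]
    exact hg
  · right
    refine ⟨hp2, Subgroup.map_injective hΦ ?_⟩
    rw [map_conjH, map_pslImage, ← RingHom.comp_assoc, hψ, pslImage_comp]
    exact hg

end CfsgLib.Dickson
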