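import Cfsg.Agent.Dickson.SmallNormal
import Cfsg.Agent.Dickson.Overgroup

/-!
Consequences of the normal forms: conjugacy of the small subgroups of `PGL₂(q)`, their position
relative to `PSL₂(q)`, and their realisation over subfields.
-/

set_option autoImplicit false
set_option linter.unusedSectionVars false

namespace CfsgLib.Dickson.Small

open Matrix
open CfsgLib.Dickson.Torus (pslTop)

variable {F : Type*} [Field F]

theorem conjH_eq_iff (k : PGL2 F) {H H' : Subgroup (PGL2 F)} :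
    conjH k H = H' ↔ H = conjH k⁻¹ H' := by
  constructor
  · rintro rfl
    rw [← conjH_mul, inv_mul_cancel, conjH, map_one]
    exact (Subgroup.map_id H).symm
  · rintro rfl
    rw [← conjH_mul, mul_inv_cancel, conjH, map_one]
    exact Subgroup.map_id H'

theorem card_conjH (k : PGL2 F) (H : Subgroup (PGL2 F)) : Nat.card (conjH k H) = Nat.card H :=
  (Nat.card_congr (H.equivMapOfInjective _ (MulAut.conj k).injective).toEquiv).symm

theorem conjH_pslTop_le [Finite F] (k : PGL2 F) {H : Subgroup (PGL2 F)} (h : H ≤ pslTop F) :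
    conjH k H ≤ pslTop F := by
  rintro _ ⟨x, hx, rfl⟩
  exact (Torus.pslTop_normal F).conj_mem x (h hx) k

/-- A perfect-mod-squares group lies in `PSL₂`. -/
theorem range_le_pslTop [Finite F] {n : ℕ} (f : alternatingGroup (Fin n) →* PGL2 F) :
    f.range ≤ pslTop F := by
  have := Torus.finite_pgl F
  rcases CfsgLib.Linear.PSLTwo.gcd_cases (F := F) with h | h
  · rw [Subgroup.index_eq_one.1 ((Torus.index_pslTop F).trans h)]
    exact le_top
  have hidx : (pslTop F).index = 2 := (Torus.index_pslTop F).trans h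
  have := Torus.pslTop_normal F
  rintro _ ⟨a, rfl⟩
  rw [← QuotientGroup.eq_one_iff]
  refine DFunLike.congr_fun (Over.hom_two_eq_one (M := PGL2 F ⧸ pslTop F) ?_
    ((QuotientGroup.mk' (pslTop F)).comp f)) a
  intro m
  obtain ⟨x, rfl⟩ := QuotientGroup.mk_surjective m
  rw [← QuotientGroup.mk_mul, QuotientGroup.eq_one_iff]
  exact (Subgroup.mul_mem_iff_of_index_two hidx).2 Iff.rfl

theorem alternating_le_pslTop [Finite F] {n : ℕ} {H : Subgroup (PGL2 F)}
    (e : H ≃* alternatingGroup (Fin n)) : H ≤ pslTop F := by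
  intro x hx
  exact range_le_pslTop (H.subtype.comp e.symm.toMonoidHom) ⟨e ⟨x, hx⟩, by simp⟩

theorem exists_conic [Finite F] (h2 : (2 : F) ≠ 0) (τ δ : F) (hτ : τ ≠ 0)
    (hδ : δ = 1 ∨ (3 : F) ≠ 0) : ∃ b d, Conic τ δ b d := by
  rcases hδ with rfl | h3
  · exact CfsgLib.Linear.SmallSub.exists_conic h2 hτ
  cases nonempty_fintype F
  have hodd : Fintype.card F % 2 = 1 := FiniteField.odd_card_of_char_ne_two
    ((fun h => h2 (by simpa [h] using ringChar.Nat.cast_ringChar (R := F))))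
  obtain ⟨X, d, hX⟩ := FiniteField.exists_root_sum_quadratic (R := F)
    (f := Polynomial.C 1 * Polynomial.X ^ 2 + Polynomial.C 0 * Polynomial.X + Polynomial.C 0)
    (g := Polynomial.C 3 * Polynomial.X ^ 2 + Polynomial.C (-4 * τ) * Polynomial.X +
      Polynomial.C (4 * δ))
    (Polynomial.degree_quadratic one_ne_zero) (Polynomial.degree_quadratic h3) hodd
  simp only [Polynomial.eval_add, Polynomial.eval_mul, Polynomial.eval_pow, Polynomial.eval_C,
    Polynomial.eval_X] at hX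
  refine ⟨(X - d) / 2, d, ?_⟩
  unfold Conic
  field_simp
  linear_combination hX

theorem altFour_conj [Finite F] (h2 : (2 : F) ≠ 0) {H H' : Subgroup (PGL2 F)}
    (e : H ≃* alternatingGroup (Fin 4)) (e' : H' ≃* alternatingGroup (Fin 4)) :
    ∃ k, conjH k H = H' := by
  obtain ⟨b, d, h⟩ := exists_conic h2 1 1 one_ne_zero (Or.inl rfl)
  obtain ⟨k, hk⟩ := altFour_form e h2 h
  obtain ⟨k', hk'⟩ := altFour_form e' h2 h
  refine ⟨k'⁻¹ * k, ?_⟩
  rw [conjH_mul, hk, ← hk', ← conjH_mul, inv_mul_cancel, conjH, map_one]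
  exact Subgroup.map_id H'

theorem symFour_conj [Finite F] (h2 : (2 : F) ≠ 0) (h3 : (3 : F) ≠ 0) {H H' : Subgroup (PGL2 F)}
    (e : H ≃* Equiv.Perm (Fin 4)) (e' : H' ≃* Equiv.Perm (Fin 4)) :
    ∃ k, conjH k H = H' := by
  obtain ⟨b, d, h⟩ := exists_conic h2 1 2⁻¹ one_ne_zero (Or.inr h3)
  obtain ⟨k, hk⟩ := symFour_form e h2 h
  obtain ⟨k', hk'⟩ := symFour_form e' h2 h
  refine ⟨k'⁻¹ * k, ?_⟩
  rw [conjH_mul, hk, ← hk', ← conjH_mul, inv_mul_cancel, conjH, map_one]
  exact Subgroup.map_id H'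

/-- An `S₄` lies in `PSL₂` exactly when `2` is a square. -/
theorem symFour_le_iff [Finite F] (h2 : (2 : F) ≠ 0) (h3 : (3 : F) ≠ 0) {H : Subgroup (PGL2 F)}
    (e : H ≃* Equiv.Perm (Fin 4)) : H ≤ pslTop F ↔ IsSquare (2 : F) := by
  constructor
  · intro hle
    let ι : Equiv.Perm (Fin 4) →* PGL2 F := H.subtype.comp e.symm.toMonoidHom
    have hι : Function.Injective ι := H.subtype_injective.comp e.symm.injective
    obtain ⟨A, hA, hg, -, hd⟩ := exists_lift_four h2 (ι CfsgLib.Linear.SmallSub.s4y)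
      (by rw [← map_pow, CfsgLib.Linear.SmallSub.s4_rels.2.1, map_one])
      (by
        rw [← map_pow]
        intro h
        exact (by decide +kernel : (CfsgLib.Linear.SmallSub.s4y) ^ 2 ≠ 1)
          (hι (h.trans (map_one ι).symm)))
    have hmem : mkM A hA ∈ pslTop F := hg ▸ hle (e.symm CfsgLib.Linear.SmallSub.s4y).2
    rw [mkM_mem_iff, hd] at hmem
    simpa using hmem
  · intro hsq
    obtain ⟨b, d, h⟩ := exists_conic h2 1 2⁻¹ one_ne_zero (Or.inr h3)
    obtain ⟨k, hk⟩ := symFour_form e h2 h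
    rw [(conjH_eq_iff k).1 hk]
    refine conjH_pslTop_le _ ((Subgroup.closure_le _).2 ?_)
    rintro z (rfl | rfl)
    · rw [xHat, SetLike.mem_coe, mkM_mem_iff]
      exact ⟨1, by simp [det_fin_two]⟩
    · rw [yHat, SetLike.mem_coe, mkM_mem_iff, det_yHat h, isSquare_inv]
      exact hsq

/-- `S₄` is a subgroup of `PGL₂(q)` in characteristic at least five. -/
theorem exists_symFour_pgl [Finite F] (h2 : (2 : F) ≠ 0) (h3 : (3 : F) ≠ 0) :
    ∃ H : Subgroup (PGL2 F), Nonempty (H ≃* Equiv.Perm (Fin 4)) := by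
  obtain ⟨b, d, h⟩ := exists_conic h2 1 2⁻¹ one_ne_zero (Or.inr h3)
  have hx : xHat F ^ 3 = 1 := by
    rw [xHat, mkM_pow, mkM_eq_one_iff]
    exact ⟨-1, by ext i j; fin_cases i <;> fin_cases j <;> simp [pow_succ]⟩
  have hy2 : yHat (inv_ne_zero h2) h ^ 2 ≠ 1 := by
    rw [yHat, Ne, mkM_pow, mkM_eq_one_iff, pow_two, sq_eq, det_yHat h]
    intro hs
    have := coeff_eq_zero (fun hB => ?_) hs
    · simp [trace_fin_two] at this
    · rw [CfsgLib.SL2C.isScal_iff] at hB
      simp at hB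
      obtain ⟨h4, h5, -⟩ := hB
      unfold Conic at h
      subst h4
      rw [zero_add] at h5
      subst h5
      exact inv_ne_zero h2 (by linear_combination h)
  have hy : yHat (inv_ne_zero h2) h ^ 4 = 1 := by
    rw [yHat, mkM_pow, mkM_eq_one_iff,
      show (!![1 - d, b; b + d, d] : Matrix (Fin 2) (Fin 2) F) ^ 4 =
        (!![1 - d, b; b + d, d] * !![1 - d, b; b + d, d]) *
          (!![1 - d, b; b + d, d] * !![1 - d, b; b + d, d]) by
        simp only [pow_succ, pow_zero, one_mul, mul_assoc], sq_eq !![1 - d, b; b + d, d],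
      det_yHat h]
    refine ⟨-(2⁻¹ * 2⁻¹), ?_⟩
    simp only [trace_fin_two_of, sub_mul, mul_sub, smul_mul_assoc, mul_smul_comm,
      sq_eq !![1 - d, b; b + d, d], det_yHat h, one_mul, mul_one, smul_sub, smul_smul]
    have : (2 : F) * 2⁻¹ = 1 := mul_inv_cancel₀ h2
    match_scalars <;> field_simp <;> ring
  have hxy : (xHat F * yHat (inv_ne_zero h2) h) ^ 2 = 1 := by
    rw [xHat, yHat, mkM_mul, mkM_pow, mkM_eq_one_iff, pow_two, sq_eq]
    refine ⟨-(!![0, -1; 1, 1] * !![1 - d, b; b + d, d] : Matrix (Fin 2) (Fin 2) F).det, ?_⟩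
    rw [show (!![0, -1; 1, 1] * !![1 - d, b; b + d, d] : Matrix (Fin 2) (Fin 2) F).trace = 0 by
      rw [trace_fin_two, Matrix.mul_apply, Matrix.mul_apply, Fin.sum_univ_two, Fin.sum_univ_two]
      simp]
    rw [zero_smul, zero_sub, neg_smul]
  obtain ⟨f, -, hfy⟩ := CfsgLib.Linear.SmallSub.exists_hom_symFour _ _ hx hy hxy
  have hinj := CfsgLib.Linear.SmallSub.symFour_injective f (by rw [map_pow, hfy]; exact hy2)
  exact ⟨f.range, ⟨(MonoidHom.ofInjective hinj).symm⟩⟩

section Subfield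

variable {E : Type*} [Field E] (φ : E →+* F)

theorem map_conic {τ δ b d : E} (h : Conic τ δ b d) : Conic (φ τ) (φ δ) (φ b) (φ d) := by
  have h' := congrArg φ (show b ^ 2 + b * d + d ^ 2 - τ * d + δ = 0 from h)
  simpa [Conic] using h'

theorem map_xHat : ProjGenLinGroup.map φ (xHat E) = xHat F := by
  rw [xHat, map_mkM]
  refine mkM_congr ?_ _ _
  ext i j
  fin_cases i <;> fin_cases j <;> simp

theorem map_yHat {τ δ b d : E} (hδ : δ ≠ 0) (h : Conic τ δ b d) :
    ProjGenLinGroup.map φ (yHat hδ h) = yHat ((map_ne_zero φ).2 hδ) (map_conic φ h) := by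
  rw [yHat, map_mkM]
  refine mkM_congr ?_ _ _
  ext i j
  fin_cases i <;> fin_cases j <;> simp

theorem closure_le_pglImage {τ δ b d : E} (hδ : δ ≠ 0) (h : Conic τ δ b d) :
    Subgroup.closure {xHat F, yHat ((map_ne_zero φ).2 hδ) (map_conic φ h)} ≤ pglImage φ := by
  rw [Subgroup.closure_le]
  rintro z (rfl | rfl)
  · exact ⟨_, map_xHat φ⟩
  · exact ⟨_, map_yHat φ hδ h⟩

theorem closure_le_pslImage {τ b d : E} (h : Conic τ 1 b d) :
    Subgroup.closure {xHat F, yHat ((map_ne_zero φ).2 one_ne_zero) (map_conic φ h)} ≤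
      pslImage φ := by
  have key : ∀ {A : Matrix (Fin 2) (Fin 2) E} (hA : A.det ≠ 0), A.det = 1 →
      ProjGenLinGroup.map φ (mkM A hA) ∈ pslImage φ := by
    intro A hA hA1
    obtain ⟨y, hy⟩ := (mkM_mem_iff hA).2 ⟨1, by rw [hA1, mul_one]⟩
    exact ⟨y, by rw [MonoidHom.comp_apply, hy]⟩
  rw [Subgroup.closure_le]
  rintro z (rfl | rfl)
  · rw [SetLike.mem_coe, ← map_xHat φ]
    exact key _ (by simp [det_fin_two])
  · rw [SetLike.mem_coe, ← map_yHat φ one_ne_zero h]
    exact key _ (det_yHat h)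

variable [Finite E]

theorem altFour_into (h2 : (2 : F) ≠ 0) {H : Subgroup (PGL2 F)}
    (e : H ≃* alternatingGroup (Fin 4)) : ∃ k, conjH k H ≤ pslImage φ := by
  obtain ⟨b, d, h⟩ := exists_conic (F := E) (fun he => h2 (by rw [← map_ofNat φ 2, he, map_zero]))
    1 1 one_ne_zero (Or.inl rfl)
  have h' : Conic 1 1 (φ b) (φ d) := by simpa using map_conic φ h
  obtain ⟨k, hk⟩ := altFour_form e h2 h'
  refine ⟨k, hk ▸ le_of_eq_of_le ?_ (closure_le_pslImage φ h)⟩
  congr 3
  exact mkM_congr (by simp) _ _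

theorem symFour_into (h2 : (2 : F) ≠ 0) (h3 : (3 : F) ≠ 0) {H : Subgroup (PGL2 F)}
    (e : H ≃* Equiv.Perm (Fin 4)) : ∃ k, conjH k H ≤ pglImage φ := by
  have h2' : (2 : E) ≠ 0 := fun he => h2 (by rw [← map_ofNat φ 2, he, map_zero])
  obtain ⟨b, d, h⟩ := exists_conic (F := E) h2' 1 2⁻¹ one_ne_zero
    (Or.inr fun he => h3 (by rw [← map_ofNat φ 3, he, map_zero]))
  have h' : Conic 1 2⁻¹ (φ b) (φ d) := by
    have h'' := map_conic φ h
    rw [map_one, map_inv₀, map_ofNat φ 2] at h''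
    exact h''
  obtain ⟨k, hk⟩ := symFour_form e h2 h'
  refine ⟨k, hk ▸ le_of_eq_of_le ?_ (closure_le_pglImage φ (inv_ne_zero h2') h)⟩
  congr 3
  exact mkM_congr (by simp) _ _

theorem altFive_into [Finite F] (h2 : (2 : F) ≠ 0) {t : E} (ht : t ^ 2 + t - 1 = 0)
    {H : Subgroup (PGL2 F)} (e : H ≃* alternatingGroup (Fin 5)) :
    ∃ k, conjH k H ≤ pslImage φ := by
  obtain ⟨b, d, h⟩ := exists_conic (F := E) (fun he => h2 (by rw [← map_ofNat φ 2, he, map_zero]))
    t 1 (by rintro rfl; simp at ht) (Or.inl rfl)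
  have h' : Conic (φ t) 1 (φ b) (φ d) := by simpa using map_conic φ h
  obtain ⟨k, hk⟩ := altFive_form e (t := φ t)
    (by rw [← map_pow, ← map_add, ← map_one φ, ← map_sub, ht, map_zero]) h'
  refine ⟨k, hk ▸ le_of_eq_of_le ?_ (closure_le_pslImage φ h)⟩
  congr 3

end Subfield

end CfsgLib.Dickson.Small
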