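import Cfsg.Agent.Dickson.Torus
import Cfsg.Agent.Classical.SmallSubPSL
import Cfsg.Agent.SL2C.Commutant

/-!
Normal forms for the subgroups `A₄`, `S₄`, `A₅` of `PGL₂(q)`: each is conjugate to the group
generated by a fixed element of order three and a partner of given trace and determinant.
-/

set_option autoImplicit false
set_option linter.unusedSectionVars false

namespace CfsgLib.Dickson.Small

open Matrix
open CfsgLib.Dickson.Torus (pslTop)
open CfsgLib.Linear.SmallSub (s4x s4y)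

variable {F : Type*} [Field F]

/-- The element of `PGL₂` given by an invertible matrix. -/
noncomputable def mkM (A : Matrix (Fin 2) (Fin 2) F) (h : A.det ≠ 0) : PGL2 F :=
  ProjGenLinGroup.mk (GeneralLinearGroup.mkOfDetNeZero A h)

theorem exists_mkM (g : PGL2 F) : ∃ A h, g = mkM A h := by
  obtain ⟨a, rfl⟩ := ProjGenLinGroup.mk_surjective g
  refine ⟨(a : Matrix (Fin 2) (Fin 2) F), a.det_ne_zero, ?_⟩
  exact congrArg ProjGenLinGroup.mk (Units.ext rfl)

theorem mkM_congr {A B : Matrix (Fin 2) (Fin 2) F} (h : A = B) (hA : A.det ≠ 0) (hB : B.det ≠ 0) :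
    mkM A hA = mkM B hB := by subst h; rfl

theorem mkM_mul {A B : Matrix (Fin 2) (Fin 2) F} (hA : A.det ≠ 0) (hB : B.det ≠ 0) :
    mkM A hA * mkM B hB = mkM (A * B) (by rw [det_mul]; exact mul_ne_zero hA hB) := by
  rw [mkM, mkM, mkM, ← map_mul]
  exact congrArg ProjGenLinGroup.mk (Units.ext rfl)

theorem mkM_pow {A : Matrix (Fin 2) (Fin 2) F} (hA : A.det ≠ 0) (n : ℕ) :
    mkM A hA ^ n = mkM (A ^ n) (by rw [det_pow]; exact pow_ne_zero _ hA) := by
  rw [mkM, mkM, ← map_pow]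
  exact congrArg ProjGenLinGroup.mk (Units.ext (Units.val_pow_eq_pow_val _ _))

theorem mkM_eq_one_iff {A : Matrix (Fin 2) (Fin 2) F} (hA : A.det ≠ 0) :
    mkM A hA = 1 ↔ CfsgLib.SL2C.IsScal A := by
  rw [mkM, ProjGenLinGroup.mk_eq_one, GeneralLinearGroup.center_eq_range_scalar]
  constructor
  · rintro ⟨u, hu⟩
    refine ⟨(u : F), ?_⟩
    have := congrArg (fun g : GL (Fin 2) F => (g : Matrix (Fin 2) (Fin 2) F)) hu
    simp only [GeneralLinearGroup.coe_scalar] at this
    rw [show A = _ from this.symm, smul_one_eq_diagonal]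
    rfl
  · rintro ⟨c, rfl⟩
    have hc : c ≠ 0 := fun h => hA (by simp [h])
    refine ⟨Units.mk0 c hc, Units.ext ?_⟩
    simp only [GeneralLinearGroup.coe_scalar]
    show _ = c • (1 : Matrix (Fin 2) (Fin 2) F)
    rw [smul_one_eq_diagonal]
    rfl

theorem mkM_smul {A : Matrix (Fin 2) (Fin 2) F} (hA : A.det ≠ 0) {c : F} (hc : c ≠ 0) :
    mkM (c • A) (by rw [det_smul]; exact mul_ne_zero (pow_ne_zero _ hc) hA) = mkM A hA := by
  have h1 : (c • (1 : Matrix (Fin 2) (Fin 2) F)).det ≠ 0 := by simp [hc]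
  have h2 : mkM _ h1 = 1 := (mkM_eq_one_iff h1).2 ⟨c, rfl⟩
  calc mkM (c • A) _ = mkM ((c • (1 : Matrix (Fin 2) (Fin 2) F)) * A) _ :=
        mkM_congr (by rw [smul_mul_assoc, one_mul]) _
          (by rw [det_mul]; exact mul_ne_zero h1 hA)
    _ = mkM A hA := by rw [← mkM_mul h1 hA, h2, one_mul]

theorem map_mkM {E : Type*} [Field E] (φ : E →+* F) {A : Matrix (Fin 2) (Fin 2) E}
    (hA : A.det ≠ 0) :
    ProjGenLinGroup.map φ (mkM A hA) = mkM (A.map φ)
      (by rw [← RingHom.mapMatrix_apply, ← RingHom.map_det]; exact (map_ne_zero φ).2 hA) := by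
  rw [mkM, ProjGenLinGroup.map_mk]
  exact congrArg ProjGenLinGroup.mk (Units.ext rfl)

/-- `PSL₂` consists of the matrices of square determinant. -/
theorem mkM_mem_iff {A : Matrix (Fin 2) (Fin 2) F} (hA : A.det ≠ 0) :
    mkM A hA ∈ pslTop F ↔ IsSquare A.det := by
  constructor
  · rintro ⟨x, hx⟩
    obtain ⟨S, rfl⟩ := QuotientGroup.mk_surjective x
    have hS : (S : Matrix (Fin 2) (Fin 2) F).det ≠ 0 := by rw [S.2]; exact one_ne_zero
    replace hx : mkM (S : Matrix (Fin 2) (Fin 2) F) hS = mkM A hA := by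
      rw [← hx]
      exact congrArg ProjGenLinGroup.mk (Units.ext rfl)
    have hS' : ((S⁻¹ : SpecialLinearGroup (Fin 2) F) : Matrix (Fin 2) (Fin 2) F).det ≠ 0 := by
      rw [(S⁻¹).2]; exact one_ne_zero
    have h1 := congrArg (mkM _ hS' * ·) hx
    simp only [mkM_mul] at h1
    obtain ⟨c, hc⟩ := (mkM_eq_one_iff (by rw [det_mul]; exact mul_ne_zero hS' hA)).1 (h1 ▸
      (mkM_eq_one_iff (by rw [det_mul]; exact mul_ne_zero hS' hS)).2 ⟨1, by
        rw [one_smul]; exact congrArg Subtype.val (inv_mul_cancel S)⟩)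
    have := congrArg det hc
    rw [det_mul, (S⁻¹).2, one_mul, det_smul, det_one, mul_one, Fintype.card_fin, pow_two] at this
    exact ⟨c, this⟩
  · rintro ⟨c, hc⟩
    have hc0 : c ≠ 0 := fun h => hA (by rw [hc, h, mul_zero])
    refine ⟨QuotientGroup.mk ⟨c⁻¹ • A, by
      rw [det_smul, Fintype.card_fin, hc]; field_simp⟩, ?_⟩
    refine Eq.trans ?_ (mkM_smul hA (inv_ne_zero hc0))
    exact congrArg ProjGenLinGroup.mk (Units.ext rfl)

/-! ### Elements of small order -/

theorem sq_eq (A : Matrix (Fin 2) (Fin 2) F) : A * A = A.trace • A - A.det • 1 :=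
  CfsgLib.SL2C.sq_eq A

theorem coeff_eq_zero {A : Matrix (Fin 2) (Fin 2) F} (hA : ¬ CfsgLib.SL2C.IsScal A) {a b : F}
    (h : CfsgLib.SL2C.IsScal (a • A - b • 1)) : a = 0 := by
  obtain ⟨c, hc⟩ := h
  by_contra ha
  refine hA ⟨a⁻¹ * (c + b), ?_⟩
  rw [← smul_smul, eq_inv_smul_iff₀ ha, add_smul]
  exact eq_add_of_sub_eq hc

theorem trace_eq_zero {A : Matrix (Fin 2) (Fin 2) F} (hA : A.det ≠ 0) (h1 : mkM A hA ≠ 1)
    (h2 : mkM A hA ^ 2 = 1) : A.trace = 0 := by
  rw [Ne, mkM_eq_one_iff] at h1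
  rw [mkM_pow, mkM_eq_one_iff, pow_two, sq_eq] at h2
  exact coeff_eq_zero h1 h2

theorem exists_lift_three (g : PGL2 F) (h1 : g ≠ 1) (h3 : g ^ 3 = 1) :
    ∃ A h, g = mkM A h ∧ A.trace = 1 ∧ A.det = 1 ∧ ¬ CfsgLib.SL2C.IsScal A := by
  obtain ⟨A, hA, rfl⟩ := exists_mkM g
  have hns : ¬ CfsgLib.SL2C.IsScal A := fun h => h1 ((mkM_eq_one_iff hA).2 h)
  have ht : A.trace ≠ 0 := by
    intro ht
    have h2 : mkM A hA ^ 2 = 1 := by
      rw [mkM_pow, mkM_eq_one_iff, pow_two, sq_eq, ht]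
      exact ⟨-A.det, by simp⟩
    apply h1
    rwa [pow_succ, h2, one_mul] at h3
  have hkey : A.trace * A.trace = A.det := by
    rw [mkM_pow, mkM_eq_one_iff, show A ^ 3 = (A.trace * A.trace - A.det) • A -
        (A.trace * A.det) • 1 by
      rw [pow_succ, pow_two, sq_eq, sub_mul, smul_mul_assoc, sq_eq, smul_mul_assoc, one_mul,
        smul_sub, smul_smul, smul_smul]
      module] at h3
    exact sub_eq_zero.1 (coeff_eq_zero hns h3)
  have hd : (A.trace⁻¹ • A).det = 1 := by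
    rw [det_smul, Fintype.card_fin, ← hkey]; field_simp
  refine ⟨A.trace⁻¹ • A, by rw [hd]; exact one_ne_zero, (mkM_smul hA (inv_ne_zero ht)).symm,
    by rw [trace_smul, smul_eq_mul, inv_mul_cancel₀ ht], hd, ?_⟩
  intro h
  obtain ⟨c, hc⟩ := h
  exact hns ⟨A.trace * c, by rw [← smul_smul, ← hc, smul_smul, mul_inv_cancel₀ ht, one_smul]⟩

theorem exists_lift_four (h2 : (2 : F) ≠ 0) (g : PGL2 F) (hg : g ^ 4 = 1) (hg2 : g ^ 2 ≠ 1) :
    ∃ A h, g = mkM A h ∧ A.trace = 1 ∧ A.det = 2⁻¹ := by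
  obtain ⟨A, hA, rfl⟩ := exists_mkM g
  rw [Ne, mkM_pow, mkM_eq_one_iff, pow_two, sq_eq] at hg2
  have hns : ¬ CfsgLib.SL2C.IsScal A := fun h => hg2 (by
    obtain ⟨c, hc⟩ := h
    exact ⟨A.trace * c - A.det, by rw [hc, smul_smul, ← sub_smul, ← hc]⟩)
  have ht : A.trace ≠ 0 := fun h => hg2 ⟨-A.det, by rw [h]; simp⟩
  have hkey : A.trace * A.trace = 2 * A.det := by
    rw [mkM_pow, mkM_eq_one_iff, show A ^ 4 =
        (A.trace * (A.trace * A.trace - 2 * A.det)) • A -
          ((A.trace * A.trace - A.det) * A.det) • 1 by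
      rw [show A ^ 4 = A * A * (A * A) by simp only [pow_succ, pow_zero, one_mul, mul_assoc], sq_eq A]
      simp only [sub_mul, mul_sub, smul_mul_assoc, mul_smul_comm, sq_eq A, one_mul, mul_one,
        smul_sub, smul_smul]
      module] at hg
    exact sub_eq_zero.1 ((mul_eq_zero.1 (coeff_eq_zero hns hg)).resolve_left ht)
  have hd : (A.trace⁻¹ • A).det = 2⁻¹ := by
    rw [det_smul, Fintype.card_fin]
    field_simp
    linear_combination -hkey
  exact ⟨A.trace⁻¹ • A, by rw [hd]; exact inv_ne_zero h2, (mkM_smul hA (inv_ne_zero ht)).symm,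
    by rw [trace_smul, smul_eq_mul, inv_mul_cancel₀ ht], hd⟩

theorem exists_lift_five (g : PGL2 F) (h1 : g ≠ 1) (h5 : g ^ 5 = 1) :
    ∃ A h, g = mkM A h ∧ A.trace ^ 2 + A.trace - 1 = 0 ∧ A.det = 1 := by
  obtain ⟨A, hA, rfl⟩ := exists_mkM g
  have hns : ¬ CfsgLib.SL2C.IsScal A := fun h => h1 ((mkM_eq_one_iff hA).2 h)
  set t := A.trace with htdef
  set δ := A.det with hδdef
  have hkey : t ^ 4 - 3 * t ^ 2 * δ + δ ^ 2 = 0 := by
    rw [mkM_pow, mkM_eq_one_iff, show A ^ 5 =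
        (t ^ 4 - 3 * t ^ 2 * δ + δ ^ 2) • A - (δ * (t ^ 3 - 2 * t * δ)) • 1 by
      rw [show A ^ 5 = A * A * (A * A) * A by simp only [pow_succ, pow_zero, one_mul, mul_assoc],
        sq_eq A, ← htdef, ← hδdef]
      simp only [sub_mul, mul_sub, smul_mul_assoc, mul_smul_comm, sq_eq A, ← htdef, ← hδdef,
        one_mul, mul_one, smul_sub, smul_smul]
      module] at h5
    exact coeff_eq_zero hns h5
  have ht : t ≠ 0 := by
    intro ht
    rw [ht] at hkey
    exact hA (pow_eq_zero_iff two_ne_zero |>.1 (by linear_combination hkey))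
  obtain ⟨r, hr⟩ : ∃ r, r * δ = t ^ 2 := ⟨t ^ 2 / δ, div_mul_cancel₀ _ hA⟩
  have hr2 : r ^ 2 - 3 * r + 1 = 0 := by
    refine (mul_eq_zero.1 (?_ : δ ^ 2 * (r ^ 2 - 3 * r + 1) = 0)).resolve_left (pow_ne_zero _ hA)
    linear_combination (r * δ + t ^ 2 - 3 * δ) * hr + hkey
  have hr1 : 1 - r ≠ 0 := by
    intro h
    exact one_ne_zero (α := F) (by linear_combination -hr2 + (2 - r) * h)
  have hc : (1 - r) / t ≠ 0 := div_ne_zero hr1 ht
  have hd : (((1 - r) / t) • A).det = 1 := by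
    rw [det_smul, Fintype.card_fin, ← hδdef]
    field_simp
    linear_combination δ * hr2 + hr
  refine ⟨((1 - r) / t) • A, by rw [hd]; exact one_ne_zero, (mkM_smul hA hc).symm, ?_, hd⟩
  rw [trace_smul, smul_eq_mul, ← htdef, div_mul_cancel₀ _ ht]
  linear_combination hr2

/-! ### The normal form -/

/-- The standard element of order three. -/
noncomputable def xHat (F : Type*) [Field F] : PGL2 F :=
  mkM !![0, -1; 1, 1] (by simp [det_fin_two])

/-- A point of the conic attached to a trace and a determinant. -/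
def Conic (τ δ b d : F) : Prop := b ^ 2 + b * d + d ^ 2 - τ * d + δ = 0

theorem det_yHat {τ δ b d : F} (h : Conic τ δ b d) :
    (!![τ - d, b; b + d, d] : Matrix (Fin 2) (Fin 2) F).det = δ := by
  rw [det_fin_two_of]
  unfold Conic at h
  linear_combination -h

/-- The partner of `xHat` attached to a point of the conic. -/
noncomputable def yHat {τ δ b d : F} (hδ : δ ≠ 0) (h : Conic τ δ b d) : PGL2 F :=
  mkM !![τ - d, b; b + d, d] (by rw [det_yHat h]; exact hδ)

theorem conic_conj {τ δ b d b' d' : F} (hδ : δ ≠ 0) (hτ : τ ^ 2 ≠ 3 * δ) (h : Conic τ δ b d)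
    (h' : Conic τ δ b' d') :
    ∃ k : PGL2 F, k * xHat F = xHat F * k ∧ k * yHat hδ h = yHat hδ h' * k := by
  obtain ⟨α, β, hne, e1, e2⟩ : ∃ α β : F, (α ≠ 0 ∨ β ≠ 0) ∧
      α * (d' - d) - β * (b + d + b') = 0 ∧ α * (b - b') + β * (τ - d - d' - b') = 0 := by
    by_cases h0 : d' - d = 0 ∧ b + d + b' = 0
    · by_cases h1 : b - b' = 0 ∧ τ - d - d' - b' = 0
      · exact ⟨1, 0, Or.inl one_ne_zero, by simp [h0.1], by simp [h1.1]⟩
      · refine ⟨τ - d - d' - b', -(b - b'), ?_, by rw [h0.1, h0.2]; ring, by ring⟩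
        by_contra hcon
        push Not at hcon
        exact h1 ⟨neg_eq_zero.1 hcon.2, hcon.1⟩
    · refine ⟨b + d + b', d' - d, ?_, by ring, ?_⟩
      · by_contra hcon
        push Not at hcon
        exact h0 ⟨hcon.2, hcon.1⟩
      · unfold Conic at h h'
        linear_combination h - h'
  have hP : α ^ 2 + α * β + β ^ 2 ≠ 0 := by
    intro hP
    have hβ : β ≠ 0 := by
      intro hβ
      rw [hβ] at hP
      rcases hne with hne | hne
      · exact hne (pow_eq_zero_iff two_ne_zero |>.1 (by linear_combination hP))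
      · exact hne hβ
    obtain ⟨ω, rfl⟩ : ∃ ω, α = ω * β := ⟨α / β, (div_mul_cancel₀ α hβ).symm⟩
    obtain ⟨u, rfl⟩ : ∃ u, d' = d + u := ⟨d' - d, by ring⟩
    obtain ⟨v, rfl⟩ : ∃ v, b = b' + v := ⟨b - b', by ring⟩
    have hω : ω ^ 2 + ω + 1 = 0 :=
      (mul_eq_zero.1 (show β ^ 2 * (ω ^ 2 + ω + 1) = 0 by linear_combination hP)).resolve_left
        (pow_ne_zero _ hβ)
    have a1 : d = ω * u - v - 2 * b' := by
      have := (mul_eq_zero.1 (show β * (ω * u - (b' + v + d + b')) = 0 by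
        linear_combination e1)).resolve_left hβ
      linear_combination -this
    subst a1
    have a2 : τ = (2 * ω + 1) * u - (2 + ω) * v - 3 * b' := by
      have := (mul_eq_zero.1 (show β * (ω * v + τ - (ω * u - v - 2 * b') -
        (ω * u - v - 2 * b' + u) - b') = 0 by linear_combination e2)).resolve_left hβ
      linear_combination this
    subst a2
    apply hτ
    unfold Conic at h'
    linear_combination -3 * h' + (u ^ 2 - u * v + v ^ 2) * hω
  have hdet : (!![α, -β; β, α + β] : Matrix (Fin 2) (Fin 2) F).det ≠ 0 := by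
    rw [det_fin_two_of]; intro e; exact hP (by linear_combination e)
  refine ⟨mkM _ hdet, ?_, ?_⟩
  · rw [xHat, mkM_mul, mkM_mul]
    refine mkM_congr ?_ _ _
    ext i j
    fin_cases i <;> fin_cases j <;> simp [Matrix.mul_apply, Fin.sum_univ_two] <;> ring
  · rw [yHat, yHat, mkM_mul, mkM_mul]
    refine mkM_congr ?_ _ _
    ext i j
    fin_cases i <;> fin_cases j <;> simp [Matrix.mul_apply, Fin.sum_univ_two]
    · linear_combination e1
    · linear_combination e2
    · linear_combination e2 - e1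
    · linear_combination -e1

theorem normal_form {τ δ b d : F} (hδ : δ ≠ 0) (hτ : τ ^ 2 ≠ 3 * δ) (h : Conic τ δ b d)
    {X Y : PGL2 F} (hX : X ^ 3 = 1) (hX1 : X ≠ 1) {B : Matrix (Fin 2) (Fin 2) F}
    {hB : B.det ≠ 0} (hY : Y = mkM B hB) (hBt : B.trace = τ) (hBd : B.det = δ)
    (hXY : (X * Y) ^ 2 = 1) (hXY1 : X * Y ≠ 1) :
    ∃ k : PGL2 F, MulAut.conj k X = xHat F ∧ MulAut.conj k Y = yHat hδ h := by
  obtain ⟨A, hA, rfl, hAt, hAd, hAns⟩ := exists_lift_three X hX1 hX
  have hx0 : (!![0, -1; 1, 1] : Matrix (Fin 2) (Fin 2) F).det ≠ 0 := by simp [det_fin_two]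
  obtain ⟨P, hP, hPA⟩ := CfsgLib.SL2C.exists_conj hAns (B := !![(0 : F), -1; 1, 1])
    (by rw [CfsgLib.SL2C.isScal_iff]; simp)
    (by rw [hAt]; simp [trace_fin_two]) (by rw [hAd]; simp [det_fin_two])
  have hu : IsUnit P.det := isUnit_iff_ne_zero.2 hP
  have hPi : P⁻¹.det ≠ 0 := by rw [det_nonsing_inv]; simp [hP]
  set k := mkM P hP with hk
  have hki : k⁻¹ = mkM P⁻¹ hPi := by
    refine inv_eq_of_mul_eq_one_right ?_
    rw [hk, mkM_mul, mkM_eq_one_iff]
    exact ⟨1, by rw [Matrix.mul_nonsing_inv P hu, one_smul]⟩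
  have hkX : k * mkM A hA * k⁻¹ = xHat F := by
    rw [mul_inv_eq_iff_eq_mul, hk, xHat, mkM_mul, mkM_mul]
    exact mkM_congr hPA.symm _ _
  set B' := P * B * P⁻¹ with hB'
  have hB'd : B'.det = δ := by
    rw [hB', det_mul, det_mul, mul_right_comm, ← det_mul, Matrix.mul_nonsing_inv P hu, det_one,
      one_mul, hBd]
  have hB't : B'.trace = τ := by
    rw [hB', trace_mul_cycle, Matrix.nonsing_inv_mul P hu, one_mul, hBt]
  have hB'0 : B'.det ≠ 0 := by rw [hB'd]; exact hδ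
  have hkY : k * Y * k⁻¹ = mkM B' hB'0 := by
    rw [hY, hki, hk, mkM_mul, mkM_mul]
  have hprod : xHat F * mkM B' hB'0 = k * (mkM A hA * Y) * k⁻¹ := by
    rw [← hkX, ← hkY]; group
  have htr : (!![0, -1; 1, 1] * B' : Matrix (Fin 2) (Fin 2) F).trace = 0 := by
    rw [xHat, mkM_mul] at hprod
    refine trace_eq_zero (by rw [det_mul]; exact mul_ne_zero hx0 hB'0) ?_ ?_
    · rw [hprod]; simpa [conj_eq_one_iff] using hXY1
    · rw [hprod, conj_pow, hXY, mul_one, mul_inv_cancel]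
  have hshape : B' = !![τ - B' 1 1, B' 0 1; B' 0 1 + B' 1 1, B' 1 1] := by
    rw [trace_fin_two, Matrix.mul_apply, Matrix.mul_apply, Fin.sum_univ_two,
      Fin.sum_univ_two] at htr
    simp at htr
    rw [trace_fin_two] at hB't
    ext i j
    fin_cases i <;> fin_cases j <;> simp
    · linear_combination hB't
    · linear_combination -htr
  have hcon : Conic τ δ (B' 0 1) (B' 1 1) := by
    have := congrArg det hshape
    rw [hB'd, det_fin_two_of] at this
    unfold Conic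
    linear_combination this
  obtain ⟨k', hk'x, hk'y⟩ := conic_conj hδ hτ hcon h
  refine ⟨k' * k, ?_, ?_⟩
  · rw [map_mul, MulAut.mul_apply]
    show k' * (k * mkM A hA * k⁻¹) * k'⁻¹ = _
    rw [hkX, hk'x, mul_inv_cancel_right]
  · rw [map_mul, MulAut.mul_apply]
    show k' * (k * Y * k⁻¹) * k'⁻¹ = _
    rw [hkY, show mkM B' hB'0 = yHat hδ hcon from mkM_congr hshape _ _, hk'y, mul_inv_cancel_right]

theorem conjH_closure (k : PGL2 F) (X Y : PGL2 F) :
    conjH k (Subgroup.closure {X, Y}) = Subgroup.closure {MulAut.conj k X, MulAut.conj k Y} := by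
  rw [conjH, MonoidHom.map_closure, Set.image_pair]
  rfl

theorem altFour_pair : ∃ x y : alternatingGroup (Fin 4), x ^ 3 = 1 ∧ x ≠ 1 ∧ y ^ 3 = 1 ∧ y ≠ 1 ∧
    (x * y) ^ 2 = 1 ∧ x * y ≠ 1 ∧ ∀ g, ∃ i j l : Fin 3, g = x ^ (i : ℕ) * y ^ (j : ℕ) * x ^ (l : ℕ) := by
  decide +kernel

theorem altFive_pairs : ∃ x x' y : alternatingGroup (Fin 5),
    x ^ 3 = 1 ∧ x ≠ 1 ∧ x' ^ 3 = 1 ∧ x' ≠ 1 ∧ y ^ 5 = 1 ∧ y ≠ 1 ∧
    (x * y) ^ 2 = 1 ∧ x * y ≠ 1 ∧ (x' * y ^ 2) ^ 2 = 1 ∧ x' * y ^ 2 ≠ 1 :=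
  ⟨⟨List.formPerm [(1 : Fin 5), 4, 2], Equiv.Perm.mem_alternatingGroup.2 (by decide +kernel)⟩,
    ⟨List.formPerm [(2 : Fin 5), 3, 4], Equiv.Perm.mem_alternatingGroup.2 (by decide +kernel)⟩,
    ⟨List.formPerm [(0 : Fin 5), 1, 2, 3, 4],
      Equiv.Perm.mem_alternatingGroup.2 (by decide +kernel)⟩, by decide +kernel⟩

variable {H : Subgroup (PGL2 F)}

theorem altFour_form (e : H ≃* alternatingGroup (Fin 4)) (h2 : (2 : F) ≠ 0) {b d : F}
    (h : Conic 1 1 b d) :
    ∃ k : PGL2 F, conjH k H = Subgroup.closure {xHat F, yHat one_ne_zero h} := by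
  obtain ⟨x, y, hx, hx1, hy, hy1, hxy, hxy1, hgen⟩ := altFour_pair
  let ι : alternatingGroup (Fin 4) →* PGL2 F := H.subtype.comp e.symm.toMonoidHom
  have hι : Function.Injective ι := H.subtype_injective.comp e.symm.injective
  have hne : ∀ {z}, z ≠ 1 → ι z ≠ 1 := fun hz h => hz (hι (h.trans (map_one ι).symm))
  obtain ⟨B, hB, hY, hBt, hBd, -⟩ := exists_lift_three (ι y) (hne hy1) (by rw [← map_pow, hy, map_one])
  obtain ⟨k, hk1, hk2⟩ := normal_form one_ne_zero
    (fun he => h2 (by linear_combination -he)) h (X := ι x) (Y := ι y)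
    (by rw [← map_pow, hx, map_one]) (hne hx1) hY hBt hBd
    (by rw [← map_mul, ← map_pow, hxy, map_one]) (by rw [← map_mul]; exact hne hxy1)
  refine ⟨k, ?_⟩
  have hH : H = Subgroup.closure {ι x, ι y} := by
    refine le_antisymm (fun z hz => ?_) ((Subgroup.closure_le _).2 ?_)
    · obtain ⟨i, j, l, hg⟩ := hgen (e ⟨z, hz⟩)
      have : z = ι (e ⟨z, hz⟩) := by show z = (e.symm (e ⟨z, hz⟩) : PGL2 F); rw [e.symm_apply_apply]
      have hX : ι x ∈ Subgroup.closure ({ι x, ι y} : Set (PGL2 F)) :=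
        Subgroup.subset_closure (Or.inl rfl)
      have hY' : ι y ∈ Subgroup.closure ({ι x, ι y} : Set (PGL2 F)) :=
        Subgroup.subset_closure (Or.inr rfl)
      rw [this, hg, map_mul, map_mul, map_pow, map_pow, map_pow]
      exact mul_mem (mul_mem (pow_mem hX _) (pow_mem hY' _)) (pow_mem hX _)
    · rintro z (rfl | rfl)
      · exact (e.symm x).2
      · exact (e.symm y).2
  rw [hH, conjH_closure, hk1, hk2]

theorem symFour_form (e : H ≃* Equiv.Perm (Fin 4)) (h2 : (2 : F) ≠ 0) {b d : F}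
    (h : Conic 1 2⁻¹ b d) :
    ∃ k : PGL2 F, conjH k H = Subgroup.closure {xHat F, yHat (inv_ne_zero h2) h} := by
  obtain ⟨hx, hy, hxy⟩ := CfsgLib.Linear.SmallSub.s4_rels
  let ι : Equiv.Perm (Fin 4) →* PGL2 F := H.subtype.comp e.symm.toMonoidHom
  have hι : Function.Injective ι := H.subtype_injective.comp e.symm.injective
  have hne : ∀ {z}, z ≠ 1 → ι z ≠ 1 := fun hz h => hz (hι (h.trans (map_one ι).symm))
  obtain ⟨B, hB, hY, hBt, hBd⟩ := exists_lift_four h2 (ι s4y) (by rw [← map_pow, hy, map_one])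
    (by rw [← map_pow]; exact hne (by decide +kernel))
  obtain ⟨k, hk1, hk2⟩ := normal_form (inv_ne_zero h2)
    (fun he => one_ne_zero (α := F) (by field_simp at he; linear_combination -he)) h
    (X := ι s4x) (Y := ι s4y)
    (by rw [← map_pow, hx, map_one]) (hne (by decide +kernel)) hY hBt hBd
    (by rw [← map_mul, ← map_pow, hxy, map_one]) (by rw [← map_mul]; exact hne (by decide +kernel))
  refine ⟨k, ?_⟩
  have hH : H = Subgroup.closure {ι s4x, ι s4y} := by
    refine le_antisymm (fun z hz => ?_) ((Subgroup.closure_le _).2 ?_)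
    · obtain ⟨⟨i, j⟩, hg⟩ := CfsgLib.Linear.SmallSub.s4_surj (e ⟨z, hz⟩)
      have : z = ι (e ⟨z, hz⟩) := by show z = (e.symm (e ⟨z, hz⟩) : PGL2 F); rw [e.symm_apply_apply]
      have hX : ι s4x ∈ Subgroup.closure ({ι s4x, ι s4y} : Set (PGL2 F)) :=
        Subgroup.subset_closure (Or.inl rfl)
      have hY' : ι s4y ∈ Subgroup.closure ({ι s4x, ι s4y} : Set (PGL2 F)) :=
        Subgroup.subset_closure (Or.inr rfl)
      rw [this, ← hg, map_mul, map_pow]
      refine mul_mem (pow_mem hY' _) ?_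
      fin_cases j <;> simp [CfsgLib.Linear.SmallSub.reps, map_mul] <;>
        first
          | exact hX
          | exact mul_mem hX hX
          | exact mul_mem (mul_mem hX hX) hY'
          | exact mul_mem (mul_mem (mul_mem hX hX) hY') hY'
          | exact mul_mem (mul_mem (mul_mem (mul_mem hX hX) hY') hY') hX
    · rintro z (rfl | rfl)
      · exact (e.symm s4x).2
      · exact (e.symm s4y).2
  rw [hH, conjH_closure, hk1, hk2]

theorem altFive_form [Finite F] (e : H ≃* alternatingGroup (Fin 5)) {t b d : F}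
    (ht : t ^ 2 + t - 1 = 0) (h : Conic t 1 b d) :
    ∃ k : PGL2 F, conjH k H = Subgroup.closure {xHat F, yHat one_ne_zero h} := by
  obtain ⟨x, x', y, hx, hx1, hx', hx1', hy, hy1, hxy, hxy1, hxy', hxy1'⟩ := altFive_pairs
  let ι : alternatingGroup (Fin 5) →* PGL2 F := H.subtype.comp e.symm.toMonoidHom
  have hι : Function.Injective ι := H.subtype_injective.comp e.symm.injective
  have hne : ∀ {z}, z ≠ 1 → ι z ≠ 1 := fun hz h => hz (hι (h.trans (map_one ι).symm))
  have key : ∀ (u v : alternatingGroup (Fin 5)), u ^ 3 = 1 → u ≠ 1 → v ^ 5 = 1 → (u * v) ^ 2 = 1 →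
      u * v ≠ 1 → (∃ B hB, ι v = mkM B hB ∧ B.trace = t ∧ B.det = 1) →
      ∃ k : PGL2 F, conjH k H = Subgroup.closure {xHat F, yHat one_ne_zero h} := by
    intro u v hu hu1 hv huv huv1 ⟨B, hB, hY, hBt, hBd⟩
    obtain ⟨k, hk1, hk2⟩ := normal_form one_ne_zero (fun he => by
        rw [mul_one] at he
        exact one_ne_zero (α := F) (by linear_combination he - (t - 2) * (ht - he))) h (X := ι u) (Y := ι v)
      (by rw [← map_pow, hu, map_one]) (hne hu1) hY hBt hBd
      (by rw [← map_mul, ← map_pow, huv, map_one]) (by rw [← map_mul]; exact hne huv1)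
    refine ⟨k, ?_⟩
    obtain ⟨f, hf, hfr⟩ := CfsgLib.Linear.SmallSub.exists_emb_altFive (ι u) (ι v)
      (by rw [← map_pow, hu, map_one]) (by rw [← map_pow, hv, map_one])
      (by rw [← map_mul, ← map_pow, huv, map_one]) (hne hu1)
    have hle : f.range ≤ H := by
      rw [hfr, Subgroup.closure_le]
      rintro z (rfl | rfl)
      · exact (e.symm u).2
      · exact (e.symm v).2
    have := CfsgLib.Dickson.Torus.finite_pgl F
    have hH : f.range = H := Subgroup.eq_of_le_of_card_ge hle (by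
      rw [Nat.card_congr e.toEquiv, ← Nat.card_congr (MonoidHom.ofInjective hf).toEquiv])
    rw [← hH, hfr, conjH_closure, hk1, hk2]
  obtain ⟨B, hB, hY, hBt, hBd⟩ := exists_lift_five (ι y) (hne hy1) (by rw [← map_pow, hy, map_one])
  rcases mul_eq_zero.1 (show (B.trace - t) * (B.trace + t + 1) = 0 by linear_combination hBt - ht)
    with h' | h'
  · exact key x y hx hx1 hy hxy hxy1 ⟨B, hB, hY, sub_eq_zero.1 h', hBd⟩
  · refine key x' (y ^ 2) hx' hx1' (by rw [← pow_mul, mul_comm, pow_mul, hy, one_pow]) hxy' hxy1'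
      ⟨B ^ 2, by rw [det_pow, hBd]; simp, by rw [map_pow, hY, mkM_pow], ?_, by
        rw [det_pow, hBd, one_pow]⟩
    rw [pow_two, sq_eq, hBd, trace_sub, trace_smul, trace_smul, trace_one, Fintype.card_fin,
      smul_eq_mul, smul_eq_mul]
    push_cast
    linear_combination hBt - h'

end CfsgLib.Dickson.Small
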