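import Cfsg.Agent.Dickson.Wild
import Cfsg.Agent.Classical.LinearOrder
import Cfsg.Agent.RootSubgroups.SL2Pair
import Mathlib.FieldTheory.Finite.Basic
import Mathlib.FieldTheory.SeparableClosure
import Mathlib.FieldTheory.Finite.GaloisField

set_option autoImplicit false

/-!
The case of a subgroup with an orbit `F₀ ∪ {∞}`: `PSL₂(F₀)` or `PGL₂(F₀)`.
-/

namespace CfsgLib.Dickson

open OnePoint Polynomial

section Hom

variable {K : Type*} [Field K] [DecidableEq K] {L : Type*} [Field L] [DecidableEq L]

theorem mapHom_smul (φ : L →+* K) (g : PGL2 L) (x : OnePoint L) :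
    Matrix.ProjGenLinGroup.map φ g • (OnePoint.map φ x) = OnePoint.map φ (g • x) := by
  induction g using Matrix.ProjGenLinGroup.induction_on with
  | mk g => rw [Matrix.ProjGenLinGroup.map_mk, mk_smul_eq, mk_smul_eq, OnePoint.map_smul φ g x]

theorem mapHom_injective (φ : L →+* K) :
    Function.Injective (Matrix.ProjGenLinGroup.map (n := Fin 2) φ) := by
  rw [injective_iff_map_eq_one]
  intro g hg
  have key : ∀ x : OnePoint L, g • x = x := fun x => by
    apply Option.map_injective φ.injective
    show OnePoint.map φ (g • x) = OnePoint.map φ x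
    rw [← mapHom_smul, hg, one_smul]
  exact eq_one_of_fix3 (key _) (key _) (key _)

/-- An element of `PGL₂(K)` sending `∞, 0, 1` into `L ∪ {∞}` comes from `PGL₂(L)`. -/
theorem mem_range_mapHom (φ : L →+* K) {g : PGL2 K} {x y z : OnePoint L}
    (hx : g • (∞ : OnePoint K) = OnePoint.map φ x)
    (hy : g • ((0 : K) : OnePoint K) = OnePoint.map φ y)
    (hz : g • ((1 : K) : OnePoint K) = OnePoint.map φ z) :
    g ∈ (Matrix.ProjGenLinGroup.map (n := Fin 2) φ).range := by
  have hne : ∀ {a b : OnePoint L} {u v : OnePoint K}, g • u = OnePoint.map φ a →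
      g • v = OnePoint.map φ b → u ≠ v → a ≠ b := fun hu hv huv h =>
    huv (MulAction.injective g (hu.trans ((congrArg _ h).trans hv.symm)))
  obtain ⟨h, h1, h2, h3⟩ := exists_smul_triple (hne hx hy (infty_ne_coe _))
    (hne hx hz (infty_ne_coe _)) (hne hy hz (fun e => zero_ne_one (coe_injective e)))
  have e0 : OnePoint.map φ ((0 : L) : OnePoint L) = ((0 : K) : OnePoint K) := by simp
  have e1 : OnePoint.map φ ((1 : L) : OnePoint L) = ((1 : K) : OnePoint K) := by simp
  refine ⟨h⁻¹, eq_of_eq3 ?_ ?_ ?_⟩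
  · rw [hx, show (∞ : OnePoint K) = OnePoint.map φ (∞ : OnePoint L) from rfl, mapHom_smul,
      ← h1, inv_smul_smul]
  · rw [hy, ← e0, mapHom_smul, ← h2, inv_smul_smul]
  · rw [hz, ← e1, mapHom_smul, ← h3, inv_smul_smul]

theorem toPGL_map (φ : L →+* K) (g : Matrix.SpecialLinearGroup (Fin 2) L) :
    Matrix.ProjGenLinGroup.map φ (Matrix.SpecialLinearGroup.toPGL g) =
      Matrix.SpecialLinearGroup.toPGL (Matrix.SpecialLinearGroup.map φ g) := by
  simp only [MonoidHom.comp_apply, Matrix.ProjGenLinGroup.map_mk]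
  congr 1
  exact Units.ext rfl

end Hom

/-- The image of `PGL₂(L)` in `PGL₂(K)`. -/
def pglImage {K L : Type*} [Field K] [Field L] (φ : L →+* K) : Subgroup (PGL2 K) :=
  (Matrix.ProjGenLinGroup.map (n := Fin 2) φ).range

/-- The image of `PSL₂(L)` in `PGL₂(K)`. -/
def pslImage {K L : Type*} [Field K] [Field L] (φ : L →+* K) : Subgroup (PGL2 K) :=
  ((Matrix.ProjGenLinGroup.map (n := Fin 2) φ).comp
    (Matrix.ProjectiveSpecialLinearGroup.toPGL (n := Fin 2) (R := L))).range

noncomputable def pglImageEquiv {K L : Type*} [Field K] [DecidableEq K] [Field L] [DecidableEq L]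
    (φ : L →+* K) : PGL2 L ≃* pglImage φ :=
  MonoidHom.ofInjective (mapHom_injective φ)

noncomputable def pslImageEquiv {K L : Type*} [Field K] [DecidableEq K] [Field L] [DecidableEq L]
    (φ : L →+* K) : Matrix.ProjectiveSpecialLinearGroup (Fin 2) L ≃* pslImage φ :=
  MonoidHom.ofInjective
    ((mapHom_injective φ).comp Matrix.ProjectiveSpecialLinearGroup.toPGL_injective)

variable {K : Type*} [Field K] [IsAlgClosed K] (p : ℕ) [Fact p.Prime] [CharP K p]

omit [IsAlgClosed K] in
/-- The subfield of elements `x` with `x ^ (p ^ f) = x`. -/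
def frobFix (f : ℕ) : Subfield K :=
  RingHom.eqLocusField (iterateFrobenius K p f) (RingHom.id K)

omit [IsAlgClosed K] in
theorem mem_frobFix {f : ℕ} {x : K} : x ∈ frobFix p f ↔ x ^ p ^ f = x := Iff.rfl

theorem card_frobFix {f : ℕ} (hf : 1 ≤ f) : Nat.card (frobFix (K := K) p f) = p ^ f := by
  classical
  have hp := (Fact.out : p.Prime).one_lt
  have hq : 1 < p ^ f := Nat.one_lt_pow (by omega) hp
  set P : K[X] := X ^ p ^ f - X with hP
  have hdeg : P.natDegree = p ^ f := FiniteField.X_pow_card_pow_sub_X_natDegree_eq K (by omega) hp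
  have hsep : P.Separable := galois_poly_separable p (p ^ f) (dvd_pow_self p (by omega))
  have hne : P ≠ 0 := FiniteField.X_pow_card_pow_sub_X_ne_zero K (by omega) hp
  have hcard : Fintype.card (P.rootSet K) = P.natDegree :=
    card_rootSet_eq_natDegree hsep (IsAlgClosed.splits _)
  rw [hdeg, ← Nat.card_eq_fintype_card] at hcard
  rw [← hcard]
  refine Nat.card_congr (Equiv.subtypeEquivRight fun x => ?_)
  rw [mem_frobFix, Polynomial.mem_rootSet_of_ne hne, hP]
  simp [sub_eq_zero]

theorem finite_frobFix {f : ℕ} (hf : 1 ≤ f) : Finite (frobFix (K := K) p f) :=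
  Nat.finite_of_card_ne_zero (by rw [card_frobFix p hf]; exact pow_ne_zero _ (Nat.Prime.ne_zero Fact.out))

variable [DecidableEq K]

theorem transl_eq_frobFix (H : Subgroup (PGL2 K)) [Finite H] {f : ℕ} (hf : 1 ≤ f)
    (hq : Nat.card (transl H) = p ^ f) (h1 : (1 : K) ∈ transl H)
    (hc : 2 * Nat.card (mults H) = p ^ f - 1 ∨ Nat.card (mults H) = p ^ f - 1) :
    (transl H : Set K) = (frobFix (K := K) p f : Set K) := by
  classical
  have := finite_frobFix (K := K) p hf
  have : Finite (mults H) := mults_finite H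
  set F := frobFix (K := K) p f with hF
  have hcd : Nat.card (mults H) ∣ p ^ f - 1 := by
    rcases hc with h | h
    · exact ⟨2, by omega⟩
    · exact ⟨1, by omega⟩
  have hq0 : 1 ≤ p ^ f := Nat.one_le_pow _ _ (Fact.out : p.Prime).pos
  have hμF : ∀ u ∈ mults H, (u : K) ∈ F := by
    intro u hu
    rw [hF, mem_frobFix]
    obtain ⟨t, ht⟩ := hcd
    have e1 : (⟨u, hu⟩ : mults H) ^ Nat.card (mults H) = 1 := pow_card_eq_one'
    have h' : u ^ Nat.card (mults H) = 1 := congrArg Subtype.val e1
    have e2 : u ^ (p ^ f - 1) = 1 := by rw [ht, pow_mul, h', one_pow]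
    have e3 : (u : K) ^ (p ^ f - 1) = 1 := by rw [← Units.val_pow_eq_pow_val, e2, Units.val_one]
    conv_lhs => rw [← Nat.sub_add_cancel hq0, pow_succ, e3, one_mul]
  have hμT : ∀ u ∈ mults H, (u : K) ∈ transl H := fun u hu => by
    simpa using smul_mem_transl hu h1
  have hcF : Nat.card F = p ^ f := card_frobFix p hf
  -- every element of `F` is a sum of two multipliers or zero
  have hsub : (F : Set K) ⊆ transl H := by
    rcases hc with hc | hc
    · have hodd : ringChar F ≠ 2 := by
        intro h2
        have hp2 : p = 2 := by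
          have : CharP F p := (F.subtype.charP_iff Subtype.val_injective p).2 inferInstance
          rw [ringChar.eq_iff] at h2
          exact CharP.eq F this h2
        subst hp2
        have : 2 ∣ 2 ^ f := dvd_pow_self 2 (by omega)
        omega
      let _ := Fintype.ofFinite F
      -- non-zero squares are multipliers
      have hsq : ∀ y : F, y ≠ 0 → ((y : K)) ^ 2 ∈ transl H := by
        intro y hy
        have hy' : (y : K) ≠ 0 := fun h => hy (Subtype.ext h)
        set v : Kˣ := (Units.mk0 _ hy') ^ 2 with hv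
        have hvc : v ^ Nat.card (mults H) = 1 := by
          rw [hv, ← pow_mul, hc]
          apply Units.ext
          rw [Units.val_pow_eq_pow_val, Units.val_mk0, Units.val_one]
          have := mem_frobFix p |>.1 y.2
          rw [← Nat.sub_add_cancel hq0, pow_succ] at this
          exact mul_right_cancel₀ hy' (this.trans (one_mul _).symm)
        have hmem : v ∈ mults H := by
          by_contra hnot
          let μ : Finset Kˣ := (Set.finite_coe_iff.1 (show Finite (mults H) from inferInstance) :
            (mults H : Set Kˣ).Finite).toFinset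
          have hμ : μ.card = Nat.card (mults H) :=
            (Set.ncard_eq_toFinset_card _ _).symm.trans (Nat.card_coe_set_eq _).symm
          have hsub : (insert v μ).image (fun u : Kˣ => (u : K)) ⊆
              (nthRoots (Nat.card (mults H)) (1 : K)).toFinset := by
            intro x hx
            obtain ⟨u, hu, rfl⟩ := Finset.mem_image.1 hx
            rw [Multiset.mem_toFinset, mem_nthRoots Nat.card_pos, ← Units.val_pow_eq_pow_val]
            rcases Finset.mem_insert.1 hu with rfl | hu
            · rw [hvc, Units.val_one]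
            · have hu' : u ∈ mults H := (Set.Finite.mem_toFinset _).1 hu
              have e1 : (⟨u, hu'⟩ : mults H) ^ Nat.card (mults H) = 1 := pow_card_eq_one'
              rw [show u ^ Nat.card (mults H) = 1 from congrArg Subtype.val e1, Units.val_one]
          have := (Finset.card_le_card hsub).trans ((Multiset.toFinset_card_le _).trans (card_nthRoots _ _))
          rw [Finset.card_image_of_injective _ Units.val_injective,
            Finset.card_insert_of_notMem (fun h => hnot ((Set.Finite.mem_toFinset _).1 h)), hμ] at this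
          omega
        simpa [hv] using hμT v hmem
      have hsq' : ∀ y : F, ((y : K)) ^ 2 ∈ transl H := fun y => by
        by_cases hy : y = 0
        · subst hy; simp
        · exact hsq y hy
      intro x hx
      obtain ⟨a, b, hab⟩ := FiniteField.exists_root_sum_quadratic (R := F) (f := X ^ 2)
        (g := X ^ 2 - C (⟨x, hx⟩ : F)) (degree_X_pow 2) (degree_X_pow_sub_C (by norm_num) _) (by
          rw [← Nat.card_eq_fintype_card, hcF]
          rcases Nat.mod_two_eq_zero_or_one (p ^ f) with h | h
          · omega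
          · exact h)
      simp only [eval_pow, eval_X, eval_sub, eval_C] at hab
      have e : x = (a : K) ^ 2 + (b : K) ^ 2 := by
        have := congrArg (fun t : F => (t : K)) hab
        simp only [Subfield.coe_add, Subfield.coe_sub, SubmonoidClass.coe_pow, ZeroMemClass.coe_zero] at this
        linear_combination -this
      rw [e]; exact add_mem (hsq' a) (hsq' b)
    · intro x hx
      by_cases hx0 : x = 0
      · subst hx0; exact zero_mem _
      let A : Set K := (fun u : Kˣ => (u : K)) '' (mults H : Set Kˣ)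
      have hA : A = (F : Set K) \ {0} := by
        refine Set.eq_of_subset_of_ncard_le ?_ ?_ ((Set.finite_coe_iff.1 (show Finite F from inferInstance)).subset Set.sdiff_subset)
        · rintro _ ⟨u, hu, rfl⟩; exact ⟨hμF u hu, u.ne_zero⟩
        · rw [Set.ncard_sdiff_singleton_of_mem (show (0 : K) ∈ (F : Set K) from zero_mem F),
            Set.ncard_image_of_injective _ Units.val_injective, ← Nat.card_coe_set_eq, ← Nat.card_coe_set_eq]
          show Nat.card F - 1 ≤ Nat.card (mults H)
          omega
      have : x ∈ A := by rw [hA]; exact ⟨hx, hx0⟩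
      obtain ⟨u, hu, rfl⟩ := this
      exact hμT u hu
  refine (Set.eq_of_subset_of_ncard_le hsub ?_ ?_).symm
  · rw [← Nat.card_coe_set_eq, ← Nat.card_coe_set_eq]
    exact hq.le.trans hcF.ge
  · exact Set.finite_coe_iff.1 (transl_finite H)

/-- A subgroup with orbit `F₀ ∪ {∞}` and the right order is `PSL₂(F₀)` or `PGL₂(F₀)`. -/
theorem subfield_case (H : Subgroup (PGL2 K)) [Finite H] {f : ℕ} (hf : 1 ≤ f)
    (hq : Nat.card (transl H) = p ^ f) (h1 : (1 : K) ∈ transl H)
    (hc : 2 * Nat.card (mults H) = p ^ f - 1 ∨ Nat.card (mults H) = p ^ f - 1)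
    (horb : orb H (∞ : OnePoint K) = insert ∞ ((fun x : K => (x : OnePoint K)) '' transl H))
    (hcard : Nat.card H = p ^ f * Nat.card (mults H) * (p ^ f + 1)) :
    H = pglImage (frobFix (K := K) p f).subtype ∨
      (p ≠ 2 ∧ H = pslImage (frobFix (K := K) p f).subtype) := by
  classical
  have := finite_frobFix (K := K) p hf
  let F := frobFix (K := K) p f
  let _ := Fintype.ofFinite F
  have hE := transl_eq_frobFix p H hf hq h1 hc
  have horb' : ∀ g ∈ H, ∀ v ∈ orb H (∞ : OnePoint K),
      ∃ w : OnePoint F, g • v = OnePoint.map F.subtype w := by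
    intro g hg v hv
    obtain ⟨h, hh, rfl⟩ := mem_orb.1 hv
    have : g • h • (∞ : OnePoint K) ∈ orb H ∞ := mem_orb.2 ⟨g * h, mul_mem hg hh, mul_smul _ _ _⟩
    rw [horb, hE] at this
    rcases this with e | ⟨t, ht, e⟩
    · exact ⟨∞, e⟩
    · exact ⟨((⟨t, ht⟩ : F) : OnePoint F), e.symm⟩
  have hmem : ∀ v : K, v ∈ F → (v : OnePoint K) ∈ orb H ∞ := fun v hv => by
    rw [horb, hE]; exact Or.inr ⟨v, hv, rfl⟩
  have hle : H ≤ pglImage F.subtype := by
    intro g hg
    obtain ⟨a, ha⟩ := horb' g hg ∞ (mem_orb_self H ∞)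
    obtain ⟨b, hb⟩ := horb' g hg _ (hmem 0 (zero_mem F))
    obtain ⟨c, hc⟩ := horb' g hg _ (hmem 1 (one_mem F))
    exact mem_range_mapHom F.subtype ha hb hc
  have hq2 : 2 ≤ p ^ f := le_trans (Fact.out : p.Prime).two_le (Nat.le_self_pow (by omega) p)
  have hFcard : Fintype.card F = p ^ f := by rw [← Nat.card_eq_fintype_card]; exact card_frobFix p hf
  have hR : Nat.card (pglImage F.subtype) = p ^ f * (p ^ f - 1) * (p ^ f + 1) := by
    rw [← Nat.card_congr (pglImageEquiv F.subtype).toEquiv, CfsgLib.Linear.card_PGL]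
    have h := CfsgLib.Linear.card_SL_mul hFcard 2 (by norm_num)
    simp [Fin.prod_univ_two] at h
    rw [← Nat.card_eq_fintype_card] at h
    obtain ⟨r, hr⟩ : ∃ r, p ^ f = r + 2 := ⟨p ^ f - 2, by omega⟩
    rw [hr] at h ⊢
    simp only [show r + 2 - 1 = r + 1 by omega] at h ⊢
    have h2 : (r + 2) ^ 2 - 1 = (r + 1) * (r + 3) := by
      have : (r + 2) ^ 2 = (r + 1) * (r + 3) + 1 := by ring
      omega
    have h3 : (r + 2) ^ 2 - (r + 2) = (r + 2) * (r + 1) := by
      have : (r + 2) ^ 2 = (r + 2) * (r + 1) + (r + 2) := by ring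
      omega
    rw [h2, h3] at h
    have : (r + 1) * Nat.card (Matrix.SpecialLinearGroup (Fin 2) F) =
        (r + 1) * ((r + 2) * (r + 1) * (r + 3)) := by rw [h]; ring
    exact Nat.eq_of_mul_eq_mul_left (by omega) this
  have hRfin : Finite (pglImage F.subtype) := Nat.finite_of_card_ne_zero (by
    rw [hR]
    have : 0 < p ^ f - 1 := by omega
    positivity)
  rcases hc with hc | hc
  swap
  · left
    refine Subgroup.eq_of_le_of_card_ge hle ?_
    rw [hR, hcard, hc]
  right
  have hp2 : p ≠ 2 := by
    rintro rfl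
    have : 2 ∣ 2 ^ f := dvd_pow_self 2 (by omega)
    omega
  refine ⟨hp2, ?_⟩
  have hidx : (H.subgroupOf (pglImage F.subtype)).index = 2 := by
    have h := (H.subgroupOf (pglImage F.subtype)).card_mul_index
    rw [Nat.card_congr (Subgroup.subgroupOfEquivOfLe hle).toEquiv, hR, hcard, ← hc] at h
    have hpos : 0 < p ^ f * Nat.card (mults H) * (p ^ f + 1) := hcard ▸ Nat.card_pos
    nlinarith
  have hpsl : pslImage F.subtype ≤ H := by
    rintro _ ⟨g, rfl⟩
    obtain ⟨g, rfl⟩ := QuotientGroup.mk_surjective g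
    let Φ := (Matrix.ProjGenLinGroup.map (n := Fin 2) F.subtype).comp
      (Matrix.SpecialLinearGroup.toPGL (n := Fin 2) (R := F))
    suffices h : (⊤ : Subgroup (Matrix.SpecialLinearGroup (Fin 2) F)) ≤ H.comap Φ from
      h (Subgroup.mem_top g)
    have h2F : (2 : F) ≠ 0 := by
      intro h0
      have : CharP F p := (F.subtype.charP_iff Subtype.val_injective p).2 inferInstance
      have : p ∣ 2 := (CharP.cast_eq_zero_iff F p 2).1 (by exact_mod_cast h0)
      exact hp2 ((Nat.prime_dvd_prime_iff_eq Fact.out Nat.prime_two).1 this)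
    have sq : ∀ x : Matrix.SpecialLinearGroup (Fin 2) F, x * x ∈ H.comap Φ := by
      intro x
      show Φ (x * x) ∈ H
      rw [map_mul]
      have hx : Φ x ∈ pglImage F.subtype := ⟨Matrix.SpecialLinearGroup.toPGL x, rfl⟩
      exact Subgroup.mem_subgroupOf.1
        (Subgroup.mul_self_mem_of_index_two hidx (⟨Φ x, hx⟩ : pglImage F.subtype))
    rw [← CfsgLib.SL2Pair.sup_eq_top]
    refine sup_le ?_ ?_
    · intro x hx
      obtain ⟨t, rfl⟩ := CfsgLib.SL2Pair.mem_lower.1 hx
      have := sq (CfsgLib.SL2Pair.low (t / 2))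
      rwa [CfsgLib.SL2Pair.low_mul, ← two_mul, mul_div_cancel₀ _ h2F] at this
    · intro x hx
      obtain ⟨t, rfl⟩ := CfsgLib.SL2Pair.mem_upper.1 hx
      have := sq (CfsgLib.SL2Pair.up (t / 2))
      rwa [CfsgLib.SL2Pair.up_mul, ← two_mul, mul_div_cancel₀ _ h2F] at this
  refine (Subgroup.eq_of_le_of_card_ge hpsl ?_).symm
  rw [← Nat.card_congr (pslImageEquiv F.subtype).toEquiv]
  have hg := CfsgLib.Linear.gcd_mul_card_PSL (ι := Fin 2) (F := F)
  rw [Fintype.card_fin, Nat.card_eq_fintype_card (α := F), hFcard,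
    Nat.gcd_eq_left (by omega), ← CfsgLib.Linear.card_PGL, Nat.card_congr (pglImageEquiv F.subtype).toEquiv,
    hR] at hg
  rw [hcard]
  have : 2 * Nat.card (Matrix.ProjectiveSpecialLinearGroup (Fin 2) F) =
      2 * (p ^ f * Nat.card (mults H) * (p ^ f + 1)) := by rw [hg, ← hc]; ring
  omega

end CfsgLib.Dickson
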