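import Cfsg.Agent.Dickson.PGLSub
import Cfsg.Agent.Classical.PSLTwoTorus

/-!
The two classes of maximal tori of `PGL₂(q)` and their normalisers, as stabilisers of pairs of
points of the projective line over an algebraic closure.
-/

set_option autoImplicit false
set_option linter.unusedSectionVars false

namespace CfsgLib.Dickson.Torus

open OnePoint

/-- `PSL₂` inside `PGL₂`. -/
abbrev pslTop (F : Type*) [Field F] : Subgroup (PGL2 F) :=
  (Matrix.ProjectiveSpecialLinearGroup.toPGL (n := Fin 2) (R := F)).range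

theorem pslTop_eq (F : Type*) [Field F] :
    (Matrix.ProjGenLinGroup.mk.comp Matrix.SpecialLinearGroup.toGL).range = pslTop F := by
  ext x
  constructor
  · rintro ⟨A, rfl⟩; exact ⟨QuotientGroup.mk A, rfl⟩
  · rintro ⟨y, rfl⟩
    obtain ⟨A, rfl⟩ := QuotientGroup.mk_surjective y
    exact ⟨A, rfl⟩

theorem card_pslTop (F : Type*) [Field F] : Nat.card (pslTop F) = Nat.card (PSL2 F) :=
  (Nat.card_congr (MonoidHom.ofInjective
    Matrix.ProjectiveSpecialLinearGroup.toPGL_injective).toEquiv).symm

theorem finite_pgl (F : Type*) [Field F] [Finite F] : Finite (PGL2 F) :=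
  Finite.of_surjective _ Matrix.ProjGenLinGroup.mk_surjective

theorem index_pslTop (F : Type*) [Field F] [Finite F] :
    (pslTop F).index = Nat.gcd 2 (Nat.card F - 1) := by
  have := finite_pgl F
  have h := (pslTop F).card_mul_index
  rw [card_pslTop, CfsgLib.Linear.PSLTwo.card_pgl, ← CfsgLib.Linear.PSLTwo.mul_card (F := F),
    mul_comm] at h
  exact Nat.eq_of_mul_eq_mul_right Nat.card_pos h

theorem pslTop_normal (F : Type*) [Field F] [Finite F] : (pslTop F).Normal := by
  rcases CfsgLib.Linear.PSLTwo.gcd_cases (F := F) with h | h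
  · rw [Subgroup.index_eq_one.1 ((index_pslTop F).trans h)]
    infer_instance
  · exact Subgroup.normal_of_index_eq_two ((index_pslTop F).trans h)

/-- Half of a subgroup lies in a subgroup of index two not containing it. -/
theorem two_mul_card_inf {G : Type*} [Group G] [Finite G] (L C : Subgroup G) (hL : L.index = 2)
    (hC : ¬ C ≤ L) : 2 * Nat.card (C ⊓ L : Subgroup G) = Nat.card C := by
  have : L.Normal := Subgroup.normal_of_index_eq_two hL
  have h2 : L.relIndex C = 2 := by
    rcases (Nat.dvd_prime Nat.prime_two).1 (hL ▸ L.relIndex_dvd_index_of_normal C) with h | h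
    · exact absurd (Subgroup.relIndex_eq_one.1 h) hC
    · exact h
  have h := (L.subgroupOf C).card_mul_index
  rw [show (L.subgroupOf C).index = 2 from h2] at h
  have e : Nat.card (L.subgroupOf C) = Nat.card (C ⊓ L : Subgroup G) :=
    Nat.card_congr
      { toFun := fun g => ⟨g.1.1, g.1.2, g.2⟩
        invFun := fun g => ⟨⟨g.1, g.2.1⟩, g.2.2⟩
        left_inv := fun _ => rfl
        right_inv := fun _ => rfl }
  omega

variable {F K : Type*} [Field F] [DecidableEq F] [Field K] [DecidableEq K] (φ : F →+* K)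

local notation "Φ" => Matrix.ProjGenLinGroup.map (n := Fin 2) φ

/-- The rational transformations fixing `x` and `y`. -/
def pairFix (x y : OnePoint K) : Subgroup (PGL2 F) :=
  (MulAction.stabilizer (PGL2 K) x ⊓ MulAction.stabilizer (PGL2 K) y).comap Φ

/-- The rational transformations preserving `{x, y}`. -/
def pairPres (x y : OnePoint K) : Subgroup (PGL2 F) where
  carrier := {g | (Φ g • x = x ∧ Φ g • y = y) ∨ (Φ g • x = y ∧ Φ g • y = x)}
  one_mem' := Or.inl ⟨by simp, by simp⟩
  mul_mem' := by
    intro g h hg hh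
    simp only [Set.mem_setOf_eq, map_mul, mul_smul] at hg hh ⊢
    rcases hh with ⟨h1, h2⟩ | ⟨h1, h2⟩ <;> rcases hg with ⟨g1, g2⟩ | ⟨g1, g2⟩
    · exact Or.inl ⟨by rw [h1, g1], by rw [h2, g2]⟩
    · exact Or.inr ⟨by rw [h1, g1], by rw [h2, g2]⟩
    · exact Or.inr ⟨by rw [h1, g2], by rw [h2, g1]⟩
    · exact Or.inl ⟨by rw [h1, g2], by rw [h2, g1]⟩
  inv_mem' := by
    intro g hg
    simp only [Set.mem_setOf_eq, map_inv, inv_smul_eq_iff] at hg ⊢
    rcases hg with ⟨g1, g2⟩ | ⟨g1, g2⟩
    · exact Or.inl ⟨g1.symm, g2.symm⟩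
    · exact Or.inr ⟨g2.symm, g1.symm⟩

theorem pairFix_le (x y : OnePoint K) : pairFix φ x y ≤ pairPres φ x y := fun _ hg => Or.inl hg

variable [Finite F]

theorem dihedral_of_le {x y : OnePoint K} (hxy : x ≠ y) (M : Subgroup (PGL2 F))
    (hM : M ≤ pairPres φ x y) (hs : ∃ s ∈ M, Φ s • x = y) :
    Nonempty (M ≃* DihedralGroup (Nat.card (M ⊓ pairFix φ x y : Subgroup (PGL2 F)))) := by
  have := finite_pgl F
  let e := M.equivMapOfInjective Φ (mapHom_injective φ)
  have : Finite (M.map Φ) := Finite.of_equiv _ e.toEquiv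
  obtain ⟨d⟩ := dihedral_of_pair (M.map Φ) hxy (by rintro _ ⟨g, hg, rfl⟩; exact hM hg)
    (by obtain ⟨s, hs, h⟩ := hs; exact ⟨_, ⟨s, hs, rfl⟩, h⟩)
  have hst : stab (M.map Φ) x = (M ⊓ pairFix φ x y).map Φ := by
    ext z
    constructor
    · rintro ⟨⟨g, hg, rfl⟩, hz⟩
      refine ⟨g, ⟨hg, hz, ?_⟩, rfl⟩
      rcases hM hg with h | h
      · exact h.2
      · exact absurd (hz.symm.trans h.1) hxy
    · rintro ⟨g, ⟨hg, hg'⟩, rfl⟩
      exact ⟨⟨g, hg, rfl⟩, hg'.1⟩
  rw [hst, ← Nat.card_congr ((M ⊓ pairFix φ x y).equivMapOfInjective Φ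
    (mapHom_injective φ)).toEquiv] at d
  exact ⟨e.trans d⟩

theorem card_of_dihedral {G : Type*} [Group G] {c : ℕ} (e : G ≃* DihedralGroup c) :
    Nat.card G = 2 * c := by
  rw [Nat.card_congr e.toEquiv, DihedralGroup.nat_card]

variable [IsAlgClosed K] (p : ℕ) [Fact p.Prime] [CharP F p]

/-- A torus and the data of its normaliser: a pair of points, with the order of the group fixing
both and an element interchanging them. -/
theorem exists_pair (g : PGL2 F) (hg : g ≠ 1) (hp : ¬ p ∣ orderOf g) :
    ∃ x y : OnePoint K, x ≠ y ∧ fix (Φ g) = {x, y} ∧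
      (Nat.card (pairFix φ x y) + 1 = Nat.card F ∨
        Nat.card (pairFix φ x y) = Nat.card F + 1) ∧
      ∃ s, Φ s • x = y ∧ Φ s • y = x := by
  have : CharP K p := (φ.charP_iff φ.injective p).1 inferInstance
  have := finite_pgl F
  have hΦ := mapHom_injective φ
  have hg1 : Φ g ≠ 1 := fun h => hg (hΦ (h.trans (map_one _).symm))
  obtain ⟨x, y, hxy, hfix⟩ : ∃ x y, x ≠ y ∧ fix (Φ g) = {x, y} := by
    rcases ncard_fix hg1 with h | h
    · obtain ⟨x, hx⟩ := Set.ncard_eq_one.1 h
      have := orderOf_of_fix_eq_singleton p hg1 hx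
      rw [orderOf_injective _ hΦ] at this
      exact absurd (this ▸ dvd_refl p) hp
    · obtain ⟨x, y, hxy, h⟩ := Set.ncard_eq_two.1 h
      exact ⟨x, y, hxy, h⟩
  obtain ⟨n, hn⟩ : ∃ n : ℕ, 1 ≤ n ∧ Nat.card F = p ^ n := by
    cases nonempty_fintype F
    obtain ⟨n, -, hn⟩ := FiniteField.card F p
    exact ⟨n, n.pos, by rw [Nat.card_eq_fintype_card, hn]⟩
  let σ : K →+* K := iterateFrobenius K p n
  have hσ : ∀ u : F, σ (φ u) = φ u := fun u => by
    cases nonempty_fintype F
    show (φ u) ^ p ^ n = _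
    rw [← map_pow, ← hn.2, Nat.card_eq_fintype_card, FiniteField.pow_card]
  have heq : ∀ (h : PGL2 F) (z : OnePoint K),
      Φ h • OnePoint.map σ z = OnePoint.map σ (Φ h • z) := fun h z => by
    rw [← mapHom_smul, ← mapHom_comp, show σ.comp φ = φ from RingHom.ext hσ]
  have hmaps : ∀ z ∈ fix (Φ g), OnePoint.map σ z ∈ fix (Φ g) := fun z hz => by
    show _ • _ = _
    rw [heq, show Φ g • z = z from hz]
  by_cases hrat : (∃ a, x = OnePoint.map φ a) ∧ ∃ b, y = OnePoint.map φ b
  · -- a split torus
    obtain ⟨⟨a, rfl⟩, b, rfl⟩ := hrat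
    obtain ⟨k, hk1, hk2⟩ := exists_smul_pair (x := a) (y := b) (fun h => hxy (h ▸ rfl))
    refine ⟨_, _, hxy, hfix, Or.inl ?_, k⁻¹ * mob 0 1 1 0 (by simp) * k, ?_, ?_⟩
    · have e : pairFix φ (OnePoint.map φ a) (OnePoint.map φ b) =
          (MulAction.stabilizer (PGL2 F) a ⊓ MulAction.stabilizer (PGL2 F) b) := by
        ext h
        show (_ • _ = _ ∧ _ • _ = _) ↔ (h • a = a ∧ h • b = b)
        rw [mapHom_smul, mapHom_smul]
        exact and_congr (Option.map_injective φ.injective).eq_iff
          (Option.map_injective φ.injective).eq_iff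
      rw [e]
      let f : Fˣ → (MulAction.stabilizer (PGL2 F) a ⊓ MulAction.stabilizer (PGL2 F) b :
          Subgroup (PGL2 F)) := fun u => ⟨k⁻¹ * aff u 0 * k, by
        show (k⁻¹ * aff u 0 * k) • a = a
        rw [mul_smul, mul_smul, hk1, aff_smul_infty, ← hk1, inv_smul_smul], by
        show (k⁻¹ * aff u 0 * k) • b = b
        rw [mul_smul, mul_smul, hk2, aff_smul_coe, mul_zero, add_zero, ← hk2, inv_smul_smul]⟩
      have hf : Function.Bijective f := by
        refine ⟨fun u v h => ?_, fun ⟨h, h1, h2⟩ => ?_⟩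
        · exact (aff_inj (mul_left_cancel (mul_right_cancel (congrArg Subtype.val h)))).1
        · obtain ⟨u, hu⟩ := eq_dil_of_fix (g := k * h * k⁻¹)
            (by rw [← hk1, mul_smul, mul_smul, inv_smul_smul, show h • a = a from h1])
            (by rw [← hk2, mul_smul, mul_smul, inv_smul_smul, show h • b = b from h2])
          exact ⟨u, Subtype.ext (by show k⁻¹ * aff u 0 * k = h; rw [← hu]; group)⟩
      rw [← Nat.card_congr (Equiv.ofBijective f hf), Nat.card_units]
      have := Finite.one_lt_card (α := F)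
      omega
    · rw [mapHom_smul, mul_smul, mul_smul, hk1, mob_smul_infty]
      congr 1
      rw [inv_smul_eq_iff, hk2]
      simp
    · rw [mapHom_smul, mul_smul, mul_smul, hk2, mob_smul_coe]
      congr 1
      rw [inv_smul_eq_iff, hk1]
      simp
  · -- a non-split torus
    obtain ⟨x', y', hxy', hfix', hx'⟩ : ∃ x' y', x' ≠ y' ∧ fix (Φ g) = {x', y'} ∧
        ¬ ∃ a, x' = OnePoint.map φ a := by
      by_cases hx : ∃ a, x = OnePoint.map φ a
      · exact ⟨y, x, hxy.symm, by rw [hfix, Set.pair_comm], fun hy => hrat ⟨hx, hy⟩⟩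
      · exact ⟨x, y, hxy, hfix, hx⟩
    clear hrat hfix hxy x y
    rcases x' with _ | t
    · exact absurd ⟨∞, rfl⟩ hx'
    replace hx' : ∀ u : F, φ u ≠ t := fun u hu => hx' ⟨(u : OnePoint F), by
      rw [OnePoint.map_some, hu]; rfl⟩
    refine ⟨(t : OnePoint K), y', hxy', hfix', ?_⟩
    have hfixed : ∀ s : K, σ s = s → ∃ u : F, φ u = s := by
      intro s hs
      have hfin := finite_frobFix (K := K) p hn.1
      let j : F → frobFix (K := K) p n := fun u => ⟨φ u, hσ u⟩
      have hj : Function.Bijective j :=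
        (Nat.bijective_iff_injective_and_card j).2 ⟨fun u v h =>
          φ.injective (congrArg Subtype.val h), by rw [card_frobFix p hn.1, hn.2]⟩
      obtain ⟨u, hu⟩ := hj.2 ⟨s, hs⟩
      exact ⟨u, congrArg Subtype.val hu⟩
    have hσt : σ t ≠ t := fun h => by
      obtain ⟨u, hu⟩ := hfixed t h
      exact hx' u hu
    have hy : y' = ((σ t : K) : OnePoint K) := by
      have h := hmaps (t : OnePoint K) (hfix' ▸ Or.inl rfl)
      rw [hfix', OnePoint.map_some] at h
      rcases h with h | h
      · exact absurd (coe_injective h) hσt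
      · exact h.symm
    subst hy
    have hσσ : σ (σ t) = t := by
      have h := hmaps ((σ t : K) : OnePoint K) (hfix' ▸ Or.inr rfl)
      rw [hfix', OnePoint.map_some] at h
      rcases h with h | h
      · exact coe_injective h
      · exact absurd (σ.injective (coe_injective h)) hσt
    -- the orbit of `t`
    let j : F × F → frobFix (K := K) p (n + n) := fun uv => ⟨φ uv.1 * t + φ uv.2, by
      show (_ : K) ^ p ^ (n + n) = _
      rw [← iterateFrobenius_def, iterateFrobenius_add_apply]
      show σ (σ _) = _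
      rw [map_add, map_mul, map_add, map_mul, hσ, hσ, hσ, hσ, hσσ]; rfl⟩
    have hfin2 := finite_frobFix (K := K) p (show 1 ≤ n + n by omega)
    have hjinj : Function.Injective j := by
      rintro ⟨u, v⟩ ⟨u', v'⟩ h
      have h' : φ u * t + φ v = φ u' * t + φ v' := congrArg Subtype.val h
      rcases eq_or_ne u u' with rfl | hu
      · rw [φ.injective (add_left_cancel h')]
      · exfalso
        have hne : φ u - φ u' ≠ 0 := sub_ne_zero.2 fun e => hu (φ.injective e)
        refine hx' ((v' - v) / (u - u')) ?_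
        rw [map_div₀, map_sub, map_sub, div_eq_iff hne]
        linear_combination -h'
    have hj : Function.Bijective j :=
      (Nat.bijective_iff_injective_and_card j).2 ⟨hjinj, by
        rw [card_frobFix p (show 1 ≤ n + n by omega), Nat.card_prod, hn.2, pow_add]⟩
    have horb : orb (Φ).range (t : OnePoint K) =
        Set.range fun uv : Fˣ × F => ((φ uv.1 * t + φ uv.2 : K) : OnePoint K) := by
      ext z
      constructor
      · intro hz
        obtain ⟨_, ⟨h, rfl⟩, rfl⟩ := mem_orb.1 hz
        have hz2 : OnePoint.map σ (OnePoint.map σ (Φ h • (t : OnePoint K))) =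
            Φ h • (t : OnePoint K) := by
          rw [← heq, ← heq, OnePoint.map_some, OnePoint.map_some, hσσ]
        have hne : ∀ a : OnePoint F, Φ h • (t : OnePoint K) ≠ OnePoint.map φ a := by
          intro a ha
          rw [← eq_inv_smul_iff, ← map_inv, mapHom_smul] at ha
          generalize h⁻¹ • a = b at ha
          rcases b with _ | u
          · exact coe_ne_infty _ ha
          · exact hx' u (coe_injective ha).symm
        rcases hz' : Φ h • (t : OnePoint K) with _ | s
        · exact absurd hz' (hne ∞)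
        · rw [hz', show OnePoint.map σ (Option.some s : OnePoint K) = ((σ s : K) : OnePoint K) from rfl,
            OnePoint.map_some] at hz2
          obtain ⟨⟨u, v⟩, huv⟩ := hj.2 ⟨s, by
            show s ^ p ^ (n + n) = s
            rw [← iterateFrobenius_def, iterateFrobenius_add_apply]
            exact coe_injective hz2⟩
          have hs : φ u * t + φ v = s := congrArg Subtype.val huv
          rcases eq_or_ne u 0 with rfl | hu
          · rw [map_zero, zero_mul, zero_add] at hs
            exact absurd (hz'.trans (by rw [OnePoint.map_some, hs]; rfl)) (hne (v : OnePoint F))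
          · exact ⟨(Units.mk0 u hu, v), congrArg ((↑) : K → OnePoint K) hs⟩
      · rintro ⟨⟨u, v⟩, rfl⟩
        refine mem_orb.2 ⟨Φ (aff u v), ⟨_, rfl⟩, ?_⟩
        have e : Φ (aff u v) = aff (Units.map φ.toMonoidHom u) (φ v) := by
          apply eq_of_eq3
          · rw [show (∞ : OnePoint K) = OnePoint.map φ ∞ from rfl, mapHom_smul, aff_smul_infty]
            exact (aff_smul_infty _ _).symm
          · rw [show ((0 : K) : OnePoint K) = OnePoint.map φ ((0 : F) : OnePoint F) by simp,
              mapHom_smul, aff_smul_coe, OnePoint.map_some, OnePoint.map_some, aff_smul_coe]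
            simp
          · rw [show ((1 : K) : OnePoint K) = OnePoint.map φ ((1 : F) : OnePoint F) by simp,
              mapHom_smul, aff_smul_coe, OnePoint.map_some, OnePoint.map_some, aff_smul_coe]
            simp
        rw [e, aff_smul_coe]
        rfl
    have hncard : (orb (Φ).range (t : OnePoint K)).ncard = (Nat.card F - 1) * Nat.card F := by
      rw [horb, Set.ncard_range_of_injective, Nat.card_prod, Nat.card_units]
      rintro ⟨u, v⟩ ⟨u', v'⟩ h
      obtain ⟨h1, h2⟩ := Prod.ext_iff.1 (hjinj (Subtype.ext (coe_injective h) :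
        j ((u : F), v) = j ((u' : F), v')))
      exact Prod.ext (Units.ext h1) h2
    have hstab : Nat.card (stab (Φ).range (t : OnePoint K)) =
        Nat.card (pairFix φ (t : OnePoint K) ((σ t : K) : OnePoint K)) := by
      have : stab (Φ).range (t : OnePoint K) =
          (pairFix φ (t : OnePoint K) ((σ t : K) : OnePoint K)).map Φ := by
        ext z
        constructor
        · rintro ⟨⟨h, rfl⟩, hz⟩
          refine ⟨h, ⟨hz, ?_⟩, rfl⟩
          show Φ h • ((σ t : K) : OnePoint K) = _
          rw [show ((σ t : K) : OnePoint K) = OnePoint.map σ (t : OnePoint K) from rfl, heq,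
            show Φ h • (t : OnePoint K) = _ from hz]
        · rintro ⟨h, hh, rfl⟩
          exact ⟨⟨h, rfl⟩, hh.1⟩
      rw [this, ← Nat.card_congr ((pairFix φ _ _).equivMapOfInjective Φ hΦ).toEquiv]
    refine ⟨Or.inr ?_, aff (-1) ?_, ?_⟩
    · have h := card_orb_mul_card_stab (Φ).range (t : OnePoint K)
      rw [hncard, hstab, ← Nat.card_congr (MonoidHom.ofInjective hΦ).toEquiv,
        CfsgLib.Linear.PSLTwo.card_pgl, CfsgLib.Linear.PSLTwo.sq_sub_one] at h
      have := Finite.one_lt_card (α := F)
      refine Nat.eq_of_mul_eq_mul_left (n := (Nat.card F - 1) * Nat.card F)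
        (Nat.mul_pos (by omega) (by omega)) (h.trans ?_)
      ring
    · exact Classical.choose (hfixed (σ t + t) (by rw [map_add, hσσ, add_comm]))
    have hv := Classical.choose_spec (hfixed (σ t + t) (by rw [map_add, hσσ, add_comm]))
    set v := Classical.choose (hfixed (σ t + t) (by rw [map_add, hσσ, add_comm]))
    have e : Φ (aff (-1) v) = aff (-1) (φ v) := by
      apply eq_of_eq3
      · rw [show (∞ : OnePoint K) = OnePoint.map φ ∞ from rfl, mapHom_smul, aff_smul_infty]
        exact (aff_smul_infty _ _).symm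
      · rw [show ((0 : K) : OnePoint K) = OnePoint.map φ ((0 : F) : OnePoint F) by simp,
          mapHom_smul, aff_smul_coe, OnePoint.map_some, OnePoint.map_some, aff_smul_coe]
        simp
      · rw [show ((1 : K) : OnePoint K) = OnePoint.map φ ((1 : F) : OnePoint F) by simp,
          mapHom_smul, aff_smul_coe, OnePoint.map_some, OnePoint.map_some, aff_smul_coe]
        simp
    rw [e, aff_smul_coe, aff_smul_coe, hv]
    exact ⟨congrArg _ (by simp), congrArg _ (by simp)⟩

/-- The normaliser of a torus of `PGL₂(F)`, with its intersection with `PSL₂(F)`. -/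
theorem exists_torus {K : Type*} [Field K] [DecidableEq K] [IsAlgClosed K] (φ : F →+* K)
    (g : PGL2 F) (hg : g ≠ 1) (hp : ¬ p ∣ orderOf g) :
    ∃ (N : Subgroup (PGL2 F)) (c : ℕ), (c + 1 = Nat.card F ∨ c = Nat.card F + 1) ∧
      Nonempty (N ≃* DihedralGroup c) ∧
      (Nat.gcd 2 (Nat.card F - 1) = 2 → 4 ≤ Nat.card F →
        ¬ N ≤ pslTop F ∧ Nonempty ((N ⊓ pslTop F : Subgroup (PGL2 F)) ≃* DihedralGroup (c / 2))) ∧
      (∀ h, (∃ i : ℕ, h * g * h⁻¹ = g ^ i) → h ∈ N) := by
  have := finite_pgl F
  obtain ⟨x, y, hxy, hfix, hc, s, hs1, hs2⟩ := exists_pair φ p g hg hp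
  set N := pairPres φ x y
  set C := pairFix φ x y with hC
  have hsN : s ∈ N := Or.inr ⟨hs1, hs2⟩
  obtain ⟨d⟩ := dihedral_of_le φ hxy N le_rfl ⟨s, hsN, hs1⟩
  rw [show N ⊓ pairFix φ x y = C from inf_eq_right.2 (pairFix_le φ x y)] at d
  refine ⟨N, Nat.card C, hc, ⟨d⟩, fun hd h4 => ?_, fun h ⟨i, hi⟩ => ?_⟩
  · have hidx : (pslTop F).index = 2 := (index_pslTop F).trans hd
    have hCL : ¬ C ≤ pslTop F := by
      intro hle
      have hcyc : IsCyclic (C.map (Matrix.ProjGenLinGroup.map (n := Fin 2) φ)) := by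
        have : Finite (C.map (Matrix.ProjGenLinGroup.map (n := Fin 2) φ)) :=
          Finite.of_equiv _ (C.equivMapOfInjective _ (mapHom_injective φ)).toEquiv
        exact isCyclic_of_fix_pair _ hxy (by rintro _ ⟨z, hz, rfl⟩; exact hz)
      have : IsCyclic C := (C.equivMapOfInjective _ (mapHom_injective φ)).isCyclic.2 hcyc
      obtain ⟨z, hz⟩ := IsCyclic.exists_ofOrder_eq_natCard (α := C)
      obtain ⟨w, hw⟩ := hle z.2
      have ho : orderOf w = Nat.card C := by
        rw [← hz, ← Subgroup.orderOf_coe z, ← hw,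
          orderOf_injective _ Matrix.ProjectiveSpecialLinearGroup.toPGL_injective]
      cases nonempty_fintype F
      have h := CfsgLib.PSL2Spec.orderOf_dvd p w
      rw [ho, ← Nat.card_eq_fintype_card, hd] at h
      have hodd : Nat.card F % 2 = 1 := by
        have := Nat.gcd_dvd_right 2 (Nat.card F - 1)
        rw [hd] at this
        omega
      rcases h with h | h | h
      · rcases (Nat.dvd_prime (Fact.out : p.Prime)).1 h with h | h
        · omega
        · have hp2 : p = 2 := by
            rcases (Fact.out : p.Prime).eq_two_or_odd with h' | h' <;> omega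
          omega
      · have := Nat.le_of_dvd (by omega) h
        omega
      · have := Nat.le_of_dvd (by omega) h
        omega
    refine ⟨fun hle => hCL ((pairFix_le φ x y).trans hle), ?_⟩
    obtain ⟨z, hz, hzL⟩ := SetLike.not_le_iff_exists.1 hCL
    obtain ⟨s', hs', hs'L, hs'1⟩ : ∃ s' ∈ N, s' ∈ pslTop F ∧
        Matrix.ProjGenLinGroup.map (n := Fin 2) φ s' • x = y := by
      by_cases hsL : s ∈ pslTop F
      · exact ⟨s, hsN, hsL, hs1⟩
      · refine ⟨s * z, mul_mem hsN (pairFix_le φ x y hz),
          (Subgroup.mul_mem_iff_of_index_two hidx).2 (iff_of_false hsL hzL), ?_⟩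
        rw [map_mul, mul_smul, hz.1, hs1]
    obtain ⟨d'⟩ := dihedral_of_le φ hxy (N ⊓ pslTop F) inf_le_left ⟨s', ⟨hs', hs'L⟩, hs'1⟩
    have e : N ⊓ pslTop F ⊓ pairFix φ x y = C ⊓ pslTop F := by
      rw [inf_right_comm, show N ⊓ pairFix φ x y = C from inf_eq_right.2 (pairFix_le φ x y)]
    rw [e, show Nat.card (C ⊓ pslTop F : Subgroup (PGL2 F)) = Nat.card C / 2 by
      have := two_mul_card_inf _ C hidx hCL; omega] at d'
    exact ⟨d'⟩
  · have hi1 : g ^ i ≠ 1 := by
      rw [← hi]
      simpa [conj_eq_one_iff] using hg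
    set Φ' := Matrix.ProjGenLinGroup.map (n := Fin 2) φ
    have key : ∀ z, z = x ∨ z = y → Φ' h • z = x ∨ Φ' h • z = y := by
      intro z hz
      by_contra hcon
      push Not at hcon
      have hzf : Φ' g • z = z := by
        have : z ∈ fix (Φ' g) := by rw [hfix]; exact hz
        exact this
      have hxf : Φ' g • x = x := (hfix ▸ Or.inl rfl : x ∈ fix (Φ' g))
      have hyf : Φ' g • y = y := (hfix ▸ Or.inr rfl : y ∈ fix (Φ' g))
      have hpow : ∀ w : OnePoint K, Φ' g • w = w → Φ' (g ^ i) • w = w := fun w hw => by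
        rw [map_pow]
        exact pow_mem (show Φ' g ∈ MulAction.stabilizer _ w from hw) i
      apply hi1
      apply mapHom_injective φ
      rw [map_one]
      refine eq_one_of_fix_three hxy hcon.1.symm hcon.2.symm (hpow _ hxf) (hpow _ hyf) ?_
      rw [← hi, map_mul, map_mul, map_inv, mul_smul, mul_smul, inv_smul_smul, hzf]
    have hinj : Function.Injective (fun z : OnePoint K => Φ' h • z) := MulAction.injective _
    rcases key x (Or.inl rfl) with h1 | h1 <;> rcases key y (Or.inr rfl) with h2 | h2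
    · exact absurd (hinj (h1.trans h2.symm)) hxy
    · exact Or.inl ⟨h1, h2⟩
    · exact Or.inr ⟨h1, h2⟩
    · exact absurd (hinj (h1.trans h2.symm)) hxy

end CfsgLib.Dickson.Torus
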