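import Cfsg.Agent.Dickson.Tame
import Mathlib.GroupTheory.Sylow
import Mathlib.GroupTheory.GroupAction.Quotient

set_option autoImplicit false

/-!
Finite subgroups of `PGL₂(K)` of order divisible by the characteristic: Sylow structure and counting.
-/

namespace CfsgLib.Dickson

open OnePoint

variable {K : Type*} [Field K] [DecidableEq K]

/-- The translations lying in `H`. -/
def transl (H : Subgroup (PGL2 K)) : AddSubgroup K where
  carrier := {a | aff (1 : Kˣ) a ∈ H}
  zero_mem' := by simp [aff_one_zero]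
  add_mem' := fun {a b} ha hb => by
    have hb' : aff (1 : Kˣ) b ∈ H := hb
    have ha' : aff (1 : Kˣ) a ∈ H := ha
    have := mul_mem hb' ha'
    rw [aff_mul] at this
    simpa using this
  neg_mem' := fun {a} ha => by
    have h : aff (1 : Kˣ) (-a) = (aff (1 : Kˣ) a)⁻¹ := by
      rw [eq_inv_iff_mul_eq_one, aff_mul, aff_eq_one]; simp
    show aff (1 : Kˣ) (-a) ∈ H
    rw [h]; exact inv_mem ha

/-- The multipliers of the elements of `H` fixing `∞`. -/
def mults (H : Subgroup (PGL2 K)) : Subgroup Kˣ where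
  carrier := {u | ∃ a, aff u a ∈ H}
  one_mem' := ⟨0, by simp [aff_one_zero]⟩
  mul_mem' := fun {u v} ⟨a, ha⟩ ⟨b, hb⟩ => ⟨_, aff_mul u v a b ▸ mul_mem ha hb⟩
  inv_mem' := fun {u} ⟨a, ha⟩ => ⟨-((u⁻¹ : Kˣ) : K) * a, by
    have h : aff u⁻¹ (-((u⁻¹ : Kˣ) : K) * a) = (aff u a)⁻¹ := by
      rw [eq_inv_iff_mul_eq_one, aff_mul, aff_eq_one]; simp
    rw [h]; exact inv_mem ha⟩

theorem mem_transl {H : Subgroup (PGL2 K)} {a : K} : a ∈ transl H ↔ aff (1 : Kˣ) a ∈ H := Iff.rfl

theorem mem_mults {H : Subgroup (PGL2 K)} {u : Kˣ} : u ∈ mults H ↔ ∃ a, aff u a ∈ H := Iff.rfl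

theorem transl_finite (H : Subgroup (PGL2 K)) [Finite H] : Finite (transl H) :=
  Finite.of_injective (fun a => (⟨aff 1 a.1, a.2⟩ : H)) fun _ _ h =>
    Subtype.ext (aff_inj (congrArg Subtype.val h)).2

theorem smul_mem_transl {H : Subgroup (PGL2 K)} {u : Kˣ} {a : K} (hu : u ∈ mults H)
    (ha : a ∈ transl H) : (u : K) * a ∈ transl H := by
  obtain ⟨b, hb⟩ := hu
  have h := mul_mem (mul_mem hb ha) (inv_mem hb)
  have e : aff u b * aff 1 a * (aff u b)⁻¹ = aff 1 ((u : K) * a) := by
    rw [mul_inv_eq_iff_eq_mul, aff_mul, aff_mul]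
    congr 1 <;> simp [add_comm]
  rw [e] at h; exact h

theorem mults_finite (H : Subgroup (PGL2 K)) [Finite H] : Finite (mults H) := by
  choose a ha using fun u : mults H => u.2
  exact Finite.of_injective (fun u : mults H => (⟨aff u.1 (a u), ha u⟩ : H)) fun u v h =>
    Subtype.ext (aff_inj (congrArg Subtype.val h)).1

theorem card_stab_infty (H : Subgroup (PGL2 K)) :
    Nat.card (stab H ∞) = Nat.card (transl H) * Nat.card (mults H) := by
  choose u hu using fun g : stab H (∞ : OnePoint K) =>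
    eq_aff_of_fix_infty (mem_stab.1 g.2).2
  choose a ha using hu
  let f : stab H (∞ : OnePoint K) →* Kˣ :=
    { toFun := u
      map_one' := by
        have := ha 1
        rw [OneMemClass.coe_one, eq_comm, aff_eq_one] at this
        exact this.1
      map_mul' := fun g h => by
        have := ha (g * h)
        rw [Subgroup.coe_mul, ha g, ha h, aff_mul] at this
        exact (aff_inj this).1.symm }
  have hrange : f.range = mults H := by
    ext v
    constructor
    · rintro ⟨g, rfl⟩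
      exact ⟨a g, ha g ▸ g.2.1⟩
    · rintro ⟨b, hb⟩
      exact ⟨⟨aff v b, hb, aff_smul_infty v b⟩, (aff_inj (ha ⟨aff v b, hb, aff_smul_infty v b⟩)).1.symm⟩
  rw [Subgroup.card_eq_card_quotient_mul_card_subgroup f.ker,
    Nat.card_congr (QuotientGroup.quotientKerEquivRange f).toEquiv, hrange, mul_comm]
  congr 1
  refine Nat.card_congr
    { toFun := fun g => ⟨a g.1, by
        have h := ha g.1
        have hu1 : u g.1 = 1 := g.2
        rw [hu1] at h
        show aff 1 (a g.1) ∈ H
        rw [← h]; exact g.1.2.1⟩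
      invFun := fun t => ⟨⟨aff 1 t.1, t.2, aff_smul_infty 1 t.1⟩,
        ((aff_inj (ha ⟨aff 1 t.1, t.2, aff_smul_infty 1 t.1⟩)).1.symm : u _ = 1)⟩
      left_inv := fun g => by
        apply Subtype.ext; apply Subtype.ext
        have h := ha g.1
        have hu1 : u g.1 = 1 := g.2
        rw [hu1] at h
        exact h.symm
      right_inv := fun t => Subtype.ext (aff_inj (ha ⟨aff 1 t.1, t.2, aff_smul_infty 1 t.1⟩)).2.symm }

/-- A free action has cardinality divisible by the order of the group. -/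
theorem card_dvd_of_free {G α : Type*} [Group G] [MulAction G α] [Finite G] [Finite α]
    (h : ∀ (g : G) (a : α), g • a = a → g = 1) : Nat.card G ∣ Nat.card α := by
  classical
  let _ := Fintype.ofFinite α
  let _ := Fintype.ofFinite (MulAction.orbitRel.Quotient G α)
  rw [Nat.card_congr (MulAction.selfEquivSigmaOrbits G α), Nat.card_sigma]
  refine Finset.dvd_sum fun o _ => ?_
  show Nat.card G ∣ Nat.card (MulAction.orbit G o.out)
  have hs : MulAction.stabilizer G o.out = ⊥ :=
      (Subgroup.eq_bot_iff_forall _).2 fun g hg => h g o.out hg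
  rw [Nat.card_congr (MulAction.orbitEquivQuotientStabilizer G o.out), hs,
      Nat.card_congr (QuotientGroup.quotientBot (G := G)).toEquiv]

variable [IsAlgClosed K] (p : ℕ) [Fact p.Prime] [CharP K p]

theorem fix_singleton_of_pow {g : PGL2 K} (hg : g ≠ 1) {k : ℕ} (h : g ^ p ^ k = 1) :
    ∃ x, fix g = {x} := by
  rcases ncard_fix hg with e | e
  · exact Set.ncard_eq_one.1 e
  · exfalso
    obtain ⟨x, y, hxy, he⟩ := Set.ncard_eq_two.1 e
    have hd : orderOf g ∣ p ^ k := orderOf_dvd_of_pow_eq_one h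
    obtain ⟨j, -, hj⟩ := (Nat.dvd_prime_pow Fact.out).1 hd
    have hj0 : j ≠ 0 := by
      rintro rfl
      exact hg (orderOf_eq_one_iff.1 (by simpa using hj))
    refine not_dvd_orderOf_of_two p hxy (show x ∈ fix g by rw [he]; exact Or.inl rfl)
      (show y ∈ fix g by rw [he]; exact Or.inr rfl) ?_ (hj ▸ dvd_pow_self p hj0)
    rw [hj]; exact pow_ne_zero _ (Nat.Prime.ne_zero Fact.out)

omit [IsAlgClosed K] in
theorem unipotents_empty (H : Subgroup (PGL2 K)) [Finite H] (hp : ¬ p ∣ Nat.card H) :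
    unipotents H = ∅ := by
  rw [Set.eq_empty_iff_forall_notMem]
  rintro g ⟨hg, hg1, hc⟩
  obtain ⟨x, hx⟩ := Set.ncard_eq_one.1 hc
  exact hp (orderOf_of_fix_eq_singleton p hg1 hx ▸ H.orderOf_dvd_natCard hg)

theorem exists_sylow_fix (H : Subgroup (PGL2 K)) [Finite H] (hp : p ∣ Nat.card H) :
    ∃ (x : OnePoint K) (P : Sylow p H), ∀ g : H, g ∈ (P : Subgroup H) → (g : PGL2 K) • x = x := by
  obtain ⟨P⟩ : Nonempty (Sylow p H) := inferInstance
  have hne : Nontrivial (P : Subgroup H) := by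
    rw [Subgroup.nontrivial_iff_ne_bot]
    exact P.ne_bot_of_dvd_card hp
  have := IsPGroup.center_nontrivial P.isPGroup'
  obtain ⟨z, hz⟩ := exists_ne (1 : Subgroup.center (P : Subgroup H))
  have hz1 : ((z.1.1 : H) : PGL2 K) ≠ 1 := fun h => hz (Subtype.ext (Subtype.ext (Subtype.ext h)))
  obtain ⟨k, hk⟩ := P.isPGroup' z.1
  obtain ⟨x, hx⟩ := fix_singleton_of_pow p hz1 (k := k) (by exact_mod_cast congrArg (fun t : (P : Subgroup H) => ((t.1 : H) : PGL2 K)) hk)
  refine ⟨x, P, fun g hg => ?_⟩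
  have hzx : ((z.1.1 : H) : PGL2 K) • x = x := (show x ∈ fix _ by rw [hx]; rfl)
  have hc : (g : PGL2 K) * (z.1.1 : H) = (z.1.1 : H) * (g : PGL2 K) := congrArg
    (fun t : (P : Subgroup H) => ((t.1 : H) : PGL2 K)) (Subgroup.mem_center_iff.1 z.2 ⟨g, hg⟩)
  have : (g : PGL2 K) • x ∈ fix ((z.1.1 : H) : PGL2 K) := by
    show _ • _ = _
    rw [← mul_smul, ← hc, mul_smul, hzx]
  rw [hx] at this
  exact this

/-- `H` has a Sylow `p`-subgroup fixing `∞`. -/
def InftySylow (H : Subgroup (PGL2 K)) : Prop :=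
  p ∣ Nat.card H ∧ ∃ P : Sylow p H, ∀ g : H, g ∈ (P : Subgroup H) → (g : PGL2 K) • (∞ : OnePoint K) = ∞

variable {p}
variable {H : Subgroup (PGL2 K)} [Finite H] (hH : InftySylow p H)

theorem pElement_fix_infty {g : PGL2 K} (h1 : g • (∞ : OnePoint K) = ∞) {k : ℕ}
    (hk : g ^ p ^ k = 1) : ∃ a, g = aff (1 : Kˣ) a := by
  obtain ⟨u, a, rfl⟩ := eq_aff_of_fix_infty h1
  by_cases hu : u = 1
  · exact ⟨a, by rw [hu]⟩
  · exfalso
    have hne : aff u a ≠ 1 := fun h => hu (aff_eq_one.1 h).1
    obtain ⟨x, hx⟩ := fix_singleton_of_pow p hne hk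
    have hn := congrArg Set.ncard (fix_aff_ne_one hu a)
    rw [hx, Set.ncard_singleton, Set.ncard_pair (infty_ne_coe _)] at hn
    omega

omit [IsAlgClosed K] in
/-- The translations in `H`, as a subgroup of `H`. -/
def translGroup (H : Subgroup (PGL2 K)) : Subgroup H where
  carrier := {g | ∃ a, (g : PGL2 K) = aff (1 : Kˣ) a}
  one_mem' := ⟨0, by simp [aff_one_zero]⟩
  mul_mem' := fun {g h} ⟨a, ha⟩ ⟨b, hb⟩ => ⟨b + a, by rw [Subgroup.coe_mul, ha, hb, aff_mul]; simp⟩
  inv_mem' := fun {g} ⟨a, ha⟩ => ⟨-a, by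
    rw [Subgroup.coe_inv, ha, inv_eq_iff_mul_eq_one, aff_mul, aff_eq_one]; simp⟩

omit [IsAlgClosed K] [Fact p.Prime] in
theorem translGroup_isPGroup (H : Subgroup (PGL2 K)) : IsPGroup p (translGroup H) := fun ⟨g, a, ha⟩ =>
  ⟨1, Subtype.ext (Subtype.ext (by
    simp only [SubmonoidClass.coe_pow, pow_one]
    show (g : PGL2 K) ^ p = 1
    rw [ha, aff_one_pow, CharP.cast_eq_zero, zero_mul, aff_one_zero]))⟩

omit [Finite H] in
include hH in
theorem translGroup_sylow : ∃ P : Sylow p H, (P : Subgroup H) = translGroup H := by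
  obtain ⟨-, P, hP⟩ := hH
  refine ⟨P, (P.is_maximal' (translGroup_isPGroup H) fun g hg => ?_).symm⟩
  obtain ⟨k, hk⟩ := P.isPGroup' ⟨g, hg⟩
  exact pElement_fix_infty (hP g hg) (k := k)
    (by simpa using congrArg (fun t : (P : Subgroup H) => ((t.1 : H) : PGL2 K)) hk)

omit [IsAlgClosed K] [Finite H] in
theorem card_translGroup : Nat.card (translGroup H) = Nat.card (transl H) := Nat.card_congr
  { toFun := fun g => ⟨Classical.choose g.2, by
      show aff 1 _ ∈ H
      rw [← Classical.choose_spec g.2]; exact g.1.2⟩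
    invFun := fun t => ⟨⟨aff 1 t.1, t.2⟩, t.1, rfl⟩
    left_inv := fun g => Subtype.ext (Subtype.ext (Classical.choose_spec g.2).symm)
    right_inv := fun t => Subtype.ext
      (aff_inj (Classical.choose_spec (⟨t.1, rfl⟩ : ∃ a, aff (1 : Kˣ) t.1 = aff 1 a))).2.symm }

include hH in
theorem exists_card_transl : ∃ f : ℕ, 1 ≤ f ∧ Nat.card (transl H) = p ^ f := by
  obtain ⟨P, hP⟩ := translGroup_sylow hH
  refine ⟨(Nat.card H).factorization p, ?_, by rw [← card_translGroup, ← hP, P.card_eq_multiplicity]⟩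
  exact Nat.Prime.factorization_pos_of_dvd Fact.out Nat.card_pos.ne' hH.1

include hH in
theorem two_le_card_transl : 2 ≤ Nat.card (transl H) := by
  obtain ⟨f, hf, e⟩ := exists_card_transl hH
  rw [e]
  exact le_trans (Fact.out : p.Prime).two_le (Nat.le_self_pow (by omega) p)

include hH in
theorem exists_ne_zero_transl : ∃ a ∈ transl H, a ≠ 0 := by
  have := two_le_card_transl hH
  have : Finite (transl H) := transl_finite H
  have : Nontrivial (transl H) := Finite.one_lt_card_iff_nontrivial.1 (by omega)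
  obtain ⟨a, ha⟩ := exists_ne (0 : transl H)
  exact ⟨a, a.2, fun h => ha (Subtype.ext h)⟩

include hH in
/-- Every unipotent element is conjugate in `H` to a translation. -/
theorem unipotent_conj {u : PGL2 K} (hu : u ∈ unipotents H) :
    ∃ h ∈ H, ∃ a ∈ transl H, a ≠ 0 ∧ u = h * aff 1 a * h⁻¹ := by
  obtain ⟨hmem, hu1, hc⟩ := hu
  obtain ⟨x, hx⟩ := Set.ncard_eq_one.1 hc
  have ho := orderOf_of_fix_eq_singleton p hu1 hx
  have ho' : orderOf (⟨u, hmem⟩ : H) = p := by
    rw [← Subgroup.orderOf_coe]; exact ho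
  obtain ⟨Q, hQ⟩ := (IsPGroup.of_card (p := p) (n := 1) (G := Subgroup.zpowers (⟨u, hmem⟩ : H))
    (by rw [Nat.card_zpowers, ho', pow_one])).exists_le_sylow
  obtain ⟨P, hP⟩ := translGroup_sylow hH
  obtain ⟨h, hh⟩ := MulAction.exists_smul_eq H P Q
  have hQu := hQ (Subgroup.mem_zpowers _)
  rw [← hh, Sylow.coe_subgroup_smul, Subgroup.mem_pointwise_smul_iff_inv_smul_mem, hP] at hQu
  obtain ⟨a, ha⟩ := hQu
  have e : u = (h : PGL2 K) * aff 1 a * (h : PGL2 K)⁻¹ := by
    rw [← ha]
    simp [mul_assoc]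
  refine ⟨h, h.2, a, ?_, fun h0 => hu1 ?_, e⟩
  · show aff 1 a ∈ H
    have : aff 1 a = (h : PGL2 K)⁻¹ * u * h := by rw [e]; group
    rw [this]; exact mul_mem (mul_mem (inv_mem h.2) hmem) h.2
  · rw [e, h0, aff_one_zero]; group

include hH in
theorem card_unipotents :
    (unipotents H).ncard + (orb H ∞).ncard = Nat.card (transl H) * (orb H ∞).ncard := by
  classical
  have hUfin : (unipotents H).Finite :=
    (Set.finite_range (Subtype.val : H → PGL2 K)).subset fun g hg => ⟨⟨g, hg.1⟩, rfl⟩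
  have hOfin : (orb H (∞ : OnePoint K)).Finite := Set.finite_range _
  have hT : (transl H : Set K).Finite := Set.finite_coe_iff.1 (transl_finite H)
  have hq : Nat.card (transl H) = (transl H : Set K).ncard := Nat.card_coe_set_eq _
  -- each fibre over a point of the orbit has `q - 1` elements
  have hfib : ∀ y ∈ orb H (∞ : OnePoint K),
      {u ∈ unipotents H | fix u = {y}}.ncard + 1 = Nat.card (transl H) := by
    intro y hy
    obtain ⟨h, hh, rfl⟩ := mem_orb.1 hy
    have e : {u ∈ unipotents H | fix u = {h • ∞}} =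
        (fun a => h * aff 1 a * h⁻¹) '' ((transl H : Set K) \ {0}) := by
      ext u
      constructor
      · rintro ⟨hu, hf⟩
        obtain ⟨g, hg, a, ha, ha0, rfl⟩ := unipotent_conj hH hu
        rw [fix_conj, fix_aff_one ha0, Set.image_singleton, Set.singleton_eq_singleton_iff] at hf
        have hfix : (h⁻¹ * g) • (∞ : OnePoint K) = ∞ := by rw [mul_smul, hf, inv_smul_smul]
        obtain ⟨v, b, hvb⟩ := eq_aff_of_fix_infty hfix
        have hv : v ∈ mults H := ⟨b, hvb ▸ mul_mem (inv_mem hh) hg⟩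
        refine ⟨(v : K) * a, ⟨smul_mem_transl hv ha, mul_ne_zero v.ne_zero ha0⟩, ?_⟩
        have e : aff 1 ((v : K) * a) = (h⁻¹ * g) * aff 1 a * (h⁻¹ * g)⁻¹ := by
          rw [hvb, eq_mul_inv_iff_mul_eq, aff_mul, aff_mul]
          congr 1 <;> simp [add_comm]
        show h * aff 1 ((v : K) * a) * h⁻¹ = g * aff 1 a * g⁻¹
        rw [e]; group
      · rintro ⟨a, ⟨ha, ha0⟩, rfl⟩
        have hf : fix (h * aff 1 a * h⁻¹) = {h • ∞} := by
          rw [fix_conj, fix_aff_one (by simpa using ha0), Set.image_singleton]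
        refine ⟨⟨mul_mem (mul_mem hh ha) (inv_mem hh), ?_, by rw [hf, Set.ncard_singleton]⟩, hf⟩
        rw [Ne, mul_inv_eq_one, mul_eq_left, aff_eq_one]
        simpa using ha0
    rw [e, Set.ncard_image_of_injective _ (fun a b hab => (aff_inj (mul_left_cancel (mul_right_cancel hab))).2),
      Set.ncard_sdiff_singleton_add_one (show (0 : K) ∈ (transl H : Set K) from zero_mem _) hT, hq]
  let fp : PGL2 K → OnePoint K := fun u => if hn : (fix u).Nonempty then hn.some else ∞
  have hfp : ∀ u ∈ unipotents H, fix u = {fp u} := by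
    intro u hu
    obtain ⟨x, hx⟩ := Set.ncard_eq_one.1 hu.2.2
    have hne : (fix u).Nonempty := ⟨x, hx ▸ rfl⟩
    have : hne.some ∈ ({x} : Set (OnePoint K)) := hx ▸ hne.some_mem
    simp only [fp, dif_pos hne]
    rw [Set.mem_singleton_iff.1 this, hx]
  have hmaps : ∀ u ∈ hUfin.toFinset, fp u ∈ hOfin.toFinset := by
    intro u hu
    rw [Set.Finite.mem_toFinset] at hu ⊢
    obtain ⟨h, hh, a, -, ha0, rfl⟩ := unipotent_conj hH hu
    have := hfp _ hu
    rw [fix_conj, fix_aff_one ha0, Set.image_singleton, Set.singleton_eq_singleton_iff] at this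
    exact mem_orb.2 ⟨h, hh, this⟩
  rw [Set.ncard_eq_toFinset_card _ hUfin, Set.ncard_eq_toFinset_card _ hOfin,
    Finset.card_eq_sum_card_fiberwise hmaps]
  have hterm : ∀ y ∈ hOfin.toFinset,
      ({u ∈ hUfin.toFinset | fp u = y}).card + 1 = Nat.card (transl H) := by
    intro y hy
    rw [Set.Finite.mem_toFinset] at hy
    rw [← hfib y hy, ← Set.ncard_coe_finset]
    congr 2
    ext u
    simp only [Finset.coe_filter, Set.Finite.mem_toFinset, Set.mem_ofPred_eq]
    exact ⟨fun ⟨hu, he⟩ => ⟨hu, he ▸ hfp u hu⟩, fun ⟨hu, he⟩ => ⟨hu,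
      Set.singleton_eq_singleton_iff.1 ((hfp u hu).symm.trans he)⟩⟩
  have := Finset.sum_congr rfl hterm
  rw [Finset.sum_add_distrib, Finset.sum_const, Finset.sum_const, smul_eq_mul, smul_eq_mul, mul_one] at this
  rw [this, mul_comm]

include hH in
theorem infty_mem_special : (∞ : OnePoint K) ∈ special H := by
  obtain ⟨a, ha, ha0⟩ := exists_ne_zero_transl hH
  exact ⟨_, ha, fun h => ha0 (aff_eq_one.1 h).2, aff_smul_infty _ _⟩

omit [IsAlgClosed K] [Fact p.Prime] [CharP K p] in
theorem dvd_orb_sub_one : Nat.card (transl H) ∣ (orb H ∞).ncard - 1 := by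
  classical
  have : Finite (transl H) := transl_finite H
  have hfin : (orb H (∞ : OnePoint K)).Finite := Set.finite_range _
  let S := {x : K // (x : OnePoint K) ∈ orb H ∞}
  have : Finite (orb H (∞ : OnePoint K)) := hfin.to_subtype
  have : Finite S := Finite.of_injective (fun x : S => (⟨(x.1 : OnePoint K), x.2⟩ : orb H (∞ : OnePoint K)))
    (fun x y h => Subtype.ext (coe_injective (congrArg Subtype.val h)))
  let _ : MulAction (Multiplicative (transl H)) S :=
    { smul := fun t x => ⟨(t.toAdd : K) + x.1, by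
        obtain ⟨g, hg, he⟩ := mem_orb.1 x.2
        refine mem_orb.2 ⟨aff 1 (t.toAdd : K) * g, mul_mem t.toAdd.2 hg, ?_⟩
        rw [mul_smul, he, aff_smul_coe]
        congr 1
        simp [add_comm]⟩
      one_smul := fun x => Subtype.ext (zero_add x.1)
      mul_smul := fun s t x => Subtype.ext (add_assoc (s.toAdd : K) t.toAdd x.1) }
  have hfree : ∀ (t : Multiplicative (transl H)) (x : S), t • x = x → t = 1 := by
    intro t x h
    have h' : (t.toAdd : K) + x.1 = x.1 := congrArg Subtype.val h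
    exact Multiplicative.toAdd.injective (Subtype.ext (add_eq_right.1 h'))
  have h1 := card_dvd_of_free hfree
  rw [Nat.card_congr Multiplicative.toAdd] at h1
  convert h1 using 1
  have e : orb H (∞ : OnePoint K) \ {∞} = (fun x : K => (x : OnePoint K)) '' {x | (x : OnePoint K) ∈ orb H ∞} := by
    ext y
    rcases y with _ | y
    · exact iff_of_false (fun h => h.2 rfl) (fun ⟨x, _, hx⟩ => coe_ne_infty x hx)
    · exact ⟨fun h => ⟨y, h.1, rfl⟩, fun ⟨x, hx, he⟩ => ⟨coe_injective he ▸ hx, coe_ne_infty y⟩⟩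
  rw [← Set.ncard_sdiff_singleton_of_mem (mem_orb_self H ∞), e,
    Set.ncard_image_of_injective _ coe_injective, ← Nat.card_coe_set_eq]
  rfl

omit [IsAlgClosed K] [Fact p.Prime] [CharP K p] in
theorem card_mults_dvd : Nat.card (mults H) ∣ Nat.card (transl H) - 1 := by
  classical
  have : Finite (transl H) := transl_finite H
  have : Finite (mults H) := mults_finite H
  let S := {a : transl H // a ≠ 0}
  let _ : MulAction (mults H) S :=
    { smul := fun u a => ⟨⟨(u.1 : K) * a.1.1, smul_mem_transl u.2 a.1.2⟩, fun h =>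
        (mul_ne_zero u.1.ne_zero fun h0 => a.2 (Subtype.ext h0)) (congrArg Subtype.val h)⟩
      one_smul := fun a => Subtype.ext (Subtype.ext (one_mul a.1.1))
      mul_smul := fun u v a => Subtype.ext (Subtype.ext (mul_assoc (u.1 : K) v.1 a.1.1)) }
  have hfree : ∀ (u : mults H) (a : S), u • a = a → u = 1 := by
    intro u a h
    have h' : (u.1 : K) * a.1.1 = a.1.1 := congrArg (fun s : S => s.1.1) h
    exact Subtype.ext (Units.ext (mul_right_cancel₀ (fun h0 => a.2 (Subtype.ext h0)) (h'.trans (one_mul _).symm)))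
  have h1 := card_dvd_of_free hfree
  let _ := Fintype.ofFinite (transl H)
  rwa [Nat.card_eq_fintype_card (α := S), Fintype.card_subtype_compl, Fintype.card_subtype_eq,
    ← Nat.card_eq_fintype_card] at h1

theorem wild_arith {q c m e : ℕ} (hq : 2 ≤ q) (hc : c ∣ q - 1) (hm : q ∣ m - 1) (hm1 : 2 ≤ m)
    (he : e * ((q - 2) * m + 2) = q * c * m) :
    (q = 2 ∧ c = 1 ∧ e = m) ∨ (q = 3 ∧ c = 2 ∧ m = 10 ∧ e = 5) ∨
      (m = q + 1 ∧ (2 * c = q - 1 ∨ c = q - 1)) := by
  obtain ⟨k, hk⟩ := hm
  obtain ⟨r, rfl⟩ : ∃ r, q = r + 2 := ⟨q - 2, by omega⟩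
  simp only [show r + 2 - 2 = r by omega, show r + 2 - 1 = r + 1 by omega] at *
  have hm' : m = (r + 2) * k + 1 := by omega
  have hcle : c ≤ r + 1 := Nat.le_of_dvd (by omega) hc
  have hc0 : 0 < c := Nat.pos_of_dvd_of_pos hc (by omega)
  have hk0 : 1 ≤ k := by
    rcases k with _ | k
    · simp at hm'; omega
    · omega
  rcases Nat.eq_zero_or_pos r with rfl | hr
  · left
    obtain rfl : c = 1 := by omega
    simp at he
    omega
  right
  -- the quantity `d = q c - e (q - 2)`
  have he0 : 0 < e := by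
    refine Nat.pos_of_ne_zero fun h => ?_
    subst h
    have : 0 < (r + 2) * c * m := by positivity
    omega
  have hlt : e * r < (r + 2) * c := by
    by_contra hge
    have h1 : (r + 2) * c * m ≤ e * r * m := Nat.mul_le_mul_right m (not_lt.1 hge)
    nlinarith
  obtain ⟨d, hd⟩ : ∃ d, (r + 2) * c = e * r + d := ⟨_, (Nat.add_sub_cancel' hlt.le).symm⟩
  have hd0 : 1 ≤ d := by omega
  have h2e : 2 * e = d * m := by nlinarith
  have h2c : 2 * c = d * (1 + k * r) := by
    have : 2 * ((r + 2) * c) = (r + 2) * (d * (1 + k * r)) := by rw [hm'] at h2e; nlinarith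
    nlinarith
  rcases Nat.lt_or_ge k 2 with hk2 | hk2
  · right
    obtain rfl : k = 1 := by omega
    refine ⟨by omega, ?_⟩
    have hd3 : d < 3 := by nlinarith
    interval_cases d <;> omega
  · left
    have hd1 : d = 1 := by
      by_contra hne
      have h1 : 1 + 2 * r ≤ 1 + k * r := by nlinarith
      have := Nat.mul_le_mul (show 2 ≤ d by omega) h1
      omega
    subst hd1
    obtain ⟨t, ht⟩ := hc
    have ht1 : t = 1 := by
      rcases t with _ | _ | t
      · simp at ht
      · rfl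
      · exfalso; nlinarith
    subst ht1
    obtain rfl : c = r + 1 := by omega
    have hr1 : r = 1 := by
      by_contra hne
      rcases Nat.lt_or_ge k 3 with hk3 | hk3
      · obtain rfl : k = 2 := by omega
        omega
      · have := Nat.mul_le_mul_right r hk3
        omega
    subst hr1
    omega

include hH in
/-- The shapes of a finite subgroup with a non-trivial Sylow `p`-subgroup fixing `∞`. -/
theorem wild :
    (∀ g ∈ H, g • (∞ : OnePoint K) = ∞) ∨
    (Nat.card (transl H) = 2 ∧ ∃ n, Odd n ∧ Nat.card H = 2 * n ∧ Nonempty (H ≃* DihedralGroup n)) ∨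
    (Nat.card (transl H) = 3 ∧ Nat.card H = 60 ∧ Nonempty (H ≃* alternatingGroup (Fin 5))) ∨
    ((orb H ∞).ncard = Nat.card (transl H) + 1 ∧
      (2 * Nat.card (mults H) = Nat.card (transl H) - 1 ∨ Nat.card (mults H) = Nat.card (transl H) - 1) ∧
      Nat.card H = Nat.card (transl H) * Nat.card (mults H) * (Nat.card (transl H) + 1)) := by
  classical
  obtain ⟨T, hT, hcov, huniq, hcount⟩ := counting H
  obtain ⟨t0, ht0, ht0'⟩ := hcov ∞ (infty_mem_special hH)
  have horb : orb H t0 = orb H ∞ := (orb_eq_of_mem ht0').symm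
  have hU := card_unipotents hH
  have hq2 := two_le_card_transl hH
  have hN := card_orb_mul_card_stab H (∞ : OnePoint K)
  rw [card_stab_infty] at hN
  set m := (orb H (∞ : OnePoint K)).ncard with hm
  set q := Nat.card (transl H) with hq
  set c := Nat.card (mults H) with hc
  set N := Nat.card H with hNdef
  have hm0 : 0 < m := (Set.ncard_pos (Set.finite_range _)).2 ⟨∞, mem_orb_self H ∞⟩
  have hN0 : 0 < N := Nat.card_pos
  by_cases hm1 : m = 1
  · left
    intro g hg
    obtain ⟨z, hz⟩ := Set.ncard_eq_one.1 (hm ▸ hm1)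
    have e1 : g • (∞ : OnePoint K) ∈ orb H ∞ := mem_orb.2 ⟨g, hg, rfl⟩
    have e2 := mem_orb_self H (∞ : OnePoint K)
    rw [hz, Set.mem_singleton_iff] at e1 e2
    rw [e1, e2]
  right
  rw [← Finset.add_sum_erase _ _ ht0, horb, ← hm] at hcount
  have hhalf : ∀ t ∈ T.erase t0, 2 * (orb H t).ncard ≤ N := fun t ht => by
    have h1 := card_orb_mul_card_stab H t
    have h2 := two_le_card_stab (hT t (Finset.mem_of_mem_erase ht))
    rw [← hNdef] at h1
    nlinarith
  have hsum := Finset.sum_le_sum hhalf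
  rw [← Finset.mul_sum, Finset.sum_const, smul_eq_mul, Finset.card_erase_of_mem ht0] at hsum
  have hr0 : 0 < T.card := Finset.card_pos.2 ⟨t0, ht0⟩
  obtain ⟨r, hr⟩ : ∃ r, T.card = r + 1 := ⟨T.card - 1, by omega⟩
  rw [hr] at hsum hcount
  simp only [Nat.add_sub_cancel] at hsum
  obtain hr' | hr' | hr' : r = 0 ∨ r = 1 ∨ 2 ≤ r := by omega
  · exfalso
    subst hr'
    have : T.erase t0 = ∅ := by
      rw [← Finset.card_eq_zero, Finset.card_erase_of_mem ht0, hr]
    rw [this, Finset.sum_empty] at hcount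
    obtain ⟨k, hk⟩ := dvd_orb_sub_one (H := H)
    rw [← hq, ← hm] at hk
    have hk0 : 1 ≤ k := by
      rcases k with _ | k
      · simp at hk; omega
      · omega
    have hm2 : q + 1 ≤ m := by
      have : q * 1 ≤ q * k := Nat.mul_le_mul_left q hk0
      omega
    have hc0 : 1 ≤ c := by
      have : Finite (mults H) := mults_finite H
      exact Nat.card_pos
    nlinarith
  swap
  · exfalso; nlinarith
  subst hr'
  obtain ⟨y, hy⟩ := Finset.card_eq_one.1 (show (T.erase t0).card = 1 by rw [Finset.card_erase_of_mem ht0, hr])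
  rw [hy, Finset.sum_singleton] at hcount
  have hyT : y ∈ T ∧ y ≠ t0 := by
    have : y ∈ T.erase t0 := by rw [hy]; exact Finset.mem_singleton_self y
    exact ⟨Finset.mem_of_mem_erase this, (Finset.mem_erase.1 this).1⟩
  have hyorb : y ∉ orb H ∞ := fun h => hyT.2 (huniq y hyT.1 t0 ht0 (horb ▸ h))
  set s := (orb H y).ncard with hs
  set e := Nat.card (stab H y) with he
  have hse : s * e = N := card_orb_mul_card_stab H y
  have hsval : s + 2 * m = q * m + 2 := by omega
  have hsval' : s = (q - 2) * m + 2 := by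
    rw [Nat.sub_mul]
    have : 2 * m ≤ q * m := Nat.mul_le_mul_right m hq2
    omega
  have he' : e * ((q - 2) * m + 2) = q * c * m := by rw [← hsval', mul_comm, hse, ← hN, mul_comm]
  rcases wild_arith hq2 (card_mults_dvd (H := H)) (dvd_orb_sub_one (H := H)) (by omega) he' with
    ⟨hq', hc', hem⟩ | ⟨hq', hc', hm', he5⟩ | ⟨hm', hcc⟩
  · left
    replace hc' : c = 1 := hc'
    replace hem : e = m := hem
    refine ⟨hq', m, ?_, by rw [← hN, hq', hc']; ring, ?_⟩
    · obtain ⟨k, hk⟩ := dvd_orb_sub_one (H := H)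
      rw [← hq, ← hm, hq'] at hk
      exact ⟨k, by omega⟩
    · obtain ⟨a, b, hab, hab'⟩ := Set.ncard_eq_two.1 (show (orb H y).ncard = 2 by rw [← hs, hsval', hq']; simp)
      obtain ⟨z, hz, hyz⟩ : ∃ z, orb H y = {y, z} ∧ y ≠ z := by
        have := mem_orb_self H y
        rw [hab'] at this
        rcases this with rfl | this
        · exact ⟨b, hab', hab⟩
        · rw [Set.mem_singleton_iff] at this; subst this
          exact ⟨a, by rw [hab', Set.pair_comm], hab.symm⟩
      rw [← hem, he]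
      obtain ⟨g0, hg0, hg0'⟩ := mem_orb.1 (show z ∈ orb H y by rw [hz]; exact Or.inr rfl)
      refine dihedral_of_pair H hyz (fun g hg => ?_) ⟨g0, hg0, hg0'⟩
      have e1 : g • y ∈ orb H y := mem_orb.2 ⟨g, hg, rfl⟩
      have e2 : g • z ∈ orb H y := mem_orb.2 ⟨g * g0, mul_mem hg hg0, by rw [mul_smul, hg0']⟩
      have e3 : g • y ≠ g • z := fun h => hyz (MulAction.injective g h)
      rw [hz] at e1 e2
      simp only [Set.mem_insert_iff, Set.mem_singleton_iff] at e1 e2
      rcases e1 with e1 | e1 <;> rcases e2 with e2 | e2 <;> rw [e1, e2] at e3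
      · exact absurd rfl e3
      · exact Or.inl ⟨e1, e2⟩
      · exact Or.inr ⟨e1, e2⟩
      · exact absurd rfl e3
  · right; left
    replace hc' : c = 2 := hc'
    replace hm' : m = 10 := hm'
    refine ⟨hq', by rw [← hN, hq', hc', hm'], ?_⟩
    exact a5_of_stab H (by rw [← hNdef, ← hN, hq', hc', hm']) y (by rw [← he, he5])
  · right; right
    replace hm' : m = q + 1 := hm'
    exact ⟨hm', hcc, by rw [← hN, hm']; ring⟩

end CfsgLib.Dickson
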